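import Cfsg.Agent.Lib.Helper26.FrobSection

/-!
# Group theoretic facts on Frobenius kernels (for Sibley's coherence theorem)
`K` is a normal subgroup of the finite group `L` with `C_L(k) ≤ K` for all `1 ≠ k ∈ K`.
-/

set_option autoImplicit false

namespace Cfsg.Agent.Lib.Helper26.FrobKer

open scoped commutatorElement

variable {L : Type*} [Group L]

/-- the commutator map with an element outside the kernel is injective on the kernel -/
theorem comm_inj (K : Subgroup L)
    (hC : ∀ k ∈ K, k ≠ 1 → Subgroup.centralizer ({k} : Set L) ≤ K) {x : L} (hx : x ∉ K) :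
    ∀ a ∈ K, ∀ b ∈ K, x * a * x⁻¹ * a⁻¹ = x * b * x⁻¹ * b⁻¹ → a = b := by
  intro a ha b hb h
  by_contra hab
  have hne : b⁻¹ * a ≠ 1 := by
    intro h'
    apply hab
    rw [inv_mul_eq_one] at h'
    exact h'.symm
  apply hx
  apply hC (b⁻¹ * a) (K.mul_mem (K.inv_mem hb) ha) hne
  rw [Subgroup.mem_centralizer_singleton_iff]
  have h1 : a * x⁻¹ * a⁻¹ = b * x⁻¹ * b⁻¹ := by
    have := congrArg (fun t => x⁻¹ * t) h
    simpa [mul_assoc] using this
  calc x * (b⁻¹ * a) = x * (b⁻¹ * (a * x⁻¹ * a⁻¹) * a) * x := by group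
    _ = x * (b⁻¹ * (b * x⁻¹ * b⁻¹) * a) * x := by rw [h1]
    _ = (b⁻¹ * a) * x := by group

/-- the Frobenius property passes to quotients -/
theorem frob_quot [Finite L] (K N : Subgroup L) [hN : N.Normal] (hNK : N ≤ K)
    (hC : ∀ k ∈ K, k ≠ 1 → Subgroup.centralizer ({k} : Set L) ≤ K) :
    ∀ k ∈ K, k ∉ N → ∀ x : L, x * k * x⁻¹ * k⁻¹ ∈ N → x ∈ K := by
  intro k hk hkN x hx
  by_contra hxK
  let f : N → N := fun n => ⟨x * n * x⁻¹ * (n : L)⁻¹, N.mul_mem (hN.conj_mem n n.2 x) (N.inv_mem n.2)⟩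
  have hf : Function.Injective f := fun a b h =>
    Subtype.ext (comm_inj K hC hxK a (hNK a.2) b (hNK b.2) (congrArg Subtype.val h))
  obtain ⟨n, hn⟩ := Finite.surjective_of_injective hf ⟨_, hx⟩
  have := comm_inj K hC hxK n (hNK n.2) k hk (congrArg Subtype.val hn)
  exact hkN (this ▸ n.2)

/-- `|L:K|` divides `|Z| - 1` for `Z` normal in `L` and central in `K` -/
theorem index_dvd_card_sub_one [Finite L] (K Z : Subgroup L) [hZ : Z.Normal] (hZK : Z ≤ K)
    (hZc : ∀ z ∈ Z, ∀ k ∈ K, z * k = k * z)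
    (hC : ∀ k ∈ K, k ≠ 1 → Subgroup.centralizer ({k} : Set L) ≤ K) :
    K.index ∣ Nat.card Z - 1 := by
  classical
  let _ : MulAction L Z := MulAction.compHom Z (MulAut.conjNormal (H := Z))
  have hsmul : ∀ (g : L) (q : Z), ((g • q : Z) : L) = g * q * g⁻¹ := fun g q => rfl
  set X : Set Z := Set.univ \ {1} with hX
  have hcard : X.ncard = Nat.card Z - 1 := by
    rw [hX, Set.ncard_sdiff_singleton_of_mem (Set.mem_univ _), Set.ncard_univ]
  rw [← hcard]
  apply FrobSection.dvd_ncard_of_orbits (G := L) K.index _ X (Set.toFinite _) le_rfl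
  · rintro g q ⟨-, hq1⟩
    refine ⟨Set.mem_univ _, ?_⟩
    rw [Set.mem_singleton_iff] at *
    intro h
    apply hq1
    have h' := congrArg Subtype.val h
    rw [hsmul, Subgroup.coe_one, conj_eq_one_iff] at h'
    exact Subtype.ext h'
  · rintro q ⟨-, hq1⟩
    have hq1' : (q : L) ≠ 1 := fun h => hq1 (Subtype.ext h)
    rw [← MulAction.index_stabilizer]
    congr 1
    ext g
    rw [MulAction.mem_stabilizer_iff, Subtype.ext_iff, hsmul]
    constructor
    · intro h
      apply hC q (hZK q.2) hq1'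
      rw [Subgroup.mem_centralizer_singleton_iff]
      calc g * q = g * q * g⁻¹ * g := by group
        _ = q * g := by rw [h]
    · intro hg
      rw [← hZc q q.2 g hg, mul_inv_cancel_right]

/-- a nonabelian nilpotent normal subgroup contains a nontrivial normal subgroup of `L` inside its
commutator subgroup and its centre -/
theorem exists_central (K : Subgroup L) [K.Normal] (hnil : Group.IsNilpotent K)
    (hne : ⁅K, K⁆ ≠ ⊥) :
    ∃ Z : Subgroup L, Z.Normal ∧ Z ≠ ⊥ ∧ Z ≤ ⁅K, K⁆ ∧ ∀ z ∈ Z, ∀ k ∈ K, z * k = k * z := by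
  classical
  have hex : ∃ n, K.lowerCentralSeries n = ⊥ := by
    obtain ⟨n, hn⟩ := Subgroup.nilpotent_iff_lowerCentralSeries.1 hnil
    refine ⟨n, ?_⟩
    rw [← Subgroup.top_subtype_lowerCentralSeries, hn, Subgroup.map_bot]
  have h1 : K.lowerCentralSeries 1 = ⁅K, K⁆ := by
    rw [Subgroup.lowerCentralSeries_succ, Subgroup.lowerCentralSeries_zero]
  set n := Nat.find hex with hn
  have hn0 : K.lowerCentralSeries n = ⊥ := Nat.find_spec hex
  have hmin : ∀ m, m < n → K.lowerCentralSeries m ≠ ⊥ := fun m hm => Nat.find_min hex hm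
  have hn2 : 2 ≤ n := by
    by_contra hlt
    have hle : n ≤ 1 := by omega
    apply hne
    rw [← h1, eq_bot_iff, ← hn0]
    exact Subgroup.lowerCentralSeries_antitone K hle
  obtain ⟨m, hm⟩ : ∃ m, n = m + 2 := ⟨n - 2, by omega⟩
  refine ⟨K.lowerCentralSeries (m + 1), inferInstance, hmin _ (by omega), ?_, ?_⟩
  · rw [← h1]
    exact Subgroup.lowerCentralSeries_antitone K (by omega)
  · intro z hz k hk
    have h2 : ⁅z, k⁆ ∈ K.lowerCentralSeries (m + 1 + 1) := by
      rw [Subgroup.lowerCentralSeries_succ]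
      exact Subgroup.commutator_mem_commutator hz hk
    have h3 : m + 1 + 1 = n := by omega
    rw [h3, hn0, Subgroup.mem_bot, commutatorElement_def] at h2
    calc z * k = z * k * z⁻¹ * k⁻¹ * (k * z) := by group
      _ = k * z := by rw [h2, one_mul]

/-- the commutator subgroup of a nontrivial nilpotent subgroup is proper -/
theorem comm_lt (K : Subgroup L) [K.Normal] (hnil : Group.IsNilpotent K) (hne : K ≠ ⊥) : ⁅K, K⁆ < K := by
  refine lt_of_le_of_ne (Subgroup.commutator_le_left K K) ?_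
  intro heq
  obtain ⟨n, hn⟩ := Subgroup.nilpotent_iff_lowerCentralSeries.1 hnil
  have hn' : K.lowerCentralSeries n = ⊥ := by
    rw [← Subgroup.top_subtype_lowerCentralSeries, hn, Subgroup.map_bot]
  have key : ∀ m, K.lowerCentralSeries m = K := by
    intro m
    induction m with
    | zero => exact Subgroup.lowerCentralSeries_zero K
    | succ m ih => rw [Subgroup.lowerCentralSeries_succ, ih, heq]
  exact hne ((key n).symm.trans hn')

end Cfsg.Agent.Lib.Helper26.FrobKer
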