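import Mathlib

/-!
# Group theory for Frobenius-type sections `L / H₁` with kernel `K / H₁` (Peterfalvi 6.5)
-/

set_option autoImplicit false

namespace Cfsg.Agent.Lib.Helper26.FrobSection

open scoped commutatorElement

/-- if all orbits in an invariant finite set have `e` elements, `e` divides its cardinality -/
theorem dvd_ncard_of_orbits {G α : Type*} [Group G] [MulAction G α] (e : ℕ) :
    ∀ (n : ℕ) (X : Set α), X.Finite → X.ncard ≤ n → (∀ g : G, ∀ x ∈ X, g • x ∈ X) →
      (∀ x ∈ X, (MulAction.orbit G x).ncard = e) → e ∣ X.ncard := by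
  intro n
  induction n with
  | zero =>
    intro X _ hn _ _
    rw [Nat.le_zero.1 hn]
    exact dvd_zero e
  | succ n ih =>
    intro X hfin hn hinv hst
    rcases X.eq_empty_or_nonempty with rfl | ⟨x, hx⟩
    · simp
    · have hsub : MulAction.orbit G x ⊆ X := by
        rintro _ ⟨g, rfl⟩
        exact hinv g x hx
      have hcard := Set.ncard_sdiff_add_ncard_of_subset hsub hfin
      have hpos : 0 < (MulAction.orbit G x).ncard :=
        (Set.ncard_pos (hfin.subset hsub)).2 ⟨x, MulAction.mem_orbit_self x⟩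
      have h1 := ih (X \ MulAction.orbit G x) (hfin.subset Set.sdiff_subset) (by omega)
        (by
          intro g y hy
          refine ⟨hinv g y hy.1, fun h => hy.2 ?_⟩
          have : y = g⁻¹ • (g • y) := by simp
          rw [this]
          exact MulAction.mem_orbit_of_mem_orbit g⁻¹ h)
        (fun y hy => hst y hy.1)
      rw [← hcard, hst x hx]
      exact Dvd.dvd.add h1 dvd_rfl

variable {L : Type*} [Group L] [Finite L]

/-- `|L:K|` divides `|N:H₁| - 1` -/
theorem dvd_relIndex_sub_one (K H₁ N : Subgroup L) [H₁.Normal] [N.Normal]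
    (hKK : ⁅K, K⁆ ≤ H₁) (hNK : N ≤ K)
    (hfrob : ∀ k ∈ K, k ∉ H₁ → ∀ x : L, x * k * x⁻¹ * k⁻¹ ∈ H₁ → x ∈ K) :
    K.index ∣ H₁.relIndex N - 1 := by
  classical
  let _ : MulAction L (L ⧸ H₁) :=
    MulAction.compHom (L ⧸ H₁) ((MulAut.conj (G := L ⧸ H₁)).comp (QuotientGroup.mk' H₁))
  have hsmul : ∀ (g : L) (q : L ⧸ H₁), g • q = (g : L ⧸ H₁) * q * (g : L ⧸ H₁)⁻¹ := fun g q => rfl
  set X : Set (L ⧸ H₁) := ((N.map (QuotientGroup.mk' H₁) : Subgroup (L ⧸ H₁)) : Set (L ⧸ H₁)) \ {1}
    with hX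
  have hcard : X.ncard = H₁.relIndex N - 1 := by
    rw [hX, Set.ncard_sdiff_singleton_of_mem (Subgroup.one_mem _)]
    congr 1
    have := Subgroup.relIndex_ker (K := N) (QuotientGroup.mk' H₁)
    rw [QuotientGroup.ker_mk'] at this
    rw [this]
    rfl
  rw [← hcard]
  apply dvd_ncard_of_orbits (G := L) K.index _ X (Set.toFinite _) le_rfl
  · rintro g q ⟨⟨n, hn, rfl⟩, hq⟩
    refine ⟨⟨g * n * g⁻¹, (inferInstance : N.Normal).conj_mem n hn g, ?_⟩, ?_⟩
    · rw [hsmul]; rfl
    · rw [Set.mem_singleton_iff, hsmul] at *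
      intro h
      apply hq
      rwa [conj_eq_one_iff] at h
  · rintro q ⟨⟨n, hn, rfl⟩, hq⟩
    rw [← MulAction.index_stabilizer]
    congr 1
    have hnH : n ∉ H₁ := by
      intro h
      apply hq
      rw [Set.mem_singleton_iff]
      exact (QuotientGroup.eq_one_iff n).2 h
    ext g
    rw [MulAction.mem_stabilizer_iff, hsmul]
    have e : ((g : L ⧸ H₁) * (QuotientGroup.mk' H₁) n * (g : L ⧸ H₁)⁻¹ = (QuotientGroup.mk' H₁) n) ↔
        g * n * g⁻¹ * n⁻¹ ∈ H₁ := by
      rw [← QuotientGroup.eq_one_iff, QuotientGroup.mk_mul, QuotientGroup.mk_mul,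
        QuotientGroup.mk_mul, QuotientGroup.mk_inv, QuotientGroup.mk_inv, mul_inv_eq_one]
      rfl
    rw [e]
    constructor
    · exact fun h => hfrob n (hNK hn) hnH g h
    · intro hg
      apply hKK
      have := Subgroup.commutator_mem_commutator hg (hNK hn)
      rwa [commutatorElement_def] at this

theorem two_mul_add_one_le {e a : ℕ} (he : Odd e) (ha : Odd a) (h1 : 1 < a) (hd : e ∣ a - 1) :
    2 * e + 1 ≤ a := by
  obtain ⟨c, hc⟩ := hd
  obtain ⟨k, hk⟩ := ha
  obtain ⟨j, hj⟩ := he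
  have hc0 : c ≠ 0 := by
    rintro rfl
    omega
  have hc1 : c ≠ 1 := by
    rintro rfl
    omega
  have : 2 ≤ c := by omega
  have h2 : e * 2 ≤ e * c := Nat.mul_le_mul_left e this
  omega

/-- a normal subgroup strictly between forces `|K:H₁| > 4 |L:K|² + 1` -/
theorem big_of_between (hodd : Odd (Nat.card L)) (K H₁ N : Subgroup L) [K.Normal] [H₁.Normal]
    [N.Normal] (hKK : ⁅K, K⁆ ≤ H₁) (hH₁N : H₁ < N) (hNK : N < K)
    (hfrob : ∀ k ∈ K, k ∉ H₁ → ∀ x : L, x * k * x⁻¹ * k⁻¹ ∈ H₁ → x ∈ K) :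
    4 * K.index ^ 2 + 1 < H₁.relIndex K := by
  have h1 := dvd_relIndex_sub_one K H₁ N hKK hNK.le hfrob
  have h2 := dvd_relIndex_sub_one K H₁ K hKK le_rfl hfrob
  have hmul := Subgroup.relIndex_mul_relIndex H₁ N K hH₁N.le hNK.le
  set a := H₁.relIndex N with ha
  set b := N.relIndex K with hb
  set e := K.index with he
  have hoddof : ∀ m : ℕ, m ∣ Nat.card L → Odd m := fun m hm => Odd.of_dvd_nat hodd hm
  have hea : Odd e := hoddof e (Subgroup.index_dvd_card K)
  have haodd : Odd a := hoddof a ((Subgroup.relIndex_dvd_card H₁ N).trans (Subgroup.card_subgroup_dvd_card N))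
  have hbodd : Odd b := hoddof b ((Subgroup.relIndex_dvd_card N K).trans (Subgroup.card_subgroup_dvd_card K))
  have ha0 : a ≠ 0 := Subgroup.index_ne_zero_of_finite (H := H₁.subgroupOf N)
  have hb0 : b ≠ 0 := Subgroup.index_ne_zero_of_finite (H := N.subgroupOf K)
  have ha1 : 1 < a := by
    have : a ≠ 1 := fun h => absurd (Subgroup.relIndex_eq_one.1 h) (not_le_of_gt hH₁N)
    omega
  have hb1 : 1 < b := by
    have : b ≠ 1 := fun h => absurd (Subgroup.relIndex_eq_one.1 h) (not_le_of_gt hNK)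
    omega
  rw [← hmul] at h2 ⊢
  have h3 : e ∣ b - 1 := by
    have e1 : a * b - 1 = (a - 1) * b + (b - 1) := by
      obtain ⟨a', ha'⟩ : ∃ a', a = a' + 1 := ⟨a - 1, by omega⟩
      obtain ⟨b', hb'⟩ : ∃ b', b = b' + 1 := ⟨b - 1, by omega⟩
      rw [ha', hb']
      simp only [Nat.add_sub_cancel]
      have : (a' + 1) * (b' + 1) = a' * (b' + 1) + b' + 1 := by ring
      rw [this, Nat.add_sub_cancel]
    rw [e1] at h2
    exact (Nat.dvd_add_right (Dvd.dvd.mul_right h1 b)).1 h2
  have hA := two_mul_add_one_le hea haodd ha1 h1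
  have hB := two_mul_add_one_le hea hbodd hb1 h3
  have : (2 * e + 1) * (2 * e + 1) ≤ a * b := Nat.mul_le_mul hA hB
  have he0 : 0 < e := Nat.pos_of_ne_zero Subgroup.index_ne_zero_of_finite
  nlinarith

/-- an abelian chief-like section has prime power order -/
theorem between_or_prime_pow (K H₁ : Subgroup L) [hKn : K.Normal] [H₁.Normal]
    (hKK : ⁅K, K⁆ ≤ H₁) (hH₁K : H₁ < K) :
    (∃ N : Subgroup L, N.Normal ∧ H₁ < N ∧ N < K) ∨
      ∃ p j : ℕ, p.Prime ∧ H₁.relIndex K = p ^ j := by
  classical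
  have hne1 : H₁.relIndex K ≠ 1 := fun h => absurd (Subgroup.relIndex_eq_one.1 h) (not_le_of_gt hH₁K)
  obtain ⟨p, hp, hpd⟩ := Nat.exists_prime_and_dvd hne1
  have := Fact.mk hp
  have hcomm : ∀ a ∈ K, ∀ b ∈ K, Commute (a : L ⧸ H₁) (b : L ⧸ H₁) := by
    intro a ha b hb
    have := hKK (Subgroup.commutator_mem_commutator ha hb)
    rw [commutatorElement_def, ← QuotientGroup.eq_one_iff] at this
    rw [QuotientGroup.mk_mul, QuotientGroup.mk_mul, QuotientGroup.mk_mul, QuotientGroup.mk_inv,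
      QuotientGroup.mk_inv, mul_inv_eq_one, mul_inv_eq_iff_eq_mul] at this
    exact this
  let N : Subgroup L :=
    { carrier := {k | k ∈ K ∧ (k : L ⧸ H₁) ^ p = 1}
      one_mem' := ⟨K.one_mem, by simp⟩
      mul_mem' := by
        rintro a b ⟨ha, ha'⟩ ⟨hb, hb'⟩
        refine ⟨K.mul_mem ha hb, ?_⟩
        rw [QuotientGroup.mk_mul, (hcomm a ha b hb).mul_pow, ha', hb', one_mul]
      inv_mem' := by
        rintro a ⟨ha, ha'⟩
        refine ⟨K.inv_mem ha, ?_⟩
        rw [QuotientGroup.mk_inv, inv_pow, ha', inv_one] }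
  have hNmem : ∀ k, k ∈ N ↔ k ∈ K ∧ (k : L ⧸ H₁) ^ p = 1 := fun k => Iff.rfl
  have hNn : N.Normal := by
    constructor
    intro n hn g
    rw [hNmem] at hn ⊢
    refine ⟨hKn.conj_mem n hn.1 g, ?_⟩
    rw [QuotientGroup.mk_mul, QuotientGroup.mk_mul, QuotientGroup.mk_inv, conj_pow, hn.2]
    simp
  have hcardK : Nat.card (K.map (QuotientGroup.mk' H₁)) = H₁.relIndex K := by
    have := Subgroup.relIndex_ker (K := K) (QuotientGroup.mk' H₁)
    rw [QuotientGroup.ker_mk'] at this
    exact this.symm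
  have hH₁N : H₁ < N := by
    obtain ⟨q, hq⟩ := exists_prime_orderOf_dvd_card' (G := K.map (QuotientGroup.mk' H₁)) p
      (by rw [hcardK]; exact hpd)
    obtain ⟨_, k, hk, rfl⟩ := q
    refine lt_of_le_of_ne ?_ ?_
    · intro h hh
      rw [hNmem]
      refine ⟨hH₁K.le hh, ?_⟩
      rw [(QuotientGroup.eq_one_iff h).2 hh, one_pow]
    · intro heq
      have hkN : k ∈ N := by
        rw [hNmem]
        refine ⟨hk, ?_⟩
        have := pow_orderOf_eq_one (⟨_, k, hk, rfl⟩ : K.map (QuotientGroup.mk' H₁))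
        rw [hq] at this
        exact congrArg Subtype.val this
      rw [← heq] at hkN
      have h1 : (⟨_, k, hk, rfl⟩ : K.map (QuotientGroup.mk' H₁)) = 1 := by
        apply Subtype.ext
        exact (QuotientGroup.eq_one_iff k).2 hkN
      rw [h1, orderOf_one] at hq
      exact hp.one_lt.ne hq
  have hNK : N ≤ K := fun k hk => hk.1
  rcases eq_or_lt_of_le hNK with heq | hlt
  · right
    have hpg : IsPGroup p (K.map (QuotientGroup.mk' H₁)) := by
      rintro ⟨_, k, hk, rfl⟩
      refine ⟨1, ?_⟩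
      apply Subtype.ext
      have : k ∈ N := by rw [heq]; exact hk
      rw [pow_one]
      exact this.2
    obtain ⟨j, hj⟩ := IsPGroup.iff_card.1 hpg
    exact ⟨p, j, hp, by rw [← hcardK, hj]⟩
  · left
    exact ⟨N, hNn, hH₁N, hlt⟩

/-- a finite nilpotent group whose abelianization is a `p`-group is a `p`-group -/
theorem card_eq_pow_of_commutator_index {G : Type*} [Group G] [Finite G] [Group.IsNilpotent G]
    {p j : ℕ} (hp : p.Prime) (h : (commutator G).index ∣ p ^ j) : ∃ i, Nat.card G = p ^ i := by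
  have := Fact.mk hp
  obtain ⟨P⟩ : Nonempty (Sylow p G) := inferInstance
  by_cases hnt : Nontrivial (G ⧸ (P : Subgroup G))
  · exfalso
    have hlt := Group.IsSolvable.commutator_lt_top_of_nontrivial (G ⧸ (P : Subgroup G))
    set D := (commutator (G ⧸ (P : Subgroup G))).comap (QuotientGroup.mk' (P : Subgroup G)) with hD
    have hDi : D.index = (commutator (G ⧸ (P : Subgroup G))).index :=
      Subgroup.index_comap_of_surjective _ (QuotientGroup.mk'_surjective _)
    have hDne : D.index ≠ 1 := by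
      rw [hDi]
      intro h1
      exact hlt.ne (Subgroup.index_eq_one.1 h1)
    have h1 : commutator G ≤ D := by
      rw [commutator_def, Subgroup.commutator_le]
      intro a _ b _
      rw [hD, Subgroup.mem_comap, map_commutatorElement, commutator_def]
      exact Subgroup.commutator_mem_commutator (Subgroup.mem_top _) (Subgroup.mem_top _)
    have h2 : (P : Subgroup G) ≤ D := by
      intro x hx
      rw [hD, Subgroup.mem_comap, QuotientGroup.mk'_apply, (QuotientGroup.eq_one_iff x).2 hx]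
      exact Subgroup.one_mem _
    have h3 : D.index ∣ p ^ j := (Subgroup.index_dvd_of_le h1).trans h
    have h4 : D.index ∣ (P : Subgroup G).index := Subgroup.index_dvd_of_le h2
    obtain ⟨i, _, hi⟩ := (Nat.dvd_prime_pow hp).1 h3
    rcases Nat.eq_zero_or_pos i with rfl | hipos
    · exact hDne (by rw [hi, pow_zero])
    · apply P.not_dvd_index
      refine Dvd.dvd.trans ?_ h4
      rw [hi]
      exact dvd_pow_self p hipos.ne'
  · have htop : (P : Subgroup G) = ⊤ := by
      by_contra hne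
      exact hnt (QuotientGroup.nontrivial_iff.2 hne)
    have hpg : IsPGroup p G := by
      have := P.2
      rw [htop] at this
      exact IsPGroup.of_equiv this Subgroup.topEquiv
    exact IsPGroup.iff_card.1 hpg

/-- relative version: `K / M` nilpotent and `|K : [K,K]M|` a power of `p` imply `|K:M|` is -/
theorem relIndex_eq_pow (K M : Subgroup L) (hMK : M ≤ K) [(M.subgroupOf K).Normal]
    (hnil : Group.IsNilpotent (↥K ⧸ M.subgroupOf K)) {p j : ℕ} (hp : p.Prime)
    (h : (⁅K, K⁆ ⊔ M).relIndex K = p ^ j) : ∃ i, M.relIndex K = p ^ i := by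
  have key : (commutator (↥K ⧸ M.subgroupOf K)).index ∣ p ^ j := by
    rw [← h, ← Subgroup.index_comap_of_surjective _ (QuotientGroup.mk'_surjective (M.subgroupOf K))]
    apply Subgroup.index_dvd_of_le
    have h1 : ⁅K, K⁆ ⊔ M ≤ ((commutator (↥K ⧸ M.subgroupOf K)).comap
        (QuotientGroup.mk' (M.subgroupOf K))).map K.subtype := by
      refine sup_le ?_ ?_
      · rw [Subgroup.commutator_le]
        intro a ha b hb
        refine ⟨⁅(⟨a, ha⟩ : K), ⟨b, hb⟩⁆, ?_, rfl⟩
        rw [SetLike.mem_coe, Subgroup.mem_comap, map_commutatorElement, commutator_def]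
        exact Subgroup.commutator_mem_commutator (Subgroup.mem_top _) (Subgroup.mem_top _)
      · intro m hm
        refine ⟨⟨m, hMK hm⟩, ?_, rfl⟩
        rw [SetLike.mem_coe, Subgroup.mem_comap, QuotientGroup.mk'_apply,
          (QuotientGroup.eq_one_iff _).2 (show (⟨m, hMK hm⟩ : K) ∈ M.subgroupOf K from hm)]
        exact Subgroup.one_mem _
    intro x hx
    obtain ⟨y, hy, hyx⟩ := h1 hx
    have : y = x := Subtype.ext hyx
    rw [← this]; exact hy
  exact card_eq_pow_of_commutator_index hp key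

end Cfsg.Agent.Lib.Helper26.FrobSection
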