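import Mathlib
import Cfsg.Prelude.Def_OddOrderChar
import Cfsg.Agent.Lib.Helper15.Clifford2
import Cfsg.Agent.Lib.Helper80.Quot
import Cfsg.Agent.S1486
import Cfsg.Agent.S1487

/-!
# The sets `inducedIrrAbove K A` (Peterfalvi's `S(A)`)

Finiteness, closure under conjugation, degrees, the sum `∑ χ(1)² / ‖χ‖²`, and existence of a
member of degree `|L : K|`.
-/

set_option autoImplicit false
set_option linter.unusedSectionVars false

namespace Cfsg.Agent.Lib.Helper26.IndIrr

open Cfsg Cfsg.Agent.Lib.Helper15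
open scoped ComplexConjugate

variable {L : Type*} [Group L] [Fintype L] (K : Subgroup L)

theorem mono {A A' : Subgroup L} (h : A ≤ A') : inducedIrrAbove K A' ⊆ inducedIrrAbove K A := by
  rintro χ ⟨θ, h1, h2, h3, h4⟩
  exact ⟨θ, h1, h2, fun a ha => h3 a (h ha), h4⟩

theorem sub_bot (A : Subgroup L) : inducedIrrAbove K A ⊆ inducedIrrAbove K ⊥ := mono K bot_le

theorem finite (A : Subgroup L) : (inducedIrrAbove K A).Finite := by
  have : (Set.range (fun φ : IrrCharacter K => indFun K (φ : K → ℂ))).Finite := Set.finite_range _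
  apply this.subset
  rintro χ ⟨θ, h1, _, _, h4⟩
  exact ⟨⟨θ, h1⟩, h4.symm⟩

theorem irr_conj {X : Type*} [Group X] [Finite X] {θ : X → ℂ} (h : IsIrrCharacter X θ) :
    IsIrrCharacter X (conjFun θ) := by
  have := Fintype.ofFinite X
  rw [isIrr_iff] at h ⊢
  refine ⟨Cfsg.Agent.Lib.Helper3.IsCharacter.conj h.1, ?_⟩
  have : classInner (conjFun θ) (conjFun θ) = conj (classInner θ θ) := by
    unfold classInner conjFun
    rw [map_mul, map_inv₀, Complex.conj_natCast, map_sum]
    congr 1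
    apply Finset.sum_congr rfl
    intro g _
    rw [map_mul]
  rw [this, h.2, map_one]

theorem extendByZero_conj (θ : K → ℂ) (y : L) :
    extendByZero K (conjFun θ) y = conj (extendByZero K θ y) := by
  by_cases hy : y ∈ K
  · rw [extendByZero_mem K _ hy, extendByZero_mem K _ hy]; rfl
  · rw [extendByZero_not_mem K _ hy, extendByZero_not_mem K _ hy, map_zero]

theorem indFun_conj (θ : K → ℂ) : indFun K (conjFun θ) = conjFun (indFun K θ) := by
  funext g
  unfold conjFun
  rw [indFun_apply, indFun_apply, map_mul, map_inv₀, Complex.conj_natCast, map_sum]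
  congr 1
  apply Finset.sum_congr rfl
  intro x _
  exact extendByZero_conj K θ _

theorem conj_mem {A : Subgroup L} {χ : L → ℂ} (h : χ ∈ inducedIrrAbove K A) :
    conjFun χ ∈ inducedIrrAbove K A := by
  obtain ⟨θ, h1, h2, h3, rfl⟩ := h
  refine ⟨conjFun θ, irr_conj h1, ?_, ?_, (indFun_conj K θ).symm⟩
  · intro h
    apply h2
    funext k
    have := congrFun h k
    unfold conjFun at this
    have h5 := congrArg conj this
    rwa [Complex.conj_conj, map_one] at h5
  · intro a ha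
    unfold conjFun
    rw [h3 a ha]

theorem isChar {A : Subgroup L} {χ : L → ℂ} (h : χ ∈ inducedIrrAbove K A) : IsCharacter L χ := by
  obtain ⟨θ, h1, _, _, rfl⟩ := h
  exact char_indFun K (irr_char h1)

variable [hK : K.Normal]

/-- induced characters from a normal subgroup are equal or orthogonal -/
theorem eq_or_orth {θ φ : K → ℂ} (hθ : IsIrrCharacter K θ) (hφ : IsIrrCharacter K φ) :
    indFun K φ = indFun K θ ∨ classInner (indFun K φ) (indFun K θ) = 0 := by
  have h := Cfsg.Agent.S1486.result K θ φ hθ hφ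
  by_cases hg : ∃ g : L, φ = fun h : K => θ ⟨g * h * g⁻¹, hK.conj_mem h h.2 g⟩
  · exact Or.inl (h.1 hg)
  · exact Or.inr (h.2 hg)

open Classical in
/-- the irreducible characters of `K` inducing a given function -/
noncomputable def fiber (χ : L → ℂ) : Finset (IrrCharacter K) :=
  Finset.univ.filter (fun φ : IrrCharacter K => indFun K (φ : K → ℂ) = χ)

theorem mem_fiber {χ : L → ℂ} {φ : IrrCharacter K} : φ ∈ fiber K χ ↔ indFun K (φ : K → ℂ) = χ := by
  classical
  simp [fiber]

/-- restriction to `K` of an induced irreducible character -/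
theorem res_eq {θ : K → ℂ} (hθ : IsIrrCharacter K θ) (k : K) :
    indFun K θ k = classInner (indFun K θ) (indFun K θ) * ∑ φ ∈ fiber K (indFun K θ), (φ : K → ℂ) k := by
  classical
  have := Fintype.ofFinite K
  set χ := indFun K θ with hχ
  have hcf : IsClassFunction L χ := indFun_isClassFunction K θ
  have hres : IsClassFunction K (fun k : K => χ k) := by
    intro g h
    exact hcf g h
  have hexp := cf_expansion hres
  have hk := congrFun hexp k
  rw [Finset.sum_apply] at hk
  simp only [Pi.smul_apply, smul_eq_mul] at hk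
  rw [hk, Finset.mul_sum, fiber, Finset.sum_filter]
  apply Finset.sum_congr rfl
  intro φ _
  rw [← classInner_indFun_right K (φ : K → ℂ) χ hcf]
  split_ifs with h
  · rw [h]
  · rcases eq_or_orth K hθ φ.2 with h1 | h1
    · exact absurd h1 h
    · rw [← classInner_conj_symm, h1, map_zero, zero_mul]

theorem fiber_degree {χ : L → ℂ} {φ : IrrCharacter K} (h : φ ∈ fiber K χ) :
    χ 1 = (K.index : ℂ) * (charDegree (φ : K → ℂ) : ℂ) := by
  rw [mem_fiber] at h
  rw [← h, indFun_one, Cfsg.Agent.Lib.Helper80.char_one_eq_charDegree (irr_char φ.2)]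

/-- `χ(1)² = ‖χ‖² |L:K| ∑_{φ ↦ χ} φ(1)²` -/
theorem sq_eq {θ : K → ℂ} (hθ : IsIrrCharacter K θ) :
    (indFun K θ 1) ^ 2 = classInner (indFun K θ) (indFun K θ) *
      ((K.index : ℂ) * ∑ φ ∈ fiber K (indFun K θ), ((charDegree (φ : K → ℂ) : ℂ)) ^ 2) := by
  have h := res_eq K hθ 1
  rw [Subgroup.coe_one] at h
  set χ := indFun K θ with hχ
  rw [sq]
  nth_rewrite 1 [h]
  rw [mul_assoc]
  congr 1
  rw [Finset.sum_mul, Finset.mul_sum]
  apply Finset.sum_congr rfl
  intro φ hφ
  rw [fiber_degree K hφ, Cfsg.Agent.Lib.Helper80.char_one_eq_charDegree (irr_char φ.2)]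
  ring

/-- an irreducible character constant on the whole group is principal -/
theorem eq_one_of_const {X : Type*} [Group X] [Finite X] {θ : X → ℂ} (hθ : IsIrrCharacter X θ)
    (h : ∀ a : X, θ a = θ 1) : θ = fun _ => 1 := by
  have := Fintype.ofFinite X
  obtain ⟨n, hn⟩ := char_one_nat (irr_char hθ)
  have h1 := irr_inner_self hθ
  unfold classInner at h1
  simp_rw [h, hn] at h1
  rw [Finset.sum_const, Finset.card_univ, nsmul_eq_mul, ← Nat.card_eq_fintype_card, ← mul_assoc,
    inv_mul_cancel₀ (card_ne_zero X), one_mul, Complex.conj_natCast] at h1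
  have h2 : n * n = 1 := by exact_mod_cast h1
  have h3 : n = 1 := by
    rcases Nat.eq_one_of_mul_eq_one_right h2 with h
    exact h
  funext a
  rw [h, hn, h3, Nat.cast_one]

theorem fiber_ne_one {θ : K → ℂ} (hθ : IsIrrCharacter K θ) (h1 : θ ≠ fun _ => 1)
    {φ : IrrCharacter K} (hφ : φ ∈ fiber K (indFun K θ)) : (φ : K → ℂ) ≠ fun _ => 1 := by
  intro h
  rw [mem_fiber] at hφ
  apply h1
  apply eq_one_of_const hθ
  have e1 := (Cfsg.Agent.S1487.result K K le_rfl (φ : K → ℂ) φ.2).1 (by intro a _; rw [h])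
  rw [hφ] at e1
  intro a
  exact (Cfsg.Agent.S1487.result K K le_rfl θ hθ).2 e1 a a.2

theorem fiber_ker (A : Subgroup L) [A.Normal] (hAK : A ≤ K) {θ : K → ℂ} (hθ : IsIrrCharacter K θ)
    (hA : ∀ a : K, (a : L) ∈ A → θ a = θ 1)
    {φ : IrrCharacter K} (hφ : φ ∈ fiber K (indFun K θ)) :
    ∀ a : K, (a : L) ∈ A → (φ : K → ℂ) a = (φ : K → ℂ) 1 := by
  rw [mem_fiber] at hφ
  have e1 := (Cfsg.Agent.S1487.result A K hAK θ hθ).1 hA
  rw [← hφ] at e1
  exact (Cfsg.Agent.S1487.result A K hAK (φ : K → ℂ) φ.2).2 e1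

open Classical in
/-- the non-principal irreducible characters of `K` with `A` in the kernel -/
noncomputable def TT (A : Subgroup L) : Finset (IrrCharacter K) :=
  Finset.univ.filter (fun φ : IrrCharacter K => (φ : K → ℂ) ≠ (fun _ => 1) ∧
    ∀ a : K, (a : L) ∈ A → (φ : K → ℂ) a = (φ : K → ℂ) 1)

theorem mem_TT {A : Subgroup L} {φ : IrrCharacter K} : φ ∈ TT K A ↔
    (φ : K → ℂ) ≠ (fun _ => 1) ∧ ∀ a : K, (a : L) ∈ A → (φ : K → ℂ) a = (φ : K → ℂ) 1 := by
  classical
  simp [TT]

theorem sum_TT (A : Subgroup L) [A.Normal] :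
    ∑ φ ∈ TT K A, (charDegree (φ : K → ℂ)) ^ 2 + 1 = A.relIndex K := by
  classical
  have h := Cfsg.Agent.Lib.Helper80.sum_sq_charDegree_quot (A.subgroupOf K)
  rw [Subgroup.relIndex, ← h]
  let t : IrrCharacter K := ⟨fun _ => 1, Cfsg.Agent.Lib.Helper74.isIrrCharacter_one⟩
  rw [eq_comm, ← Finset.add_sum_erase _ _ (a := t) (by simp [t]), add_comm, eq_comm]
  congr 1
  · apply Finset.sum_congr _ (fun _ _ => rfl)
    ext φ
    rw [mem_TT, Finset.mem_erase]
    simp only [Finset.mem_filter, Finset.mem_univ, true_and, Subgroup.mem_subgroupOf]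
    constructor
    · rintro ⟨h1, h2⟩
      exact ⟨fun h => h1 (by rw [h]), fun n hn => h2 n hn⟩
    · rintro ⟨h1, h2⟩
      exact ⟨fun h => h1 (Subtype.ext h), fun n hn => h2 n hn⟩
  · have : charDegree (t : K → ℂ) = 1 := by
      have h1 := Cfsg.Agent.Lib.Helper80.char_one_eq_charDegree (irr_char t.2)
      have h2 : (t : K → ℂ) 1 = 1 := rfl
      rw [h2] at h1
      exact_mod_cast h1.symm
    rw [this, one_pow]

/-- `∑_{χ ∈ S(A)} χ(1)² / ‖χ‖² = |L:K| (|K:A| - 1)` -/
theorem sum_sq (A : Subgroup L) [A.Normal] (hAK : A ≤ K) (d n : (L → ℂ) → ℕ)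
    (hd : ∀ χ ∈ inducedIrrAbove K A, χ 1 = (d χ : ℂ))
    (hn : ∀ χ ∈ inducedIrrAbove K A, classInner χ χ = (n χ : ℂ)) :
    ∑ χ ∈ (finite K A).toFinset, ((d χ : ℝ) ^ 2 / (n χ : ℝ)) =
      (K.index : ℝ) * ((A.relIndex K : ℝ) - 1) := by
  classical
  have hterm : ∀ χ ∈ (finite K A).toFinset, ((d χ : ℝ) ^ 2 / (n χ : ℝ)) =
      (K.index : ℝ) * ∑ φ ∈ (TT K A).filter (fun φ : IrrCharacter K => indFun K (φ : K → ℂ) = χ),
        ((charDegree (φ : K → ℂ) : ℝ)) ^ 2 := by
    intro χ hχ
    rw [Set.Finite.mem_toFinset] at hχ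
    have hχ' := hχ
    obtain ⟨θ, h1, h2, h3, rfl⟩ := hχ
    have hfib : (TT K A).filter (fun φ : IrrCharacter K => indFun K (φ : K → ℂ) = indFun K θ) =
        fiber K (indFun K θ) := by
      ext φ
      rw [Finset.mem_filter, mem_TT]
      constructor
      · rintro ⟨_, h⟩
        exact (mem_fiber K).2 h
      · intro h
        exact ⟨⟨fiber_ne_one K h1 h2 h, fiber_ker K A hAK h1 h3 h⟩, (mem_fiber K).1 h⟩
    rw [hfib]
    have hsq := sq_eq K h1
    rw [hd _ hχ', hn _ hχ'] at hsq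
    have hn0 : (n (indFun K θ) : ℝ) ≠ 0 := by
      intro h0
      have h0' : n (indFun K θ) = 0 := by exact_mod_cast h0
      have := hn _ hχ'
      rw [h0', Nat.cast_zero] at this
      exact indFun_ne_zero_of_irr K h1 (classInner_self_eq_zero this)
    have hsq' : ((d (indFun K θ) : ℝ)) ^ 2 = (n (indFun K θ) : ℝ) * ((K.index : ℝ) *
        ∑ φ ∈ fiber K (indFun K θ), ((charDegree (φ : K → ℂ) : ℝ)) ^ 2) := by
      exact_mod_cast hsq
    rw [hsq']
    field_simp
  rw [Finset.sum_congr rfl hterm, ← Finset.mul_sum]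
  congr 1
  rw [Finset.sum_fiberwise_of_maps_to]
  · have h := sum_TT K A
    have h' : (∑ φ ∈ TT K A, ((charDegree (φ : K → ℂ) : ℝ)) ^ 2) + 1 = (A.relIndex K : ℝ) := by
      exact_mod_cast h
    linarith
  · intro φ hφ
    rw [mem_TT] at hφ
    rw [Set.Finite.mem_toFinset]
    exact ⟨φ, φ.2, hφ.1, hφ.2, rfl⟩

omit hK in
/-- a member of `S(A)` of degree `|L:K|` -/
theorem exists_linear (hsolv : Group.IsSolvable K) (A : Subgroup L) [A.Normal] (hAK : A < K) :
    ∃ χ ∈ inducedIrrAbove K A, χ 1 = (K.index : ℂ) := by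
  classical
  set N := A.subgroupOf K with hN
  have hNtop : N ≠ ⊤ := by
    intro h
    rw [hN, Subgroup.subgroupOf_eq_top] at h
    exact absurd h (not_le_of_gt hAK)
  have : Nontrivial (K ⧸ N) := QuotientGroup.nontrivial_iff.2 hNtop
  have hlt := Group.IsSolvable.commutator_lt_top_of_nontrivial (K ⧸ N)
  have : Nontrivial (Abelianization (K ⧸ N)) := QuotientGroup.nontrivial_iff.2 hlt.ne
  obtain ⟨x, hx⟩ := exists_ne (1 : Abelianization (K ⧸ N))
  obtain ⟨f, hf⟩ := CommGroup.exists_apply_ne_one_of_hasEnoughRootsOfUnity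
    (Abelianization (K ⧸ N)) ℂ hx
  let g : K →* ℂˣ := f.comp (Abelianization.of.comp (QuotientGroup.mk' N))
  refine ⟨indFun K (fun k => (g k : ℂ)),
    ⟨fun k => (g k : ℂ), Cfsg.Agent.Lib.Helper74.isIrrCharacter_of_hom g, ?_, ?_, rfl⟩, ?_⟩
  · intro h
    apply hf
    obtain ⟨y, rfl⟩ := QuotientGroup.mk_surjective x
    obtain ⟨k, rfl⟩ := QuotientGroup.mk_surjective y
    have := congrFun h k
    exact Units.ext this
  · intro a ha
    have : g a = 1 := by
      have : (QuotientGroup.mk' N) a = 1 := by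
        rw [QuotientGroup.mk'_apply, QuotientGroup.eq_one_iff]
        exact ha
      simp only [g, MonoidHom.comp_apply, this, map_one]
    show ((g a : ℂˣ) : ℂ) = ((g 1 : ℂˣ) : ℂ)
    rw [this, map_one]
  · rw [indFun_one, map_one]
    simp

end Cfsg.Agent.Lib.Helper26.IndIrr
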