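import Cfsg.Agent.S1516
import Cfsg.Agent.Lib.Helper26.IndIrr

/-!
# Growing coherent sets with the extension criterion (Peterfalvi 5.7 iterated)
-/

set_option autoImplicit false

namespace Cfsg.Agent.Lib.Helper26

open Cfsg

variable {L : Type*} [Group L] [Fintype L] {G : Type*} [Group G] [Fintype G]

theorem coherent_subset {S₁ S₂ : Set (L → ℂ)} {A : Set L} {τ : (L → ℂ) → (G → ℂ)}
    (h : IsCoherent S₁ A τ) (hsub : S₂ ⊆ S₁) (hne : ∃ α ∈ zspanOn S₂ A, α ≠ 0) :
    IsCoherent S₂ A τ := by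
  obtain ⟨_, τ₁, hiso, hag⟩ := h
  exact ⟨hne, τ₁, iso_mono hiso (zspan_mono hsub), fun α hα => hag α (zspanOn_mono A hsub hα)⟩

/-- a nonempty conjugation-closed subset of a coherence system has a nonzero element of degree 0 -/
theorem exists_ne_zero {S : Set (L → ℂ)} {τ : (L → ℂ) → (G → ℂ)} {R : (L → ℂ) → Finset (G → ℂ)}
    (hS : IsCoherenceSystem S τ R) {S₂ : Set (L → ℂ)} (hsub : S₂ ⊆ S)
    (hc : ∀ φ ∈ S₂, conjFun φ ∈ S₂) (hne : S₂.Nonempty) : ∃ α ∈ zspanOn S₂ {1}ᶜ, α ≠ 0 := by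
  obtain ⟨ψ, hψ⟩ := hne
  refine ⟨ψ - conjFun ψ, mem_zspanOn_one.2 ⟨zspan_sub (mem_zspan hψ) (mem_zspan (hc ψ hψ)), ?_⟩, ?_⟩
  · simp [sys_conj_one hS (hsub hψ)]
  · intro h
    exact hS.conj_ne ψ (hsub hψ) (sub_eq_zero.1 h).symm

theorem grow {S : Set (L → ℂ)} {τ : (L → ℂ) → (G → ℂ)} {R : (L → ℂ) → Finset (G → ℂ)}
    (hS : IsCoherenceSystem S τ R) (d n : (L → ℂ) → ℕ) (hd : ∀ φ ∈ S, φ 1 = (d φ : ℂ))
    (hn : ∀ φ ∈ S, classInner φ φ = (n φ : ℂ)) [DecidableEq (L → ℂ)] (S₀ T : Finset (L → ℂ))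
    (hS₀ : ↑S₀ ⊆ S) (hT : ↑T ⊆ S) (hS₀c : ∀ φ ∈ S₀, conjFun φ ∈ S₀)
    (hTc : ∀ φ ∈ T, conjFun φ ∈ T) (hcoh : IsCoherent (↑S₀ : Set (L → ℂ)) {1}ᶜ τ)
    (χ₁ : L → ℂ) (hχ₁ : χ₁ ∈ S₀) (hdvd : ∀ ψ ∈ T, d χ₁ ∣ d ψ)
    (hineq : ∀ ψ ∈ T, (2 * d ψ * d χ₁ : ℝ) < ∑ φ ∈ S₀, ((d φ : ℝ) ^ 2 / (n φ : ℝ))) :
    IsCoherent (↑(S₀ ∪ T) : Set (L → ℂ)) {1}ᶜ τ := by
  have key : ∀ k : ℕ, ∀ S₁ : Finset (L → ℂ), S₀ ⊆ S₁ → ↑S₁ ⊆ S → (∀ φ ∈ S₁, conjFun φ ∈ S₁) →
      IsCoherent (↑S₁ : Set (L → ℂ)) {1}ᶜ τ → (T \ S₁).card ≤ k →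
      IsCoherent (↑(S₁ ∪ T) : Set (L → ℂ)) {1}ᶜ τ := by
    intro k
    induction k with
    | zero =>
      intro S₁ _ _ _ hc hk
      have : T ⊆ S₁ := by
        rw [Nat.le_zero, Finset.card_eq_zero, Finset.sdiff_eq_empty_iff_subset] at hk
        exact hk
      rw [Finset.union_eq_left.2 this]
      exact hc
    | succ k ih =>
      intro S₁ h01 h1S h1c hc hk
      by_cases hTS : T ⊆ S₁
      · rw [Finset.union_eq_left.2 hTS]
        exact hc
      · obtain ⟨ψ, hψT, hψ1⟩ := Finset.not_subset.1 hTS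
        have hψc : conjFun ψ ∉ S₁ := by
          intro h
          have := h1c _ h
          rw [Cfsg.Agent.S1517.conj_conj] at this
          exact hψ1 this
        have hstep := Cfsg.Agent.S1516.result S τ R hS d n hd hn S₁ h1S h1c hc ψ (hT hψT) hψ1 hψc χ₁
          (h01 hχ₁) (hdvd ψ hψT) (lt_of_lt_of_le (hineq ψ hψT)
            (Finset.sum_le_sum_of_subset_of_nonneg h01 (fun _ _ _ => by positivity)))
        set S₁' : Finset (L → ℂ) := insert ψ (insert (conjFun ψ) S₁) with hS₁'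
        have hset : (↑S₁' : Set (L → ℂ)) = ↑S₁ ∪ {ψ, conjFun ψ} := by
          ext x
          simp only [hS₁', Finset.coe_insert, Set.mem_insert_iff, Finset.mem_coe, Set.mem_union,
            Set.mem_singleton_iff]
          tauto
        rw [← hset] at hstep
        have hun : S₁' ∪ T = S₁ ∪ T := by
          ext x
          simp only [hS₁', Finset.mem_union, Finset.mem_insert]
          constructor
          · rintro ((rfl | rfl | h) | h)
            · exact Or.inr hψT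
            · exact Or.inr (hTc _ hψT)
            · exact Or.inl h
            · exact Or.inr h
          · rintro (h | h)
            · exact Or.inl (Or.inr (Or.inr h))
            · exact Or.inr h
        rw [← hun]
        apply ih S₁' _ _ _ hstep
        · have hlt : (T \ S₁').card < (T \ S₁).card := by
            apply Finset.card_lt_card
            rw [Finset.ssubset_iff_of_subset]
            · refine ⟨ψ, Finset.mem_sdiff.2 ⟨hψT, hψ1⟩, ?_⟩
              rw [Finset.mem_sdiff]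
              intro h
              exact h.2 (Finset.mem_insert_self _ _)
            · intro x hx
              rw [Finset.mem_sdiff] at hx ⊢
              exact ⟨hx.1, fun h => hx.2 (Finset.mem_insert_of_mem (Finset.mem_insert_of_mem h))⟩
          omega
        · intro x hx
          exact Finset.mem_insert_of_mem (Finset.mem_insert_of_mem (h01 hx))
        · intro x hx
          rw [hset] at hx
          rcases hx with h | h | h
          · exact h1S h
          · rw [h]; exact hT hψT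
          · rw [Set.mem_singleton_iff] at h
            rw [h]; exact hT (hTc _ hψT)
        · intro x hx
          simp only [hS₁', Finset.mem_insert] at hx ⊢
          rcases hx with rfl | rfl | h
          · exact Or.inr (Or.inl rfl)
          · rw [Cfsg.Agent.S1517.conj_conj]; exact Or.inl rfl
          · exact Or.inr (Or.inr (h1c _ h))
  exact key _ S₀ (Finset.Subset.refl _) hS₀ hS₀c hcoh le_rfl

end Cfsg.Agent.Lib.Helper26
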