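import Cfsg.Agent.Lib.Helper26.Sibley2
import Cfsg.Agent.S1521

/-!
# Sibley's coherence theorem (Peterfalvi 6.8): the gluing step
-/

set_option autoImplicit false
set_option linter.unusedSectionVars false

namespace Cfsg.Agent.Lib.Helper26.Sibley

open Cfsg Cfsg.Agent.Lib.Helper3 Cfsg.Agent.Lib.Helper26
open scoped ComplexConjugate commutatorElement
open Cfsg.Agent.S1517 (conj_conj inner_conj_conj R_ON S_gen R_orth char_one_ne_zero)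

variable {G : Type*} [Group G] [Fintype G] {L : Subgroup G} [Fintype L]

/-- the context of the gluing step -/
structure Ctx (K Z : Subgroup L) (τ : (L → ℂ) → (G → ℂ)) (R : (L → ℂ) → Finset (G → ℂ))
    (τ2 : (L → ℂ) → (G → ℂ)) : Prop where
  ind : ∀ α, τ α = indFun L α
  sys : IsCoherenceSystem (inducedIrrAbove K ⊥) τ R
  irr : ∀ χ ∈ inducedIrrAbove K ⊥, IsIrrCharacter L χ
  Z1 : Z ≠ ⊥
  ZK : Z ≤ ⁅K, K⁆
  S2eq : inducedIrrAbove K ⊥ \ inducedIrrAbove K Z =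
    {χ | IsIrrCharacter L χ ∧ ∃ z ∈ Z, χ z ≠ χ 1}
  iso2 : IsLinearIsometryOn (zspan (inducedIrrAbove K ⊥ \ inducedIrrAbove K Z)) τ2
  ag2 : ∀ α ∈ zspanOn (inducedIrrAbove K ⊥ \ inducedIrrAbove K Z) {1}ᶜ, τ2 α = τ α
  h67 : ∀ χ : G → ℂ, IsIrrCharacter G χ → (∀ z ∈ Z, ∀ z' ∈ Z, z ≠ 1 → z' ≠ 1 → χ z = χ z') →
      ∀ z ∈ Z, z ≠ 1 → ∃ n d : ℤ, χ z = n ∧ χ 1 = d ∧ (Nat.card K : ℤ) ∣ d - n

variable {K Z : Subgroup L} {τ : (L → ℂ) → (G → ℂ)} {R : (L → ℂ) → Finset (G → ℂ)}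
  {τ2 : (L → ℂ) → (G → ℂ)}

namespace Ctx

theorem S2c (_c : Ctx K Z τ R τ2) :
    ∀ χ ∈ inducedIrrAbove K ⊥ \ inducedIrrAbove K Z,
      conjFun χ ∈ inducedIrrAbove K ⊥ \ inducedIrrAbove K Z := by
  intro χ hχ
  refine ⟨IndIrr.conj_mem K hχ.1, fun h => hχ.2 ?_⟩
  have := IndIrr.conj_mem K h
  rwa [conj_conj] at this

theorem disj (c : Ctx K Z τ R τ2) {χ : L → ℂ} (h : χ ∈ inducedIrrAbove K ⁅K, K⁆) :
    χ ∉ inducedIrrAbove K ⊥ \ inducedIrrAbove K Z :=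
  fun h2 => h2.2 (IndIrr.mono K c.ZK h)

theorem map_comm (K : Subgroup L) : (commutator K).map K.subtype = ⁅K, K⁆ := by
  rw [commutator_def, Subgroup.map_commutator, ← MonoidHom.range_eq_map, Subgroup.range_subtype]

theorem deg1 (K : Subgroup L) : ∀ ξ ∈ inducedIrrAbove K ⁅K, K⁆, ξ 1 = (K.index : ℂ) := by
  rintro φ ⟨θ, h1, _, h3, rfl⟩
  have : θ 1 = 1 := by
    apply (Cfsg.Agent.Lib.Helper80.char_one_eq_one_iff ⟨θ, h1⟩).2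
    intro n hn
    apply h3 n
    rw [← map_comm]
    exact ⟨n, hn, rfl⟩
  rw [indFun_one, this, mul_one]

theorem deg2 (c : Ctx K Z τ R τ2) : ∀ ψ ∈ inducedIrrAbove K ⊥ \ inducedIrrAbove K Z,
    ∃ q : ℕ, 2 ≤ q ∧ ψ 1 = (K.index : ℂ) * q := by
  rintro ψ ⟨⟨θ, h1, h2, h3, rfl⟩, hnot⟩
  obtain ⟨q, hq⟩ := IsCharacter.apply_one_eq_natCast (IsIrrCharacter.isCharacter h1)
  refine ⟨q, ?_, by rw [indFun_one, hq]⟩
  by_contra hlt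
  have hq0 : q ≠ 0 := by
    rintro rfl
    exact IsIrrCharacter.apply_one_ne_zero h1 (by simpa using hq)
  have hq1 : q = 1 := by omega
  apply hnot
  refine ⟨θ, h1, h2, ?_, rfl⟩
  intro a ha
  apply (Cfsg.Agent.Lib.Helper80.char_one_eq_one_iff ⟨θ, h1⟩).1
    (by show θ 1 = 1; rw [hq, hq1]; simp) a
  have h5 := c.ZK ha
  rw [← map_comm] at h5
  obtain ⟨b, hb, hba⟩ := h5
  have : b = a := Subtype.ext hba
  exact this ▸ hb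

theorem norm (c : Ctx K Z τ R τ2) : ∀ ξ ∈ inducedIrrAbove K ⊥, classInner ξ ξ = 1 :=
  fun ξ h => Cfsg.Agent.Lib.Helper15.irr_inner_self (c.irr ξ h)

/-- images of `S(K')` under any coherent extension are orthogonal to the images of `S ∖ S(Z)` -/
theorem orth (c : Ctx K Z τ R τ2) {τ' : (L → ℂ) → (G → ℂ)}
    (hτ' : IsLinearIsometryOn (zspan (inducedIrrAbove K ⁅K, K⁆)) τ')
    (hag' : ∀ α ∈ zspanOn (inducedIrrAbove K ⁅K, K⁆) {1}ᶜ, τ' α = τ α) {ξ ψ : L → ℂ}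
    (hξ : ξ ∈ inducedIrrAbove K ⁅K, K⁆) (hψ : ψ ∈ inducedIrrAbove K ⊥ \ inducedIrrAbove K Z) :
    classInner (τ' ξ) (τ2 ψ) = 0 :=
  orth12 c.sys hτ' hag' c.iso2 c.ag2 (IndIrr.sub_bot K _ hξ) hψ.1 hξ (IndIrr.conj_mem K hξ) hψ
    (c.S2c ψ hψ) (fun e => c.disj hξ (e ▸ hψ)) (fun e => c.disj (IndIrr.conj_mem K hξ) (e ▸ hψ))

/-- the multiplicity of `ψ₀` in the restriction of `τ' ξ` is divisible by `ψ₀(1)/e` -/
theorem res_mult_dvd (c : Ctx K Z τ R τ2) {τ' : (L → ℂ) → (G → ℂ)}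
    (hτ' : IsLinearIsometryOn (zspan (inducedIrrAbove K ⁅K, K⁆)) τ')
    (hag' : ∀ α ∈ zspanOn (inducedIrrAbove K ⁅K, K⁆) {1}ᶜ, τ' α = τ α) {ξ ψ₀ : L → ℂ}
    (hξ : ξ ∈ inducedIrrAbove K ⁅K, K⁆) (hψ₀ : ψ₀ ∈ inducedIrrAbove K ⊥ \ inducedIrrAbove K Z)
    {q : ℕ} (hq : 0 < q) (hψ₀1 : ψ₀ 1 = (K.index : ℂ) * q) :
    ∃ t : ℤ, classInner (fun x : L => τ' ξ x) ψ₀ = ((t * q : ℤ) : ℂ) := by
  have hgen := iso_gen hτ' (mem_zspan hξ)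
  have hn1 : classInner (τ' ξ) (τ' ξ) = 1 := by
    rw [iso_inner hτ' (mem_zspan hξ) (mem_zspan hξ), c.norm ξ (IndIrr.sub_bot K _ hξ)]
  have hmem : ∀ ψ : L → ℂ, IsIrrCharacter L ψ → (∃ z ∈ Z, ψ z ≠ ψ 1) →
      ψ ∈ inducedIrrAbove K ⊥ \ inducedIrrAbove K Z := fun ψ h1 h2 => by
    rw [c.S2eq]; exact ⟨h1, h2⟩
  have hψ₀' : IsIrrCharacter L ψ₀ ∧ ∃ z ∈ Z, ψ₀ z ≠ ψ₀ 1 := by
    have := hψ₀
    rw [c.S2eq] at this
    exact this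
  have hdegnat : ∀ ψ ∈ inducedIrrAbove K ⊥ \ inducedIrrAbove K Z, ∃ d : ℕ, ψ 1 = d := by
    intro ψ hψ
    obtain ⟨d, _, hd⟩ := irr_degree (c.irr ψ hψ.1)
    exact ⟨d, hd⟩
  have hag2 : ∀ α ∈ zspanOn (inducedIrrAbove K ⊥ \ inducedIrrAbove K Z) {1}ᶜ,
      τ2 α = indFun L α := fun α hα => by rw [c.ag2 α hα, c.ind]
  have main : ∀ χ : G → ℂ, IsIrrCharacter G χ →
      (∀ ψ ∈ inducedIrrAbove K ⊥ \ inducedIrrAbove K Z, classInner χ (τ2 ψ) = 0) →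
      ∃ t : ℤ, classInner (fun x : L => χ x) ψ₀ = ((t * q : ℤ) : ℂ) := by
    intro χ hχ horth
    have hcf : IsClassFunction G χ := IsCharacter.isClassFunction (IsIrrCharacter.isCharacter hχ)
    exact mult_dvd L Z c.Z1 χ hχ
      (fun ψ ψ' h1 h2 h3 h4 => prop_of_orth L c.iso2 hag2 hdegnat hcf horth (hmem ψ h1 h3)
        (hmem ψ' h2 h4))
      (Nat.card K) K.index q Nat.card_pos (Nat.pos_of_ne_zero Subgroup.index_ne_zero_of_finite) hq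
      (Subgroup.card_mul_index K).symm (c.h67 χ hχ) ψ₀ hψ₀'.1 hψ₀'.2 hψ₀1
  rcases gen_norm_one hgen hn1 with h | h
  · exact main _ h (fun ψ hψ => c.orth hτ' hag' hξ hψ)
  · obtain ⟨t, ht⟩ := main _ h (fun ψ hψ => by
      rw [classInner_neg_left, c.orth hτ' hag' hξ hψ, neg_zero])
    refine ⟨-t, ?_⟩
    have e : (fun x : L => (-τ' ξ) x) = -(fun x : L => τ' ξ x) := rfl
    rw [e, classInner_neg_left] at ht
    push_cast at ht ⊢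
    linear_combination -ht

/-- there is a coherent extension of `S(K')` adapted to `ψ₀` -/
theorem exists_good (c : Ctx K Z τ R τ2) [K.Normal] (hsolv : Group.IsSolvable K)
    (hK'K : ⁅K, K⁆ < K) {φ ψ₀ : L → ℂ} (hφ : φ ∈ inducedIrrAbove K ⁅K, K⁆)
    (hψ₀ : ψ₀ ∈ inducedIrrAbove K ⊥ \ inducedIrrAbove K Z) {q : ℕ} (hq : 2 ≤ q)
    (hψ₀1 : ψ₀ 1 = (K.index : ℂ) * q) :
    ∃ τ' : (L → ℂ) → (G → ℂ), IsLinearIsometryOn (zspan (inducedIrrAbove K ⁅K, K⁆)) τ' ∧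
      (∀ α ∈ zspanOn (inducedIrrAbove K ⁅K, K⁆) {1}ᶜ, τ' α = τ α) ∧
      classInner (τ (ψ₀ - (q : ℤ) • φ)) (τ' φ) = ((-(q : ℤ) : ℤ) : ℂ) := by
  obtain ⟨_, τ₀, hτ₀, hag₀⟩ :=
    Cfsg.Agent.S1521.coherent_abelian K hsolv τ R c.sys ⁅K, K⁆ le_rfl hK'K
  have hφc := IndIrr.conj_mem K hφ
  have hdvd : ∃ j : ℤ, classInner (τ (ψ₀ - (q : ℤ) • φ)) (τ₀ (conjFun φ)) =
      ((j * (q : ℤ) : ℤ) : ℂ) := by
    obtain ⟨t, ht⟩ := c.res_mult_dvd hτ₀ hag₀ hφc hψ₀ (by omega) hψ₀1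
    have hgen := iso_gen hτ₀ (mem_zspan hφc)
    obtain ⟨n', hn'⟩ := gen_inner_int (gen_of_irr (c.irr φ (IndIrr.sub_bot K _ hφ)))
      (gen_restrict L hgen)
    refine ⟨t - n', ?_⟩
    rw [c.ind, Cfsg.Agent.Lib.Helper15.classInner_indFun_left L _ _ (gen_classFunction hgen),
      classInner_sub_left, classInner_zsmul_left, hn', ← classInner_conj_symm, ht, map_intCast]
    push_cast
    ring
  rcases analysis c.sys (IndIrr.sub_bot K _) (fun χ h => IndIrr.conj_mem K h) hτ₀ hag₀ hφ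
    (fun ξ hξ => by rw [deg1 K ξ hξ, deg1 K φ hφ]) (fun ξ hξ => c.norm ξ (IndIrr.sub_bot K _ hξ))
    hψ₀.1 (fun h => c.disj h hψ₀) (c.norm ψ₀ hψ₀.1) (q := (q : ℤ)) (by exact_mod_cast hq)
    (by rw [hψ₀1, deg1 K φ hφ]; push_cast; ring) hdvd with h | ⟨hsub, h⟩
  · exact ⟨τ₀, hτ₀, hag₀, h⟩
  · have hS1eq : inducedIrrAbove K ⁅K, K⁆ = {φ, conjFun φ} := by
      refine Set.Subset.antisymm hsub ?_
      rintro x (rfl | hx)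
      · exact hφ
      · rw [Set.mem_singleton_iff.1 hx]; exact hφc
    rw [hS1eq] at hτ₀ hag₀ ⊢
    obtain ⟨τ₁, h1, h2, h3⟩ := swap c.sys (IndIrr.sub_bot K _ hφ) hτ₀ hag₀
    exact ⟨τ₁, h1, h2, by rw [h3, classInner_neg_right, h]; push_cast; ring⟩

theorem beta_mem (c : Ctx K Z τ R τ2) {φ ψ : L → ℂ} (hφ : φ ∈ inducedIrrAbove K ⁅K, K⁆)
    (hψ : ψ ∈ inducedIrrAbove K ⊥ \ inducedIrrAbove K Z) {q : ℕ}
    (hψ1 : ψ 1 = (K.index : ℂ) * q) :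
    ψ - (q : ℤ) • φ ∈ zspanOn (inducedIrrAbove K ⊥) {1}ᶜ :=
  mem_zspanOn_one.2 ⟨zspan_sub (mem_zspan hψ.1) (zspan_zsmul _ (mem_zspan (IndIrr.sub_bot K _ hφ))),
    by simp [hψ1, deg1 K φ hφ, mul_comm]⟩

/-- the inner product with `τ' φ` for all members of `S ∖ S(Z)` -/
theorem inner_val (c : Ctx K Z τ R τ2) {τ' : (L → ℂ) → (G → ℂ)}
    (hτ' : IsLinearIsometryOn (zspan (inducedIrrAbove K ⁅K, K⁆)) τ')
    (hag' : ∀ α ∈ zspanOn (inducedIrrAbove K ⁅K, K⁆) {1}ᶜ, τ' α = τ α) {φ ψ₀ ψ : L → ℂ}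
    (hφ : φ ∈ inducedIrrAbove K ⁅K, K⁆) (hψ₀ : ψ₀ ∈ inducedIrrAbove K ⊥ \ inducedIrrAbove K Z)
    (hψ : ψ ∈ inducedIrrAbove K ⊥ \ inducedIrrAbove K Z) {q₀ q : ℕ} (hq₀ : 0 < q₀)
    (hψ₀1 : ψ₀ 1 = (K.index : ℂ) * q₀) (hψ1 : ψ 1 = (K.index : ℂ) * q)
    (h0 : classInner (τ (ψ₀ - (q₀ : ℤ) • φ)) (τ' φ) = ((-(q₀ : ℤ) : ℤ) : ℂ)) :
    classInner (τ (ψ - (q : ℤ) • φ)) (τ' φ) = ((-(q : ℤ) : ℤ) : ℂ) := by
  have hτ := c.sys.isometry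
  have hZ := isZMod_zspanOn (inducedIrrAbove K ⊥) ({1}ᶜ : Set L)
  have hβ := c.beta_mem hφ hψ hψ1
  have hβ₀ := c.beta_mem hφ hψ₀ hψ₀1
  have m1 : ((q₀ : ℤ) • ψ) ∈ zspan (inducedIrrAbove K ⊥ \ inducedIrrAbove K Z) :=
    zspan_zsmul _ (mem_zspan hψ)
  have m2 : ((q : ℤ) • ψ₀) ∈ zspan (inducedIrrAbove K ⊥ \ inducedIrrAbove K Z) :=
    zspan_zsmul _ (mem_zspan hψ₀)
  have hγ : ((q₀ : ℤ) • ψ - (q : ℤ) • ψ₀) ∈
      zspanOn (inducedIrrAbove K ⊥ \ inducedIrrAbove K Z) {1}ᶜ :=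
    mem_zspanOn_one.2 ⟨zspan_sub m1 m2, by simp [hψ1, hψ₀1]; ring⟩
  have e : (q₀ : ℤ) • ψ - (q : ℤ) • ψ₀ =
      (q₀ : ℤ) • (ψ - (q : ℤ) • φ) - (q : ℤ) • (ψ₀ - (q₀ : ℤ) • φ) := by module
  have gφ := iso_gen hτ' (mem_zspan hφ)
  have e1 : classInner (τ2 ((q₀ : ℤ) • ψ - (q : ℤ) • ψ₀)) (τ' φ) = 0 := by
    rw [iso_sub c.iso2 (isZMod_zspan _) m1 m2, iso_zsmul c.iso2 _ (mem_zspan hψ),
      iso_zsmul c.iso2 _ (mem_zspan hψ₀), classInner_sub_left, classInner_zsmul_left,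
      classInner_zsmul_left, gen_inner_comm (iso_gen c.iso2 (mem_zspan hψ)) gφ,
      gen_inner_comm (iso_gen c.iso2 (mem_zspan hψ₀)) gφ, c.orth hτ' hag' hφ hψ,
      c.orth hτ' hag' hφ hψ₀]
    simp
  rw [c.ag2 _ hγ, e, iso_sub hτ hZ (hZ.zsmul _ hβ) (hZ.zsmul _ hβ₀), iso_zsmul hτ _ hβ,
    iso_zsmul hτ _ hβ₀, classInner_sub_left, classInner_zsmul_left, classInner_zsmul_left,
    h0] at e1
  have hq₀' : ((q₀ : ℤ) : ℂ) ≠ 0 := by exact_mod_cast hq₀.ne'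
  have e2 : ((q₀ : ℤ) : ℂ) * (classInner (τ (ψ - (q : ℤ) • φ)) (τ' φ) - ((-(q : ℤ) : ℤ) : ℂ)) = 0 := by
    push_cast at e1 ⊢
    linear_combination e1
  exact sub_eq_zero.1 ((mul_eq_zero.1 e2).resolve_left hq₀')

/-- the gluing step: `S(K') ∪ (S ∖ S(Z))` is coherent -/
theorem glue_main (c : Ctx K Z τ R τ2) [K.Normal] (hsolv : Group.IsSolvable K)
    (hK'K : ⁅K, K⁆ < K) (hne : (inducedIrrAbove K ⊥ \ inducedIrrAbove K Z).Nonempty) :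
    IsCoherent (inducedIrrAbove K ⁅K, K⁆ ∪ (inducedIrrAbove K ⊥ \ inducedIrrAbove K Z)) {1}ᶜ τ := by
  classical
  obtain ⟨φ, hφ, -⟩ := IndIrr.exists_linear K hsolv ⁅K, K⁆ hK'K
  obtain ⟨ψ₀, hψ₀⟩ := hne
  obtain ⟨q₀, hq₀, hψ₀1⟩ := c.deg2 ψ₀ hψ₀
  obtain ⟨τ', hτ', hag', h0⟩ := c.exists_good hsolv hK'K hφ hψ₀ hq₀ hψ₀1
  have hfin : (inducedIrrAbove K ⊥ \ inducedIrrAbove K Z).Finite :=
    (IndIrr.finite K ⊥).subset Set.sdiff_subset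
  have gφ := iso_gen hτ' (mem_zspan hφ)
  have hφφ : classInner (τ' φ) (τ' φ) = 1 := by
    rw [iso_inner hτ' (mem_zspan hφ) (mem_zspan hφ), c.norm φ (IndIrr.sub_bot K _ hφ)]
  obtain ⟨τ₂, h1, h2⟩ := grow_with c.sys (inducedIrrAbove K ⁅K, K⁆) hfin.toFinset
    (IndIrr.sub_bot K _) (by rw [hfin.coe_toFinset]; exact Set.sdiff_subset)
    (fun χ h => IndIrr.conj_mem K h)
    (fun χ h => by rw [hfin.mem_toFinset] at h ⊢; exact c.S2c χ h) hτ' hag' hφ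
    (by
      intro ψ hψ _
      rw [hfin.mem_toFinset] at hψ
      obtain ⟨q, _, hψ1⟩ := c.deg2 ψ hψ
      have hval := c.inner_val hτ' hag' hφ hψ₀ hψ (by omega) hψ₀1 hψ1 h0
      have hβ := c.beta_mem hφ hψ hψ1
      have gβ := iso_gen c.sys.isometry hβ
      have hψφ : classInner ψ φ = 0 := c.sys.orthogonal ψ hψ.1 φ (IndIrr.sub_bot K _ hφ)
        (fun e => c.disj hφ (e ▸ hψ))
      have hφψ : classInner φ ψ = 0 := c.sys.orthogonal φ (IndIrr.sub_bot K _ hφ) ψ hψ.1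
        (fun e => c.disj hφ (e ▸ hψ))
      have hββ : classInner (τ (ψ - (q : ℤ) • φ)) (τ (ψ - (q : ℤ) • φ)) =
          ((1 + (q : ℤ) ^ 2 : ℤ) : ℂ) := by
        rw [iso_inner c.sys.isometry hβ hβ]
        simp only [classInner_sub_left, classInner_sub_right, classInner_zsmul_left,
          classInner_zsmul_right, c.norm ψ hψ.1, hψφ, hφψ, c.norm φ (IndIrr.sub_bot K _ hφ)]
        push_cast
        ring
      refine ⟨(q : ℤ), τ (ψ - (q : ℤ) • φ) + (q : ℤ) • τ' φ, ?_, gen_add gβ (gen_zsmul gφ _), ?_,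
        ?_, by abel⟩
      · rw [hψ1, deg1 K φ hφ]; push_cast; ring
      · rw [c.norm ψ hψ.1]
        simp only [classInner_add_left, classInner_add_right, classInner_zsmul_left,
          classInner_zsmul_right, hββ, hval, gen_inner_comm gφ gβ, hφφ]
        push_cast
        ring
      · simp only [classInner_add_left, classInner_zsmul_left, hval, hφφ]
        push_cast
        ring)
  rw [hfin.coe_toFinset] at h1 h2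
  refine ⟨exists_ne_zero c.sys ?_ ?_ ⟨φ, Or.inl hφ⟩, τ₂, h1, h2⟩
  · rintro x (hx | hx)
    · exact IndIrr.sub_bot K _ hx
    · exact hx.1
  · rintro x (hx | hx)
    · exact Or.inl (IndIrr.conj_mem K hx)
    · exact Or.inr (c.S2c x hx)

end Ctx

end Cfsg.Agent.Lib.Helper26.Sibley
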