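import Cfsg.Agent.Lib.Helper26.CohGrow
import Cfsg.Agent.S1519

/-!
# Sibley's coherence theorem (Peterfalvi 6.8): the final growth step
-/

set_option autoImplicit false
set_option linter.unusedSectionVars false

namespace Cfsg.Agent.Lib.Helper26.Sibley

open Cfsg Cfsg.Agent.Lib.Helper15 Cfsg.Agent.Lib.Helper26
open scoped commutatorElement

theorem full_coherent {L : Type*} [Group L] [Fintype L] {G : Type*} [Group G] [Fintype G]
    (K : Subgroup L) [K.Normal] (hsolv : Group.IsSolvable K) (τ : (L → ℂ) → (G → ℂ))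
    (R : (L → ℂ) → Finset (G → ℂ)) (hS : IsCoherenceSystem (inducedIrrAbove K ⊥) τ R)
    (Z : Subgroup L) [Z.Normal] (hZK' : Z ≤ ⁅K, K⁆) (hK'K : ⁅K, K⁆ < K)
    (hZc : ∀ z ∈ Z, ∀ k ∈ K, z * k = k * z) (hZbig : 2 * K.index + 1 ≤ Nat.card Z)
    (hcoh : IsCoherent
      (inducedIrrAbove K ⁅K, K⁆ ∪ (inducedIrrAbove K ⊥ \ inducedIrrAbove K Z)) {1}ᶜ τ) :
    IsCoherent (inducedIrrAbove K ⊥) {1}ᶜ τ := by
  classical
  set S := inducedIrrAbove K ⊥ with hSdef
  have hZK : Z ≤ K := hZK'.trans hK'K.le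
  have hdx : ∀ χ : L → ℂ, ∃ m : ℕ, χ ∈ S → χ 1 = (m : ℂ) := by
    intro χ
    by_cases h : χ ∈ S
    · obtain ⟨m, _, hm⟩ := sys_degree hS h
      exact ⟨m, fun _ => hm⟩
    · exact ⟨0, fun h' => absurd h' h⟩
  have hnx : ∀ χ : L → ℂ, ∃ m : ℕ, χ ∈ S → classInner χ χ = (m : ℂ) := by
    intro χ
    by_cases h : χ ∈ S
    · obtain ⟨m, _, hm⟩ := sys_norm hS h
      exact ⟨m, fun _ => hm⟩
    · exact ⟨0, fun h' => absurd h' h⟩
  choose d hd using hdx
  choose n hn using hnx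
  have hfin0 : (inducedIrrAbove K ⁅K, K⁆ ∪ (S \ inducedIrrAbove K Z)).Finite :=
    (IndIrr.finite K _).union ((IndIrr.finite K ⊥).subset Set.sdiff_subset)
  set S₀ := hfin0.toFinset with hS₀
  set T := (IndIrr.finite K Z).toFinset with hT
  set U := (IndIrr.finite K ⊥).toFinset with hU
  have hS₀coe : (↑S₀ : Set (L → ℂ)) = inducedIrrAbove K ⁅K, K⁆ ∪ (S \ inducedIrrAbove K Z) :=
    Set.Finite.coe_toFinset _
  have hTcoe : (↑T : Set (L → ℂ)) = inducedIrrAbove K Z := Set.Finite.coe_toFinset _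
  have hS₀S : inducedIrrAbove K ⁅K, K⁆ ∪ (S \ inducedIrrAbove K Z) ⊆ S := by
    rintro x (hx | hx)
    · exact IndIrr.sub_bot K _ hx
    · exact hx.1
  obtain ⟨χ₁, hχ₁, hχ₁d⟩ := IndIrr.exists_linear K hsolv ⁅K, K⁆ hK'K
  have hdχ₁ : d χ₁ = K.index := by
    have := hd χ₁ (IndIrr.sub_bot K _ hχ₁)
    rw [hχ₁d] at this
    exact_mod_cast this.symm
  have hsumU := IndIrr.sum_sq K ⊥ bot_le d n hd hn
  have hsumT := IndIrr.sum_sq K Z hZK d n (fun χ hχ => hd χ (IndIrr.sub_bot K Z hχ))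
    (fun χ hχ => hn χ (IndIrr.sub_bot K Z hχ))
  rw [Subgroup.relIndex_bot_left] at hsumU
  have hTU : T ⊆ U := by
    intro x hx
    rw [hT, Set.Finite.mem_toFinset] at hx
    rw [hU, Set.Finite.mem_toFinset]
    exact IndIrr.sub_bot K Z hx
  have hsd := Finset.sum_sdiff (f := fun χ => ((d χ : ℝ) ^ 2 / (n χ : ℝ))) hTU
  have hsub : U \ T ⊆ S₀ := by
    intro x hx
    rw [Finset.mem_sdiff, hU, hT, Set.Finite.mem_toFinset, Set.Finite.mem_toFinset] at hx
    rw [hS₀, Set.Finite.mem_toFinset]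
    exact Or.inr hx
  have hle : ∑ χ ∈ U \ T, ((d χ : ℝ) ^ 2 / (n χ : ℝ)) ≤ ∑ χ ∈ S₀, ((d χ : ℝ) ^ 2 / (n χ : ℝ)) :=
    Finset.sum_le_sum_of_subset_of_nonneg hsub (fun i _ _ => by positivity)
  have hKi : 0 < K.index := Nat.pos_of_ne_zero Subgroup.index_ne_zero_of_finite
  have hcard : Z.relIndex K * Nat.card Z = Nat.card K := by
    have := Subgroup.relIndex_mul_relIndex ⊥ Z K bot_le hZK
    rw [Subgroup.relIndex_bot_left, Subgroup.relIndex_bot_left] at this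
    rw [mul_comm]; exact this
  have hu2 : 2 ≤ Z.relIndex K := by
    have h0 : Z.relIndex K ≠ 0 := Subgroup.index_ne_zero_of_finite (H := Z.subgroupOf K)
    have h1 : Z.relIndex K ≠ 1 := fun h =>
      absurd ((Subgroup.relIndex_eq_one.1 h).trans hZK') (not_le_of_gt hK'K)
    omega
  have hdeg : ∀ ψ ∈ T, ∃ t : ℕ, d ψ = K.index * t ∧ t < Z.relIndex K := by
    intro ψ hψ
    rw [hT, Set.Finite.mem_toFinset] at hψ
    have hψS := IndIrr.sub_bot K Z hψ
    obtain ⟨θ, h1, _, h3, rfl⟩ := hψ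
    obtain ⟨t, ht⟩ := char_one_nat (irr_char h1)
    have hdt : d (indFun K θ) = K.index * t := by
      have := hd _ hψS
      rw [indFun_one, ht] at this
      exact_mod_cast this.symm
    refine ⟨t, hdt, ?_⟩
    have hb := Cfsg.Agent.S1519.degree_bound K Z K Z le_rfl hZK le_rfl
      (fun x hx y hy => by
        rw [hZc x hx y hy]
        have : y * x * x⁻¹ * y⁻¹ = 1 := by group
        rw [this]; exact Z.one_mem) θ h1 h3 t ht
    have hb' : t ^ 2 ≤ Z.relIndex K := by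
      rw [mul_pow] at hb
      exact Nat.le_of_mul_le_mul_left hb (by positivity)
    by_cases ht1 : t ≤ 1
    · omega
    · have : t < t ^ 2 := by nlinarith
      omega
  have hgrow := grow hS d n hd hn S₀ T
    (by rw [hS₀coe]; exact hS₀S) (by rw [hTcoe]; exact IndIrr.sub_bot K Z)
    (by
      intro φ hφ
      rw [hS₀, Set.Finite.mem_toFinset] at hφ ⊢
      rcases hφ with hφ | hφ
      · exact Or.inl (IndIrr.conj_mem K hφ)
      · refine Or.inr ⟨IndIrr.conj_mem K hφ.1, fun h => hφ.2 ?_⟩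
        have := IndIrr.conj_mem K h
        rwa [Cfsg.Agent.S1517.conj_conj] at this)
    (by
      intro φ hφ
      rw [hT, Set.Finite.mem_toFinset] at hφ ⊢
      exact IndIrr.conj_mem K hφ)
    (by rw [hS₀coe]; exact hcoh) χ₁ (by rw [hS₀, Set.Finite.mem_toFinset]; exact Or.inl hχ₁)
    (by
      intro ψ hψ
      obtain ⟨t, ht, _⟩ := hdeg ψ hψ
      rw [hdχ₁, ht]; exact Dvd.intro _ rfl)
    (by
      intro ψ hψ
      obtain ⟨t, ht, htu⟩ := hdeg ψ hψ
      refine lt_of_lt_of_le ?_ hle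
      have hval : ∑ χ ∈ U \ T, ((d χ : ℝ) ^ 2 / (n χ : ℝ)) =
          (K.index : ℝ) * ((Nat.card K : ℝ) - 1) - (K.index : ℝ) * ((Z.relIndex K : ℝ) - 1) := by
        rw [← hsumU, ← hsumT, ← hsd]
        ring
      rw [hval, hdχ₁, ht, ← hcard]
      push_cast
      have h1 : (t : ℝ) + 1 ≤ (Z.relIndex K : ℝ) := by exact_mod_cast htu
      have h2 : 2 * (K.index : ℝ) + 1 ≤ (Nat.card Z : ℝ) := by exact_mod_cast hZbig
      have h3 : (0 : ℝ) < (K.index : ℝ) := by exact_mod_cast hKi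
      have h4 : (0 : ℝ) ≤ (t : ℝ) := by positivity
      have h5 : 2 * (K.index : ℝ) * ((t : ℝ) + 1) ≤ ((Nat.card Z : ℝ) - 1) * (Z.relIndex K : ℝ) := by
        have h6 : 2 * (K.index : ℝ) ≤ (Nat.card Z : ℝ) - 1 := by linarith
        exact mul_le_mul h6 h1 (by positivity) (by linarith)
      nlinarith)
  have heq : (↑(S₀ ∪ T) : Set (L → ℂ)) = S := by
    rw [Finset.coe_union, hS₀coe, hTcoe]
    ext x
    constructor
    · rintro (hx | hx)
      · exact hS₀S hx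
      · exact IndIrr.sub_bot K Z hx
    · intro hx
      by_cases hz : x ∈ inducedIrrAbove K Z
      · exact Or.inr hz
      · exact Or.inl (Or.inr ⟨hx, hz⟩)
  rw [heq] at hgrow
  exact hgrow

end Cfsg.Agent.Lib.Helper26.Sibley
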