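import Mathlib
import Cfsg.Prelude.Def_OddOrderChar
import Cfsg.Agent.Lib.Helper26.Virtual

set_option autoImplicit false
set_option linter.unusedSectionVars false

/-!
# Gluing linear isometries defined on orthogonal integer spans
-/

namespace Cfsg.Agent.Lib.Helper26

open Cfsg Cfsg.Agent.Lib.Helper3
open scoped ComplexConjugate

variable {L : Type*} [Group L] [Fintype L] {G : Type*} [Group G] [Fintype G]

theorem zspan_gen {S : Set (L → ℂ)} (hS : ∀ χ ∈ S, IsGeneralizedCharacter L χ) :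
    ∀ a ∈ zspan S, IsGeneralizedCharacter L a := by
  intro a ha
  induction ha using Submodule.span_induction with
  | mem x hx => exact hS x hx
  | zero => exact gen_zero
  | add x y _ _ hx hy => exact gen_add hx hy
  | smul n x _ hx => exact gen_zsmul hx n

theorem iso_id {S : Set (L → ℂ)} (hS : ∀ χ ∈ S, IsGeneralizedCharacter L χ) :
    IsLinearIsometryOn (zspan S) (id : (L → ℂ) → (L → ℂ)) :=
  ⟨fun _ _ _ _ => rfl, fun _ _ _ => rfl, fun _ _ _ _ => rfl, fun a ha => zspan_gen hS a ha⟩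

theorem inner_left_zero_of_span {S : Set (L → ℂ)} {f : (L → ℂ) → (G → ℂ)}
    (hf : IsLinearIsometryOn (zspan S) f) {v : G → ℂ} (h : ∀ a ∈ S, classInner (f a) v = 0) :
    ∀ a ∈ zspan S, classInner (f a) v = 0 := by
  intro a ha
  induction ha using Submodule.span_induction with
  | mem x hx => exact h x hx
  | zero => rw [iso_zero hf (isZMod_zspan S), classInner_zero_left]
  | add x y hx hy h1 h2 => rw [iso_add hf hx hy, classInner_add_left, h1, h2, add_zero]
  | smul n x hx h1 => rw [iso_zsmul hf n hx, classInner_zsmul_left, h1, mul_zero]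

theorem inner_zero_of_spans {X Y : Set (L → ℂ)} {σ τ : (L → ℂ) → (G → ℂ)}
    (hσ : IsLinearIsometryOn (zspan X) σ) (hτ : IsLinearIsometryOn (zspan Y) τ)
    (h : ∀ χ ∈ X, ∀ η ∈ Y, classInner (σ χ) (τ η) = 0) :
    ∀ a ∈ zspan X, ∀ b ∈ zspan Y, classInner (σ a) (τ b) = 0 := by
  intro a ha b hb
  refine inner_left_zero_of_span hσ (fun χ hχ => ?_) a ha
  rw [gen_inner_comm (iso_gen hσ (mem_zspan hχ)) (iso_gen hτ hb)]
  refine inner_left_zero_of_span hτ (fun η hη => ?_) b hb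
  rw [gen_inner_comm (iso_gen hτ (mem_zspan hη)) (iso_gen hσ (mem_zspan hχ))]
  exact h χ hχ η hη

theorem mem_zspan_union {X Y : Set (L → ℂ)} {θ : L → ℂ} :
    θ ∈ zspan (X ∪ Y) ↔ ∃ a ∈ zspan X, ∃ b ∈ zspan Y, θ = a + b := by
  unfold zspan
  rw [Submodule.span_union, SetLike.mem_coe, Submodule.mem_sup]
  constructor
  · rintro ⟨a, ha, b, hb, rfl⟩; exact ⟨a, ha, b, hb, rfl⟩
  · rintro ⟨a, ha, b, hb, rfl⟩; exact ⟨a, ha, b, hb, rfl⟩

theorem decomp_unique {X Y : Set (L → ℂ)} (hX : ∀ χ ∈ X, IsGeneralizedCharacter L χ)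
    (hY : ∀ η ∈ Y, IsGeneralizedCharacter L η) (hXY : ∀ χ ∈ X, ∀ η ∈ Y, classInner χ η = 0)
    {a a' b b' : L → ℂ} (ha : a ∈ zspan X) (ha' : a' ∈ zspan X) (hb : b ∈ zspan Y)
    (hb' : b' ∈ zspan Y) (h : a + b = a' + b') : a = a' ∧ b = b' := by
  have h1 : a - a' = b' - b := by
    rw [sub_eq_sub_iff_add_eq_add, h, add_comm]
  have h2 : classInner (a - a') (b' - b) = 0 :=
    inner_zero_of_spans (iso_id hX) (iso_id hY) hXY _ (zspan_sub ha ha') _ (zspan_sub hb' hb)
  have h3 : a - a' = 0 := by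
    apply classInner_self_eq_zero
    rw [← h1] at h2
    exact h2
  have h4 : b' - b = 0 := by rw [← h1, h3]
  exact ⟨sub_eq_zero.1 h3, (sub_eq_zero.1 h4).symm⟩

/-- Gluing two linear isometries with orthogonal sources and orthogonal images. -/
theorem glue {X Y : Set (L → ℂ)} (hX : ∀ χ ∈ X, IsGeneralizedCharacter L χ)
    (hY : ∀ η ∈ Y, IsGeneralizedCharacter L η) (hXY : ∀ χ ∈ X, ∀ η ∈ Y, classInner χ η = 0)
    {σ τ : (L → ℂ) → (G → ℂ)}
    (hσ : IsLinearIsometryOn (zspan X) σ) (hτ : IsLinearIsometryOn (zspan Y) τ)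
    (horth : ∀ χ ∈ X, ∀ η ∈ Y, classInner (σ χ) (τ η) = 0) :
    ∃ τ₁ : (L → ℂ) → (G → ℂ), IsLinearIsometryOn (zspan (X ∪ Y)) τ₁ ∧
      ∀ a ∈ zspan X, ∀ b ∈ zspan Y, τ₁ (a + b) = σ a + τ b := by
  classical
  let τ₁ : (L → ℂ) → (G → ℂ) := fun θ =>
    if h : ∃ a ∈ zspan X, ∃ b ∈ zspan Y, θ = a + b then
      σ (Classical.choose h) + τ (Classical.choose (Classical.choose_spec h).2) else 0
  have key : ∀ a ∈ zspan X, ∀ b ∈ zspan Y, τ₁ (a + b) = σ a + τ b := by
    intro a ha b hb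
    have h : ∃ a' ∈ zspan X, ∃ b' ∈ zspan Y, a + b = a' + b' := ⟨a, ha, b, hb, rfl⟩
    show (if h : ∃ a' ∈ zspan X, ∃ b' ∈ zspan Y, a + b = a' + b' then
      σ (Classical.choose h) + τ (Classical.choose (Classical.choose_spec h).2) else 0) = _
    rw [dif_pos h]
    have h1 := (Classical.choose_spec h).1
    have h2 := (Classical.choose_spec (Classical.choose_spec h).2).1
    have h3 := (Classical.choose_spec (Classical.choose_spec h).2).2
    obtain ⟨e1, e2⟩ := decomp_unique hX hY hXY ha h1 hb h2 h3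
    exact congrArg₂ (fun u v => σ u + τ v) e1.symm e2.symm
  have hcross := inner_zero_of_spans hσ hτ horth
  have hcross0 := inner_zero_of_spans (iso_id hX) (iso_id hY) hXY
  refine ⟨τ₁, ⟨?_, ?_, ?_, ?_⟩, key⟩
  · intro θ hθ θ' hθ'
    obtain ⟨a, ha, b, hb, rfl⟩ := mem_zspan_union.1 hθ
    obtain ⟨a', ha', b', hb', rfl⟩ := mem_zspan_union.1 hθ'
    have : a + b + (a' + b') = (a + a') + (b + b') := by abel
    rw [this, key _ (zspan_add ha ha') _ (zspan_add hb hb'), key a ha b hb, key a' ha' b' hb',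
      iso_add hσ ha ha', iso_add hτ hb hb']
    abel
  · intro θ hθ n
    obtain ⟨a, ha, b, hb, rfl⟩ := mem_zspan_union.1 hθ
    rw [smul_add, key _ (zspan_zsmul n ha) _ (zspan_zsmul n hb), key a ha b hb,
      iso_zsmul hσ n ha, iso_zsmul hτ n hb, smul_add]
  · intro θ hθ θ' hθ'
    obtain ⟨a, ha, b, hb, rfl⟩ := mem_zspan_union.1 hθ
    obtain ⟨a', ha', b', hb', rfl⟩ := mem_zspan_union.1 hθ'
    rw [key a ha b hb, key a' ha' b' hb']
    simp only [classInner_add_left, classInner_add_right]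
    rw [iso_inner hσ ha ha', iso_inner hτ hb hb', hcross a ha b' hb',
      gen_inner_comm (iso_gen hτ hb) (iso_gen hσ ha'), hcross a' ha' b hb]
    have e1 : classInner a b' = 0 := hcross0 a ha b' hb'
    have e2 : classInner b a' = 0 := by
      rw [gen_inner_comm (zspan_gen hY b hb) (zspan_gen hX a' ha')]; exact hcross0 a' ha' b hb
    rw [e1, e2]
  · intro θ hθ
    obtain ⟨a, ha, b, hb, rfl⟩ := mem_zspan_union.1 hθ
    rw [key a ha b hb]
    exact gen_add (iso_gen hσ ha) (iso_gen hτ hb)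

/-- cancel a nonzero integer scalar -/
theorem zsmul_cancel {n : ℤ} (hn : n ≠ 0) {f g : G → ℂ} (h : n • f = n • g) : f = g := by
  funext x
  have := congrFun h x
  simp only [Pi.smul_apply, zsmul_eq_mul] at this
  exact mul_left_cancel₀ (by exact_mod_cast hn) this

theorem natCast_smul_eq (n : ℕ) (f : G → ℂ) : (n : ℂ) • f = (n : ℤ) • f := by
  funext x; simp

end Cfsg.Agent.Lib.Helper26
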