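import Mathlib
import Cfsg.Agent.Lib.Helper15.Clifford
import Cfsg.Agent.Lib.Helper81.BrauerPerm

set_option autoImplicit false
set_option linter.unusedSectionVars false

/-!
# Conjugation action on the irreducible characters of a normal subgroup: fixed characters vs fixed classes
-/

namespace Cfsg.Agent.Lib.Helper26

open Cfsg Cfsg.Agent.Lib.Helper15

variable {G : Type*} [Group G] [Finite G] (N : Subgroup G) [hN : N.Normal]

/-- `x` fixes a non-principal irreducible character of the normal subgroup `N` iff it fixes a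
non-trivial conjugacy class of `N` (Brauer's permutation lemma for a single element). -/
theorem exists_fixed_irr_iff (x : G) :
    (∃ θ : N → ℂ, IsIrrCharacter N θ ∧ θ ≠ (fun _ => 1) ∧ cj N x θ = θ) ↔
    (∃ n : N, n ≠ 1 ∧ ∃ m : N, (m : G) * n * (m : G)⁻¹ = x * n * x⁻¹) := by
  classical
  let a : N → N := fun n => ⟨x * n * x⁻¹, hN.conj_mem n n.2 x⟩
  let σ : IrrCharacter N → IrrCharacter N := fun χ => ⟨cj N x χ.1, irr_cj N x χ.2⟩
  let abar : ConjClasses N → ConjClasses N := ConjClasses.map (MulAut.conjNormal x : N ≃* N).toMonoidHom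
  have habar : ∀ g, abar (ConjClasses.mk g) = ConjClasses.mk (a g) := by
    intro g
    show ConjClasses.mk ((MulAut.conjNormal x : N ≃* N) g) = ConjClasses.mk (a g)
    congr 1
  have hcard := Cfsg.Agent.Lib.Helper81.brauer_perm a σ (fun χ g => rfl) abar habar
  have htriv : IsIrrCharacter N (fun _ => (1 : ℂ)) := Cfsg.Agent.Lib.Helper74.isIrrCharacter_one
  have hσtriv : σ ⟨_, htriv⟩ = ⟨_, htriv⟩ := by
    apply Subtype.ext; funext n; rfl
  have habar1 : abar (ConjClasses.mk 1) = ConjClasses.mk 1 := by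
    rw [habar]; congr 1; apply Subtype.ext; simp [a]
  constructor
  · rintro ⟨θ, hθ, hne, hfix⟩
    have hnt : Nontrivial {χ : IrrCharacter N // σ χ = χ} :=
      ⟨⟨⟨⟨_, htriv⟩, hσtriv⟩, ⟨⟨θ, hθ⟩, Subtype.ext hfix⟩, fun h => hne
        (congrArg (fun z => (z.1.1 : N → ℂ)) h).symm⟩⟩
    have h1 : 1 < Nat.card {χ : IrrCharacter N // σ χ = χ} := Finite.one_lt_card_iff_nontrivial.2 hnt
    rw [hcard] at h1
    have hnt2 : Nontrivial {c : ConjClasses N // abar c = c} := Finite.one_lt_card_iff_nontrivial.1 h1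
    obtain ⟨⟨c, hc⟩, hcne⟩ := exists_ne (⟨ConjClasses.mk 1, habar1⟩ : {c : ConjClasses N // abar c = c})
    obtain ⟨n, rfl⟩ := ConjClasses.mk_surjective c
    refine ⟨n, ?_, ?_⟩
    · rintro rfl; exact hcne rfl
    · rw [habar, ConjClasses.mk_eq_mk_iff_isConj, isConj_comm, isConj_iff] at hc
      obtain ⟨m, hm⟩ := hc
      exact ⟨m, congrArg Subtype.val hm⟩
  · rintro ⟨n, hn, m, hm⟩
    have hfix : abar (ConjClasses.mk n) = ConjClasses.mk n := by
      rw [habar, ConjClasses.mk_eq_mk_iff_isConj, isConj_comm, isConj_iff]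
      exact ⟨m, Subtype.ext hm⟩
    have hnt : Nontrivial {c : ConjClasses N // abar c = c} :=
      ⟨⟨⟨ConjClasses.mk 1, habar1⟩, ⟨ConjClasses.mk n, hfix⟩, fun h => hn (by
        have h2 : ConjClasses.mk (1 : N) = ConjClasses.mk n := congrArg Subtype.val h
        rw [ConjClasses.mk_eq_mk_iff_isConj] at h2
        exact (isConj_one_right.1 h2))⟩⟩
    have h1 : 1 < Nat.card {c : ConjClasses N // abar c = c} := Finite.one_lt_card_iff_nontrivial.2 hnt
    rw [← hcard] at h1
    have hnt2 : Nontrivial {χ : IrrCharacter N // σ χ = χ} := Finite.one_lt_card_iff_nontrivial.1 h1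
    obtain ⟨⟨θ, hθ⟩, hθne⟩ := exists_ne (⟨⟨_, htriv⟩, hσtriv⟩ : {χ : IrrCharacter N // σ χ = χ})
    refine ⟨θ.1, θ.2, ?_, congrArg Subtype.val hθ⟩
    intro h
    apply hθne
    apply Subtype.ext; apply Subtype.ext; exact h

end Cfsg.Agent.Lib.Helper26
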