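import Cfsg.Agent.Lib.Helper26.BGTypesA

/-!
# BG section 16: the standard factorisation `M = K U M_σ` versus type P data
-/

set_option autoImplicit false

namespace Cfsg.Agent.Lib.Helper26.BGTypes

open Subgroup Cfsg
open Cfsg.Agent.Lib
open Cfsg.Agent.Lib.Helper24 Cfsg.Agent.Lib.Helper34 Cfsg.Agent.Lib.Helper31.BG11
open Cfsg.Agent.Lib.Helper34.BG13 Cfsg.Agent.Lib.Helper34.BG16 Cfsg.Agent.Lib.Helper10.BG124
open Cfsg.Agent.Lib.Helper34.BGRows
open scoped Pointwise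

universe u

variable {G : Type u} [Group G] [Finite G] {M K U : Subgroup G}

/-! ### cardinalities in the standard factorisation -/

theorem K_cop_sc (hKU : IsSigmaDecomposition M K U) :
    (Nat.card K).Coprime (Nat.card (sigmaCore M)) := by
  apply Nat.coprime_of_dvd
  intro r hr h1 h2
  exact (hKU.hall.2.1 r hr h1).2.2.1 (sc_primes M hr h2)

theorem U_cop_sc (hG : IsMinSimpleOddOrder G) (hM : IsCoatom M)
    (hKU : IsSigmaDecomposition M K U) : (Nat.card U).Coprime (Nat.card (sigmaCore M)) := by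
  apply Nat.coprime_of_dvd
  intro r hr h1 h2
  exact decomp_U_sigma' hG (hU_of hG) hM hKU r hr h1 (sc_primes M hr h2)

theorem card_K_sup (hKU : IsSigmaDecomposition M K U) :
    Nat.card (K ⊔ sigmaCore M : Subgroup G) = Nat.card K * Nat.card (sigmaCore M) :=
  Helper1.card_sup_of_disjoint (hKU.hall.1.trans (sc_norm M))
    (Subgroup.disjoint_of_coprime_natCard (K_cop_sc hKU))

theorem card_U_sup (hG : IsMinSimpleOddOrder G) (hM : IsCoatom M)
    (hKU : IsSigmaDecomposition M K U) :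
    Nat.card (U ⊔ sigmaCore M : Subgroup G) = Nat.card U * Nat.card (sigmaCore M) :=
  Helper1.card_sup_of_disjoint (hKU.compl.1.trans (sc_norm M))
    (Subgroup.disjoint_of_coprime_natCard (U_cop_sc hG hM hKU))

theorem card_M (hKU : IsSigmaDecomposition M K U) :
    Nat.card U * (Nat.card K * Nat.card (sigmaCore M)) = Nat.card M := by
  rw [← card_K_sup hKU]
  exact Helper23.complIn_card_mul hKU.compl

theorem K_cop_Usup (hKU : IsSigmaDecomposition M K U) :
    (Nat.card K).Coprime (Nat.card (U ⊔ sigmaCore M : Subgroup G)) := by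
  apply Nat.coprime_of_dvd
  intro r hr h1 h2
  exact kappa_not_dvd_card hKU (hKU.hall.2.1 r hr h1) h2

theorem compl_K (hG : IsMinSimpleOddOrder G) (hM : IsCoatom M)
    (hKU : IsSigmaDecomposition M K U) : IsComplIn (U ⊔ sigmaCore M) K M := by
  apply isComplIn_of_card (decomp_sup_le hKU) hKU.hall.1 (K_cop_Usup hKU).symm
  rw [card_U_sup hG hM hKU, ← card_M hKU]
  ring

theorem compl_U (hG : IsMinSimpleOddOrder G) (hM : IsCoatom M)
    (hKU : IsSigmaDecomposition M K U) : IsComplIn (sigmaCore M) U (U ⊔ sigmaCore M) := by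
  apply isComplIn_of_card le_sup_right le_sup_left (U_cop_sc hG hM hKU).symm
  rw [card_U_sup hG hM hKU]
  ring

theorem K_hall_cop (hKU : IsSigmaDecomposition M K U) :
    (Nat.card K).Coprime (K.relIndex M) := by
  apply Nat.coprime_of_dvd
  intro r hr h1 h2
  exact hKU.hall.2.2 r hr (hKU.hall.2.1 r hr h1) h2

theorem kappa_nonempty (hKU : IsSigmaDecomposition M K U) (hK1 : K ≠ ⊥) :
    (kappa M).Nonempty := by
  have h1 : Nat.card K ≠ 1 := fun h => hK1 ((Subgroup.card_eq_one).1 h)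
  obtain ⟨p, hp, hd⟩ := Nat.exists_prime_and_dvd h1
  exact ⟨p, hKU.hall.2.1 p hp hd⟩

theorem K_ne_bot_of_kappa (hKU : IsSigmaDecomposition M K U) {p : ℕ} (hp : p ∈ kappa M) :
    K ≠ ⊥ := by
  intro h
  have h1 := hKU.hall.2.2 p hp.1 hp
  rw [h, Subgroup.relIndex_bot_left] at h1
  exact h1 hp.2.1

/-- `K ⊓ M_σ = ⊥` -/
theorem K_inf_sc (hKU : IsSigmaDecomposition M K U) : K ⊓ sigmaCore M = ⊥ :=
  disjoint_iff.1 (Subgroup.disjoint_of_coprime_natCard (K_cop_sc hKU))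

/-! ### the self-normalizing cyclic pair -/

omit [Finite G] in
theorem comm_of_isCyclic {A : Subgroup G} (h : IsCyclic A) : ∀ a ∈ A, ∀ b ∈ A, a * b = b * a :=
  comm_of h.commutative

theorem selfNormalizing_of (hM : IsCoatom M) (hKU : IsSigmaDecomposition M K U) (hK1 : K ≠ ⊥)
    (h64 : H1364 G) (h66 : H1366 G) (h68 : H1368 G) (h70 : H1370 G) :
    IsSelfNormalizingCyclic K (sigmaCore M ⊓ centralizer (K : Set G)) := by
  obtain ⟨-, hKs1, -, -⟩ := h64 M hM K U hKU hK1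
  obtain ⟨Mst, ⟨hMst, hKst, hKstH⟩, -⟩ := h66 M hM K U hKU hK1
  obtain ⟨-, hcyc⟩ := h68 M hM K U hKU hK1 Mst hMst hKst hKstH
  obtain ⟨hTI, hN⟩ := h70 M hM K U hKU hK1
  refine ⟨hK1, hKs1, ?_, ?_, hcyc, ?_⟩
  · rw [eq_bot_iff, ← K_inf_sc hKU]
    exact le_inf inf_le_left (inf_le_right.trans inf_le_left)
  · intro a ha b hb
    exact (mem_centralizer_iff.1 hb.2 a ha)
  · intro X hX hXne
    apply le_antisymm
    · intro g hg
      rw [← hN]
      by_contra hg'
      obtain ⟨x, hx⟩ := hXne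
      have h1 : g * x * g⁻¹ ∈ X := (mem_set_normalizer_iff.1 hg x).1 hx
      have h2 := hTI g hg' x (hX hx) (hX h1)
      apply (hX hx).2
      left
      rw [h2]
      exact K.one_mem
    · intro g hg
      rw [mem_set_normalizer_iff]
      intro x
      have hcomm : ∀ y ∈ K ⊔ sigmaCore M ⊓ centralizer (K : Set G), g * y * g⁻¹ = y := by
        intro y hy
        rw [comm_of_isCyclic hcyc g hg y hy, mul_inv_cancel_right]
      constructor
      · intro hx
        rw [hcomm x (hX hx).1]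
        exact hx
      · intro hx
        have h1 := hcomm _ ((K ⊔ sigmaCore M ⊓ centralizer (K : Set G)).inv_mem hg |> fun h =>
          (K ⊔ sigmaCore M ⊓ centralizer (K : Set G)).mul_mem
            ((K ⊔ sigmaCore M ⊓ centralizer (K : Set G)).mul_mem h (hX hx).1) hg)
        have e : g⁻¹ * (g * x * g⁻¹) * g = x := by group
        rw [e] at h1
        rw [h1] at hx
        exact hx

/-! ### Lemma A: type P data from the standard factorisation -/

theorem typeP_of (hG : IsMinSimpleOddOrder G) (hM : IsCoatom M) (hKU : IsSigmaDecomposition M K U)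
    (hK1 : K ≠ ⊥) (h54 : H1354 G) (h56 : H1356 G) (h64 : H1364 G) (h65 : H1365 G)
    (h66 : H1366 G) (h68 : H1368 G) (h70 : H1370 G) {U' : Subgroup G}
    (hnil : Group.IsNilpotent U') (hn : K ≤ normalizer (U' : Set G))
    (hc : IsComplIn (fittingHallOf M) U' ⁅M, M⁆) :
    IsTypePWith M K U' (sigmaCore M ⊓ centralizer (K : Set G)) := by
  obtain ⟨-, -, hKsH, hHnc⟩ := h64 M hM K U hKU hK1
  obtain ⟨hM', hKs2⟩ := h65 M hM K U hKU hK1
  obtain ⟨h561, h562, h563⟩ := h56 M hM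
  have hcK := compl_K hG hM hKU
  rw [← hM'] at hcK
  refine ⟨hK1, hKU.cyclic, K_hall_cop hKU, hcK, hnil, hn, hc, hHnc, ?_, ?_, ?_, le_inf hKsH hKs2,
    ?_, selfNormalizing_of hM hKU hK1 h64 h66 h68 h70⟩
  · rw [sup_comm, ← h562]; exact h561
  · rw [sup_comm, ← h562]
  · exact h563 (kappa_nonempty hKU hK1)
  · intro x hx hx1
    have h1 := (h54 M hM K hKU.cyclic hKU.hall).2 hK1 x hx hx1
    apply le_antisymm
    · intro y hy
      have hyM : y ∈ M ⊓ centralizer {x} := ⟨hcK.1 hy.1, hy.2⟩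
      rw [h1] at hyM
      obtain ⟨k, hk, c, hc', rfl⟩ := Helper23.exists_mul_of_mem_sup_of_commute
        (A := K) (B := sigmaCore M ⊓ centralizer (K : Set G))
        (fun a ha b hb => mem_centralizer_iff.1 hb.2 a ha) hyM
      have hcM' : c ∈ ⁅M, M⁆ := by rw [hM']; exact le_sup_right (a := U) hc'.1
      have hk' : k ∈ ⁅M, M⁆ ⊓ K := by
        refine ⟨?_, hk⟩
        have := (⁅M, M⁆).mul_mem hy.1 ((⁅M, M⁆).inv_mem hcM')
        rwa [mul_inv_cancel_right] at this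
      rw [hcK.2.2.1, mem_bot] at hk'
      rw [hk', one_mul]
      exact hc'
    · intro y hy
      refine ⟨by rw [hM']; exact le_sup_right (a := U) hy.1, ?_⟩
      exact mem_centralizer_singleton_iff.2 (mem_centralizer_iff.1 hy.2 x hx).symm

/-! ### Lemma C: type P forces `κ(M) ≠ ∅` -/

theorem exists_orderOf_eq {A : Subgroup G} {p : ℕ} (hp : p.Prime) (hd : p ∣ Nat.card A) :
    ∃ w ∈ A, orderOf w = p := by
  haveI : Fact p.Prime := ⟨hp⟩
  obtain ⟨x, hx⟩ := exists_prime_orderOf_dvd_card' (G := A) p hd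
  exact ⟨x, x.2, by rw [← hx, Subgroup.orderOf_coe]⟩

theorem isPGroup_zpowers_of_orderOf {p : ℕ} (hp : p.Prime) {w : G} (hw : orderOf w = p) :
    IsPGroup p (zpowers w) := by
  haveI : Fact p.Prime := ⟨hp⟩
  apply IsPGroup.of_card (n := 1)
  rw [Nat.card_zpowers, hw, pow_one]

theorem exists_ne_one_of_ne_bot {A : Subgroup G} (h : A ≠ ⊥) : ∃ y ∈ A, y ≠ 1 := by
  obtain ⟨⟨y, hy⟩, hne⟩ := (Subgroup.ne_bot_iff_exists_ne_one).1 h
  exact ⟨y, hy, fun h => hne (Subtype.ext h)⟩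

/-- a Sylow subgroup of a Hall subgroup is a Sylow subgroup -/
theorem isSylowIn_of_hall {p : ℕ} (hp : p.Prime) {S W L : Subgroup G} (hWL : W ≤ L)
    (hcop : (Nat.card W).Coprime (W.relIndex L)) (hd : p ∣ Nat.card W) (hS : IsSylowIn p S W) :
    IsSylowIn p S L := by
  refine ⟨hS.1.trans hWL, hS.2.1, ?_⟩
  rw [← relIndex_mul_relIndex S W L hS.1 hWL]
  refine hp.not_dvd_mul hS.2.2 (fun h => ?_)
  exact hp.one_lt.ne' (Nat.dvd_one.1 (hcop ▸ Nat.dvd_gcd hd h))

theorem mem_kappa_of_typeP (hG : IsMinSimpleOddOrder G) (hM : IsCoatom M) (h55 : H1355 G)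
    {W₁ U' W₂ : Subgroup G} (hP : IsTypePWith M W₁ U' W₂) {p : ℕ} (hp : p.Prime)
    (hd : p ∣ Nat.card W₁) : p ∈ kappa M := by
  haveI : Fact p.Prime := ⟨hp⟩
  obtain ⟨-, hHs, hsM', -, -⟩ := h55 M hM
  obtain ⟨w, hw, hwo⟩ := exists_orderOf_eq hp hd
  have hW₁M : W₁ ≤ M := hP.W₁_compl.2.1
  have hσ : p ∉ sigma M := by
    intro hs
    have h1 : zpowers w ≤ sigmaCore M :=
      le_sc hG (hU_of hG) hM hs (zpowers_le.2 (hW₁M hw)) (isPGroup_zpowers_of_orderOf hp hwo)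
    have h2 : w ∈ ⁅M, M⁆ ⊓ W₁ := ⟨hsM' (h1 (mem_zpowers w)), hw⟩
    rw [hP.W₁_compl.2.2.1, mem_bot] at h2
    rw [h2, orderOf_one] at hwo
    exact hp.one_lt.ne hwo
  obtain ⟨S, hS, -⟩ := exists_isSylowIn_ge (bot_le : (⊥ : Subgroup G) ≤ W₁) (IsPGroup.of_bot (p := p))
  have hSM := isSylowIn_of_hall hp hW₁M hP.W₁_hall hd hS
  haveI : IsCyclic S := isCyclic_le hS.1 hP.W₁_cyclic
  have hrk : PRankLE p 1 M := pRankLE_of_isSylowIn hSM (pRankLE_one_of_isCyclic hp.pos)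
  obtain ⟨y, hy, hy1⟩ := exists_ne_one_of_ne_bot hP.selfNormalizing.2.1
  exact mem_kappa_of hG hM hp hσ hrk (hW₁M hw) hwo (hHs (hP.W₂_le hy).1) hy1
    (hP.selfNormalizing.2.2.2.1 w hw y hy)

theorem K_ne_bot_of_typeP (hG : IsMinSimpleOddOrder G) (hM : IsCoatom M) (h55 : H1355 G)
    (hKU : IsSigmaDecomposition M K U)
    {W₁ U' W₂ : Subgroup G} (hP : IsTypePWith M W₁ U' W₂) : K ≠ ⊥ := by
  have h1 : Nat.card W₁ ≠ 1 := fun h => hP.W₁_ne ((Subgroup.card_eq_one).1 h)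
  obtain ⟨p, hp, hd⟩ := Nat.exists_prime_and_dvd h1
  exact K_ne_bot_of_kappa hKU (mem_kappa_of_typeP hG hM h55 hP hp hd)

/-! ### Lemma D: normalizers of nilpotent Hall subgroups of `M_σ` -/

theorem normalizer_le_of_hall_sc (hG : IsMinSimpleOddOrder G) (hM : IsCoatom M)
    {T : Subgroup G} (hT : T ≤ sigmaCore M) (hT1 : T ≠ ⊥) (hnil : Group.IsNilpotent T)
    (hcop : (Nat.card T).Coprime (T.relIndex M)) : normalizer (T : Set G) ≤ M := by
  have h1 : Nat.card T ≠ 1 := fun h => hT1 ((Subgroup.card_eq_one).1 h)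
  obtain ⟨q, hq, hd⟩ := Nat.exists_prime_and_dvd h1
  haveI : Fact q.Prime := ⟨hq⟩
  obtain ⟨Q, hQ, -⟩ := exists_isSylowIn_ge (bot_le : (⊥ : Subgroup G) ≤ T) (IsPGroup.of_bot (p := q))
  have hQM := isSylowIn_of_hall hq (hT.trans (sc_le M)) hcop hd hQ
  have hqs : q ∈ sigma M := sc_primes M hq (hd.trans (Subgroup.card_dvd_of_le hT))
  exact (le_normalizer_of_sylow_nilpotent le_rfl hnil hQ).trans (sigma_normalizer_le hqs hQM)

/-! ### Type II -/

omit [Finite G] in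
theorem isNilpotent_of_comm {A : Subgroup G} (h : IsMulCommutative A) : Group.IsNilpotent A :=
  Subgroup.nilpotent_iff_lowerCentralSeries.mpr ⟨1, Subgroup.lowerCentralSeries_one_eq_bot_iff.mpr h⟩

/-- a complement of `M_F` in a subgroup of `M` containing `M_F` is a Hall subgroup of it -/
theorem compl_fh_cop {T L : Subgroup G} (hLM : L ≤ M) (hc : IsComplIn (fittingHallOf M) T L) :
    (Nat.card T).Coprime (Nat.card (fittingHallOf M)) := by
  have h1 : Nat.card T = (fittingHallOf M).relIndex L := (Helper23.complIn_relIndex_left hc).symm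
  have h2 := relIndex_mul_relIndex _ _ _ hc.1 hLM
  rw [h1]
  exact (Nat.Coprime.coprime_dvd_right (Dvd.intro _ h2) (fh_cop M)).symm

theorem M'_cop (hG : IsMinSimpleOddOrder G) (hM : IsCoatom M) (hKU : IsSigmaDecomposition M K U) :
    (Nat.card (U ⊔ sigmaCore M : Subgroup G)).Coprime ((U ⊔ sigmaCore M : Subgroup G).relIndex M) := by
  rw [Helper23.complIn_relIndex_left (compl_K hG hM hKU)]
  exact (K_cop_Usup hKU).symm

theorem typeII_of (hG : IsMinSimpleOddOrder G) (hM : IsCoatom M) (hKU : IsSigmaDecomposition M K U)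
    (h54 : H1354 G) (h55 : H1355 G) (h56 : H1356 G) (h57 : H1357 G) (h60 : H1360 G) (h63 : H1363 G)
    (h64 : H1364 G) (h65 : H1365 G) (h66 : H1366 G) (h68 : H1368 G) (h70 : H1370 G)
    (h72 : H1372 G) (hK1 : K ≠ ⊥) (hU1 : U ≠ ⊥) : IsOfTypeII M := by
  have hH : fittingHallOf M = sigmaCore M := by
    by_contra hne
    exact hU1 (h57 M hM K U hKU hne).1
  obtain ⟨hUab, hNU⟩ := h63 M hM K U hKU hK1
  obtain ⟨hM', -⟩ := h65 M hM K U hKU hK1
  obtain ⟨hKp, hTI, -⟩ := h72 M hM K U hKU hK1 hU1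
  have hcU : IsComplIn (fittingHallOf M) U ⁅M, M⁆ := by
    rw [hH, hM']; exact compl_U hG hM hKU
  have hP := typeP_of hG hM hKU hK1 h54 h56 h64 h65 h66 h68 h70 (isNilpotent_of_comm hUab)
    hKU.normal hcU
  have hfh : fittingHallOf ⁅M, M⁆ = fittingHallOf M := by
    apply fh_of_normal hP.W₁_compl.1 (BG13.le_normalizer_commutator_self M) _ hcU.1
    rw [hM']
    exact M'_cop hG hM hKU
  refine ⟨K, U, _, hP, hU1, hKp, hTI, hUab, hNU, ?_, hfh⟩
  obtain ⟨U₀, hU₀, hexp, hfree⟩ := h60 M hM K U hKU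
  apply isOfTypeF_of (U := U) (U₁ := U) (U₀ := U₀)
    (MS_solvable hG (ne_top_of_le_ne_top hM.1 hP.W₁_compl.1)) (MS_odd hG _)
  · rw [hfh]; exact (h55 M hM).1
  · exact hU1
  · rw [hfh]; exact hcU
  · exact le_rfl
  · exact le_normalizer
  · exact hUab
  · intro x _ _
    exact inf_le_left
  · exact hU₀
  · exact hexp
  · intro u hu hu1 x hx hux
    by_contra hx1
    apply hu1
    apply hfree u hu
    refine ⟨hKU.compl.1 (hU₀ hu), x, ?_, hx1, hux⟩
    rw [hfh, hH] at hx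
    exact hx

theorem typeII_iff (hG : IsMinSimpleOddOrder G) (hM : IsCoatom M) (hKU : IsSigmaDecomposition M K U)
    (h54 : H1354 G) (h55 : H1355 G) (h56 : H1356 G) (h57 : H1357 G) (h60 : H1360 G) (h63 : H1363 G)
    (h64 : H1364 G) (h65 : H1365 G) (h66 : H1366 G) (h68 : H1368 G) (h70 : H1370 G)
    (h72 : H1372 G) : IsOfTypeII M ↔ (K ≠ ⊥ ∧ U ≠ ⊥) := by
  constructor
  · rintro ⟨W₁, U', W₂, hP, hU'1, -, -, -, hN, -, -⟩
    have hK1 := K_ne_bot_of_typeP hG hM h55 hKU hP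
    refine ⟨hK1, fun hU => hN ?_⟩
    obtain ⟨hM', -⟩ := h65 M hM K U hKU hK1
    rw [hU, bot_sup_eq] at hM'
    have hc := hP.U_compl
    apply normalizer_le_of_hall_sc hG hM (hM' ▸ hc.2.1) hU'1 hP.U_nilpotent
    rw [← relIndex_mul_relIndex _ _ _ hc.2.1 hP.W₁_compl.1, Helper23.complIn_relIndex_right hc,
      Helper23.complIn_relIndex_left hP.W₁_compl]
    apply Nat.Coprime.mul_right (compl_fh_cop hP.W₁_compl.1 hc)
    have h1 : (Nat.card W₁).Coprime (Nat.card (⁅M, M⁆ : Subgroup G)) := by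
      have := hP.W₁_hall
      rwa [Helper23.complIn_relIndex_right hP.W₁_compl] at this
    exact (Nat.Coprime.coprime_dvd_right (Subgroup.card_dvd_of_le hc.2.1) h1).symm
  · rintro ⟨hK1, hU1⟩
    exact typeII_of hG hM hKU h54 h55 h56 h57 h60 h63 h64 h65 h66 h68 h70 h72 hK1 hU1

/-! ### Types III and IV -/

theorem typeP_U_hall {W₁ U' W₂ : Subgroup G} (hP : IsTypePWith M W₁ U' W₂) :
    (Nat.card U').Coprime (U'.relIndex M) := by
  have hc := hP.U_compl
  rw [← relIndex_mul_relIndex _ _ _ hc.2.1 hP.W₁_compl.1, Helper23.complIn_relIndex_right hc,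
    Helper23.complIn_relIndex_left hP.W₁_compl]
  apply Nat.Coprime.mul_right (compl_fh_cop hP.W₁_compl.1 hc)
  have h1 : (Nat.card W₁).Coprime (Nat.card (⁅M, M⁆ : Subgroup G)) := by
    have := hP.W₁_hall
    rwa [Helper23.complIn_relIndex_right hP.W₁_compl] at this
  exact (Nat.Coprime.coprime_dvd_right (Subgroup.card_dvd_of_le hc.2.1) h1).symm

omit [Finite G] in
theorem normalizer_le_of_conj_smul {A B L : Subgroup G} {l : G} (hl : l ∈ L)
    (h : MulAut.conj l • A = B) (hN : normalizer (B : Set G) ≤ L) : normalizer (A : Set G) ≤ L := by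
  have h1 : cj l A = B := h
  rw [← h1, normalizer_map_conj, map_conj_le_iff, map_conj_eq_self_of_mem (L.inv_mem hl)] at hN
  exact hN

theorem typeIII_IV_imp (hG : IsMinSimpleOddOrder G) (hM : IsCoatom M)
    (hKU : IsSigmaDecomposition M K U) (h55 : H1355 G) (h57 : H1357 G) (h63 : H1363 G)
    (h65 : H1365 G) {W₁ U' W₂ : Subgroup G} (hP : IsTypePWith M W₁ U' W₂) (hU'1 : U' ≠ ⊥)
    (hN : normalizer (U' : Set G) ≤ M) :
    K ≠ ⊥ ∧ U = ⊥ ∧ fittingHallOf M ≠ sigmaCore M := by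
  have hK1 := K_ne_bot_of_typeP hG hM h55 hKU hP
  obtain ⟨hM', -⟩ := h65 M hM K U hKU hK1
  have hc := hP.U_compl
  have hU : U = ⊥ := by
    by_contra hU1
    have hH : fittingHallOf M = sigmaCore M := by
      by_contra hne
      exact hU1 (h57 M hM K U hKU hne).1
    have hcU : IsComplIn (fittingHallOf M) U ⁅M, M⁆ := by
      rw [hH, hM']; exact compl_U hG hM hKU
    have hcard : Nat.card U' = Nat.card U := by
      have h1 := Helper23.complIn_card_mul hc
      rw [← Helper23.complIn_card_mul hcU] at h1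
      exact Nat.eq_of_mul_eq_mul_left Nat.card_pos h1
    obtain ⟨l, hl, hlU⟩ := Helper1.hall_conj_rel ⁅M, M⁆
      (MS_solvable hG (ne_top_of_le_ne_top hM.1 hP.W₁_compl.1)) U U' hcU.2.1 hc.2.1
      (by rw [Helper23.complIn_relIndex_right hcU]; exact compl_fh_cop hP.W₁_compl.1 hcU) hcard
    exact (h63 M hM K U hKU hK1).2 (normalizer_le_of_conj_smul (hP.W₁_compl.1 hl) hlU hN)
  refine ⟨hK1, hU, fun hH => hU'1 ?_⟩
  rw [hU, bot_sup_eq] at hM'
  rw [eq_bot_iff, ← hc.2.2.1]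
  refine le_inf ?_ le_rfl
  rw [hH, ← hM']
  exact hc.2.1

theorem exists_compl_fh_ge (hG : IsMinSimpleOddOrder G) (hM : IsCoatom M)
    {K : Subgroup G} (hKM : K ≤ M) (hKcop : (Nat.card K).Coprime (Nat.card (fittingHallOf M))) :
    ∃ V, IsComplIn V (fittingHallOf M) M ∧ K ≤ V := by
  have hcop := fh_cop M
  obtain ⟨E0, hE0M, hE0c, hE0s⟩ :=
    Helper1.sz_exists_rel (fittingHallOf M) M (fh_le M) (fh_norm M) hcop
  have hsolv : Group.IsSolvable (fittingHallOf M) :=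
    MS_solvable hG (ne_top_of_le_ne_top hM.1 (fh_le M))
  obtain ⟨x, hx, hKx⟩ := Helper1.sz_dominance_rel (fittingHallOf M) E0 K (hE0M.trans (fh_norm M))
    (by rw [hE0c]; exact hcop.symm) (Or.inr hsolv) (by rw [hE0s]; exact hKM) hKcop
  refine ⟨MulAut.conj x • E0, ?_, hKx⟩
  apply isComplIn_of_card
  · have h1 : MulAut.conj x • E0 ≤ MulAut.conj x • M :=
      Subgroup.pointwise_smul_le_pointwise_smul_iff.2 hE0M
    rwa [Helper1.conj_smul_eq_of_mem_normalizer (Subgroup.le_normalizer (fh_le M hx))] at h1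
  · exact fh_le M
  · rw [Helper1.card_conj_smul, hE0c]
    exact hcop.symm
  · rw [Helper1.card_conj_smul, hE0c, mul_comm]
    exact Helper23.card_mul_relIndex (fh_le M)

/-- a subgroup of `M'` meeting `M_F` trivially is nilpotent -/
theorem isNilpotent_of_inf_fh (hM : IsCoatom M) (h55 : H1355 G) {T : Subgroup G}
    (hT : T ≤ ⁅M, M⁆) (hd : fittingHallOf M ⊓ T = ⊥) : Group.IsNilpotent T := by
  obtain ⟨-, -, -, hM'M, hnil⟩ := h55 M hM
  have hTM : T ≤ M := hT.trans hM'M.le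
  let f : T →* M ⧸ fittingHall M := (QuotientGroup.mk' (fittingHall M)).comp (Subgroup.inclusion hTM)
  have hf : ∀ x : T, f x ∈ (commutator ↥M).map (QuotientGroup.mk' (fittingHall ↥M)) := by
    intro x
    refine Subgroup.mem_map_of_mem _ ?_
    have h1 : (x : G) ∈ (commutator M).map M.subtype := by
      rw [Subgroup.map_subtype_commutator]; exact hT x.2
    obtain ⟨y, hy, hyx⟩ := h1
    have : y = Subgroup.inclusion hTM x := Subtype.ext hyx
    rwa [← this]
  let g : T →* ↥((commutator ↥M).map (QuotientGroup.mk' (fittingHall ↥M))) := f.codRestrict _ hf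
  have hinj : Function.Injective g := by
    rw [injective_iff_map_eq_one]
    intro x hx
    have h1 : f x = 1 := congrArg Subtype.val hx
    have h2 : Subgroup.inclusion hTM x ∈ fittingHall M := by
      rw [← QuotientGroup.eq_one_iff]; exact h1
    have h3 : (x : G) ∈ fittingHallOf M ⊓ T := by
      refine ⟨?_, x.2⟩
      rw [← fh_subgroupOf, mem_subgroupOf] at h2
      exact h2
    rw [hd, mem_bot] at h3
    exact Subtype.ext h3
  have h4 : Group.IsNilpotent g.range := inferInstance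
  exact (Group.isNilpotent_congr (MonoidHom.ofInjective hinj)).mpr h4

theorem typeIII_IV_of (hG : IsMinSimpleOddOrder G) (hM : IsCoatom M)
    (hKU : IsSigmaDecomposition M K U)
    (h54 : H1354 G) (h55 : H1355 G) (h56 : H1356 G) (h57 : H1357 G)
    (h64 : H1364 G) (h65 : H1365 G) (h66 : H1366 G) (h68 : H1368 G) (h70 : H1370 G)
    (hK1 : K ≠ ⊥) (hU : U = ⊥) (hne : fittingHallOf M ≠ sigmaCore M) :
    IsOfTypeIII M ∨ IsOfTypeIV M := by
  obtain ⟨-, hHs, -, -, -⟩ := h55 M hM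
  obtain ⟨hM', -⟩ := h65 M hM K U hKU hK1
  rw [hU, bot_sup_eq] at hM'
  obtain ⟨-, hTI, hKp⟩ := h57 M hM K U hKU hne
  obtain ⟨V, hV, hKV⟩ := exists_compl_fh_ge hG hM hKU.hall.1
    (Nat.Coprime.coprime_dvd_right (Subgroup.card_dvd_of_le hHs) (K_cop_sc hKU))
  have hc : IsComplIn (fittingHallOf M) (V ⊓ sigmaCore M) ⁅M, M⁆ := by
    rw [hM']
    refine ⟨hHs, inf_le_right, ?_, ?_⟩
    · rw [eq_bot_iff, ← hV.2.2.1]
      exact le_inf (inf_le_right.trans inf_le_left) inf_le_left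
    · intro m hm
      obtain ⟨v, hv, h, hh, hvh⟩ := hV.2.2.2 m⁻¹ (M.inv_mem (sc_le M hm))
      refine ⟨h⁻¹, (fittingHallOf M).inv_mem hh, v⁻¹, ⟨V.inv_mem hv, ?_⟩, ?_⟩
      · have h1 : v = m⁻¹ * h⁻¹ := by rw [hvh, mul_inv_cancel_right]
        rw [h1]
        exact (sigmaCore M).inv_mem ((sigmaCore M).mul_mem ((sigmaCore M).inv_mem hm)
          ((sigmaCore M).inv_mem (hHs hh)))
      · rw [← mul_inv_rev, ← hvh, inv_inv]
  have hn : K ≤ normalizer ((V ⊓ sigmaCore M : Subgroup G) : Set G) := by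
    apply le_normalizer_of_conj_mem
    intro k hk x hx
    exact ⟨V.mul_mem (V.mul_mem (hKV hk) hx.1) (V.inv_mem (hKV hk)),
      conj_mem_of_le_normalizer (sc_norm M) (hKU.hall.1 hk) hx.2⟩
  have hnil := isNilpotent_of_inf_fh hM h55 hc.2.1 hc.2.2.1
  have hP := typeP_of hG hM hKU hK1 h54 h56 h64 h65 h66 h68 h70 hnil hn hc
  have hU'1 : V ⊓ sigmaCore M ≠ ⊥ := by
    intro h0
    apply hne
    apply Subgroup.eq_of_le_of_card_ge hHs
    have h1 := Helper23.complIn_card_mul hc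
    rw [h0, Subgroup.card_bot, mul_one, hM'] at h1
    exact h1.ge
  have hN := normalizer_le_of_hall_sc hG hM inf_le_right hU'1 hnil (typeP_U_hall hP)
  by_cases hab : IsMulCommutative ↥(V ⊓ sigmaCore M)
  · exact Or.inl ⟨K, _, _, hP, hU'1, hKp, hTI, hab, hN⟩
  · exact Or.inr ⟨K, _, _, hP, hU'1, hKp, hTI, hab, hN⟩

theorem typeIII_IV_iff (hG : IsMinSimpleOddOrder G) (hM : IsCoatom M)
    (hKU : IsSigmaDecomposition M K U)
    (h54 : H1354 G) (h55 : H1355 G) (h56 : H1356 G) (h57 : H1357 G) (h63 : H1363 G)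
    (h64 : H1364 G) (h65 : H1365 G) (h66 : H1366 G) (h68 : H1368 G) (h70 : H1370 G) :
    (IsOfTypeIII M ∨ IsOfTypeIV M) ↔ (K ≠ ⊥ ∧ U = ⊥ ∧ fittingHallOf M ≠ sigmaCore M) := by
  constructor
  · rintro (⟨W₁, U', W₂, hP, hU'1, -, -, -, hN⟩ | ⟨W₁, U', W₂, hP, hU'1, -, -, -, hN⟩)
    · exact typeIII_IV_imp hG hM hKU h55 h57 h63 h65 hP hU'1 hN
    · exact typeIII_IV_imp hG hM hKU h55 h57 h63 h65 hP hU'1 hN
  · rintro ⟨hK1, hU, hne⟩
    exact typeIII_IV_of hG hM hKU h54 h55 h56 h57 h64 h65 h66 h68 h70 hK1 hU hne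

end Cfsg.Agent.Lib.Helper26.BGTypes
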