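import Cfsg.Agent.Lib.Helper26.BG1363b
import Cfsg.Agent.Lib.Helper24.Basic

/-!
# Row S1363: the decomposition `U = U₁ × U₂` relative to `H` and the final contradiction
-/

set_option autoImplicit false

namespace Cfsg.Agent.Lib.Helper26.BG1363

open Subgroup Cfsg
open Cfsg.Agent.Lib
open Cfsg.Agent.Lib.Helper24 Cfsg.Agent.Lib.Helper34 Cfsg.Agent.Lib.Helper31.BG11
open Cfsg.Agent.Lib.Helper34.BG13 Cfsg.Agent.Lib.Helper34.BG16 Cfsg.Agent.Lib.Helper10.BG124
open Cfsg.Agent.Lib.Helper34.BGRows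
open Cfsg.Agent.Lib.Helper26.BGTypes
open scoped Pointwise commutatorElement

universe u

variable {G : Type u} [Group G]

/-- the elements of order coprime to `n` in an abelian subgroup -/
def copPart (U : Subgroup G) (hU : IsMulCommutative U) (n : ℕ) : Subgroup G where
  carrier := {x | x ∈ U ∧ (orderOf x).Coprime n}
  mul_mem' := by
    rintro a b ⟨ha, ha'⟩ ⟨hb, hb'⟩
    refine ⟨U.mul_mem ha hb, ?_⟩
    have hc : Commute a b := comm_of hU a ha b hb
    exact Nat.Coprime.coprime_dvd_left hc.orderOf_mul_dvd_mul_orderOf (Nat.Coprime.mul_left ha' hb')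
  one_mem' := ⟨U.one_mem, by simp⟩
  inv_mem' := by
    rintro a ⟨ha, ha'⟩
    exact ⟨U.inv_mem ha, by rwa [orderOf_inv]⟩

theorem mem_copPart {U : Subgroup G} {hU : IsMulCommutative U} {n : ℕ} {x : G} :
    x ∈ copPart U hU n ↔ x ∈ U ∧ (orderOf x).Coprime n := Iff.rfl

theorem copPart_le (U : Subgroup G) (hU : IsMulCommutative U) (n : ℕ) : copPart U hU n ≤ U :=
  fun _ h => h.1

theorem normalizer_le_copPart (U : Subgroup G) (hU : IsMulCommutative U) (n : ℕ) :
    normalizer (U : Set G) ≤ normalizer (copPart U hU n : Set G) := by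
  apply le_normalizer_of_conj_mem
  intro l hl x hx
  exact ⟨conj_mem_of_le_normalizer le_rfl hl hx.1, by rw [orderOf_conj']; exact hx.2⟩

variable [Finite G]

theorem card_copPart_coprime (U : Subgroup G) (hU : IsMulCommutative U) (n : ℕ) :
    (Nat.card (copPart U hU n)).Coprime n := by
  apply Nat.coprime_of_dvd
  intro p hp h1 h2
  obtain ⟨w, hw, hwo⟩ := exists_orderOf_eq hp h1
  have h3 := hw.2
  rw [hwo] at h3
  exact hp.one_lt.ne' (Nat.dvd_one.1 (h3 ▸ Nat.dvd_gcd (dvd_refl p) h2))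

theorem le_copPart_sup {U N H : Subgroup G} (hU : IsMulCommutative U) (hUH : U ≤ H) (hNH : N ≤ H)
    (hn : H ≤ normalizer (N : Set G)) (hcop : (Nat.card N).Coprime (N.relIndex H)) :
    U ≤ copPart U hU (Nat.card N) ⊔ (U ⊓ N) := by
  intro x hx
  apply BG16.mem_of_pow_mem_of_coprime hcop
  · apply le_sup_left (b := U ⊓ N)
    refine ⟨U.pow_mem hx _, ?_⟩
    have h1 : (x ^ Nat.card N) ^ N.relIndex H = 1 := by
      rw [← pow_mul, Helper23.card_mul_relIndex hNH]
      have := pow_card_eq_one' (G := H) (x := ⟨x, hUH hx⟩)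
      exact congrArg Subtype.val this
    exact Nat.Coprime.coprime_dvd_left (orderOf_dvd_of_pow_eq_one h1) hcop.symm
  · apply le_sup_right (a := copPart U hU (Nat.card N))
    exact ⟨U.pow_mem hx _, pow_relIndex_mem hNH hn (hUH hx)⟩

/-- a normal subgroup `N'` of `H` meeting `M_σ` trivially is centralized by `M_σ ∩ H` -/
theorem inf_eq_bot_of_normal {M H N' R' : Subgroup G} (hN' : H ≤ normalizer (N' : Set G))
    (hNM : N' ⊓ sigmaCore M = ⊥) (hR'N : R' ≤ N') (hR'M : R' ≤ M)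
    (hc : sigmaCore M ⊓ centralizer (R' : Set G) = ⊥) : sigmaCore M ⊓ H = ⊥ := by
  rw [eq_bot_iff, ← hc]
  intro d hd
  refine ⟨hd.1, mem_centralizer_iff.2 ?_⟩
  intro x hx
  have h1 : d * x * d⁻¹ * x⁻¹ ∈ N' ⊓ sigmaCore M := by
    refine ⟨N'.mul_mem (conj_mem_of_le_normalizer hN' hd.2 (hR'N hx)) (N'.inv_mem (hR'N hx)), ?_⟩
    have e : d * x * d⁻¹ * x⁻¹ = d * (x * d⁻¹ * x⁻¹) := by group
    rw [e]
    exact (sigmaCore M).mul_mem hd.1
      (conj_mem_of_le_normalizer (sc_norm M) (hR'M hx) ((sigmaCore M).inv_mem hd.1))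
  rw [hNM, mem_bot] at h1
  have e2 : d * x = (d * x * d⁻¹ * x⁻¹) * (x * d) := by group
  rw [e2, h1, one_mul]

omit [Finite G] in
theorem le_normalizer_sup {L A B : Subgroup G} (hA : L ≤ normalizer (A : Set G))
    (hB : L ≤ normalizer (B : Set G)) : L ≤ normalizer ((A ⊔ B : Subgroup G) : Set G) := by
  intro l hl
  apply mem_normalizer_of_map_conj_eq
  rw [Subgroup.map_sup, map_conj_eq_self_of_mem_normalizer (hA hl),
    map_conj_eq_self_of_mem_normalizer (hB hl)]

/-- a `σ(H)'`-subgroup of `H` centralizing `H_σ` is normal in `H` (from row S1438) -/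
theorem le_normalizer_of_centralizes {H V : Subgroup G} (hH : IsCoatom H) (h38 : H1438 G)
    (hne : sigmaCore H ≠ ⊥) (hVH : V ≤ H) (hVc : sigmaCore H ≤ centralizer (V : Set G))
    (hVcop : (Nat.card V).Coprime (Nat.card (sigmaCore H))) : H ≤ normalizer (V : Set G) := by
  obtain ⟨X, hXc, hXτ, hX⟩ := (h38 H hH (sigmaCore H) le_rfl hne
    (by rw [Subgroup.relIndex_self]; exact Nat.coprime_one_right _)).1
  have hXn : (Nat.card X).Coprime (Nat.card (sigmaCore H)) :=
    Nat.coprime_of_dvd fun p hp h1 h2 => (hXτ p hp h1).2.1 (sc_primes H hp h2)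
  have hXle : X ≤ H ⊓ centralizer (sigmaCore H : Set G) := by rw [hX]; exact le_sup_right
  have key : ∀ t ∈ H ⊓ centralizer (sigmaCore H : Set G),
      (orderOf t).Coprime (Nat.card (sigmaCore H)) → t ∈ X := by
    intro t ht hto
    rw [hX] at ht
    have hcomm : ∀ a ∈ sigmaCore H ⊓ centralizer (sigmaCore H : Set G), ∀ b ∈ X, a * b = b * a :=
      fun a ha b hb => mem_centralizer_iff.1 (hXle hb).2 a ha.1
    obtain ⟨z, hz, x, hx, rfl⟩ := Helper23.exists_mul_of_mem_sup_of_commute hcomm ht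
    have hxN : x ^ Nat.card X = 1 := by
      have := pow_card_eq_one' (G := X) (x := ⟨x, hx⟩)
      exact congrArg Subtype.val this
    have hzn : z ^ Nat.card (sigmaCore H) = 1 := by
      have := pow_card_eq_one' (G := sigmaCore H) (x := ⟨z, hz.1⟩)
      exact congrArg Subtype.val this
    have h1 : (z * x) ^ Nat.card X = z ^ Nat.card X := by
      rw [(show Commute z x from hcomm z hz x hx).mul_pow, hxN, mul_one]
    have h2 : z ^ Nat.card X = 1 := by
      apply Helper23.eq_one_of_pow_coprime hto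
      · rw [← h1, ← pow_mul, mul_comm, pow_mul, pow_orderOf_eq_one, one_pow]
      · rw [← pow_mul, mul_comm, pow_mul, hzn, one_pow]
    have h3 : z = 1 := Helper23.eq_one_of_pow_coprime hXn h2 hzn
    rw [h3, one_mul]
    exact hx
  have hVc' : V ≤ centralizer (sigmaCore H : Set G) := le_centralizer_iff.1 hVc
  have hord : ∀ v ∈ V, (orderOf v).Coprime (Nat.card (sigmaCore H)) := fun v hv =>
    Nat.Coprime.coprime_dvd_left (BGTypes.orderOf_dvd_card_of_mem hv) hVcop
  have hVX : V ≤ X := fun v hv => key v ⟨hVH hv, hVc' hv⟩ (hord v hv)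
  intro g hg
  apply mem_normalizer_of_map_conj_eq
  apply Helper65.BG147.cyclic_unique hXc _ hVX (card_map_conj g V)
  rintro _ ⟨v, hv, rfl⟩
  apply key
  · refine ⟨H.mul_mem (H.mul_mem hg (hVH hv)) (H.inv_mem hg), mem_centralizer_iff.2 ?_⟩
    intro h hh
    have h4 : g⁻¹ * h * g ∈ sigmaCore H := by
      have := conj_mem_of_le_normalizer (sc_norm H) (H.inv_mem hg) hh
      rwa [inv_inv] at this
    have h5 : g⁻¹ * h * g * v = v * (g⁻¹ * h * g) := mem_centralizer_iff.1 (hVc' hv) _ h4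
    show h * (g * v * g⁻¹) = g * v * g⁻¹ * h
    have e1 : h * (g * v * g⁻¹) = g * (g⁻¹ * h * g * v) * g⁻¹ := by group
    rw [e1, h5]
    group
  · show (orderOf (g * v * g⁻¹)).Coprime _
    rw [orderOf_conj']
    exact hord v hv

namespace Cfg

variable {M K U Mst H : Subgroup G}

theorem k_coprime (c : Cfg M K U Mst) (hkσ : Nat.card K ∉ sigma H) :
    (Nat.card K).Coprime (Nat.card (sigmaCore H)) :=
  (Nat.Prime.coprime_iff_not_dvd c.hkp).2 (fun h => hkσ (sc_primes H c.hkp h))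

theorem U_inf_K (c : Cfg M K U Mst) : U ⊓ K = ⊥ := by
  rw [eq_bot_iff, ← c.hKU.compl.2.2.1]
  exact inf_le_inf_left _ le_sup_left

theorem card_UK (c : Cfg M K U Mst) : Nat.card (U ⊔ K : Subgroup G) = Nat.card K * Nat.card U := by
  rw [sup_comm]
  refine Helper1.card_sup_of_disjoint c.hKU.normal ?_
  rw [disjoint_iff, inf_comm]
  exact c.U_inf_K

/-- L3a: `U₁` centralizes `H_σ` -/
theorem sc_le_centralizer_U1 (c : Cfg M K U Mst) (hG : IsMinSimpleOddOrder G) (hH : IsCoatom H)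
    (hUK : U ⊔ K ≤ H) (hkσ : Nat.card K ∉ sigma H)
    (hfree : sigmaCore H ⊓ centralizer (K : Set G) = ⊥)
    (hU₁ : copPart U c.hab (Nat.card (sigmaCore H)) ≠ ⊥) :
    sigmaCore H ≤ centralizer (copPart U c.hab (Nat.card (sigmaCore H)) : Set G) := by
  set U₁ := copPart U c.hab (Nat.card (sigmaCore H)) with hU₁def
  have hU₁U : U₁ ≤ U := copPart_le _ _ _
  have hKn : K ≤ normalizer (U₁ : Set G) := c.hKU.normal.trans (normalizer_le_copPart _ _ _)
  have hUE : U₁ ⊓ K = ⊥ := by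
    rw [eq_bot_iff, ← c.U_inf_K]
    exact inf_le_inf_right _ hU₁U
  have hcard : Nat.card (U₁ ⊔ K : Subgroup G) = Nat.card K * Nat.card U₁ := by
    rw [sup_comm]
    refine Helper1.card_sup_of_disjoint hKn ?_
    rw [disjoint_iff, inf_comm]
    exact hUE
  have hcop : (Nat.card (sigmaCore H)).Coprime (Nat.card (U₁ ⊔ K : Subgroup G)) := by
    rw [hcard]
    exact (Nat.Coprime.mul_left (c.k_coprime hkσ) (card_copPart_coprime _ _ _)).symm
  have hle : U₁ ⊔ K ≤ H := (sup_le_sup_right hU₁U K).trans hUK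
  have h45 := Cfsg.Agent.S1545.result U₁ K (sigmaCore H) hU₁ c.hK1 hUE
    (fun e he u hu => conj_mem_of_le_normalizer hKn he hu)
    (fun e he he1 u hu heu => by
      have h2 : u ∈ U ⊓ centralizer ({e} : Set G) :=
        ⟨hU₁U hu, mem_centralizer_singleton_iff.2 heu.symm⟩
      rw [c.free e he he1, mem_bot] at h2
      exact h2)
    (fun x hx h hh => conj_mem_of_le_normalizer (sc_norm H) (hle hx) hh)
    (disjoint_iff.1 (Subgroup.disjoint_of_coprime_natCard hcop))
    (MS_solvable hG (ne_top_of_le_ne_top hH.1 (sc_le H))) hcop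
  have h1 : sigmaCore H ⊓ centralizer ((U₁ ⊔ K : Subgroup G) : Set G) = ⊥ := by
    rw [eq_bot_iff, ← hfree]
    exact inf_le_inf_left _ (centralizer_le (by exact_mod_cast (le_sup_right : K ≤ U₁ ⊔ K)))
  rw [h1, hfree, Subgroup.card_bot, one_pow, one_mul, one_mul] at h45
  have h2 : sigmaCore H ⊓ centralizer (U₁ : Set G) = sigmaCore H :=
    Subgroup.eq_of_le_of_card_ge inf_le_left h45.le
  rw [← h2]
  exact inf_le_right

theorem sc_ne_bot' (hG : IsMinSimpleOddOrder G) (hH : IsCoatom H) (h55 : H1355 G) :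
    sigmaCore H ≠ ⊥ := by
  intro h0
  obtain ⟨h1, h2, -⟩ := h55 H hH
  rw [h0, le_bot_iff] at h2
  exact h1 h2

/-- the main contradiction -/
theorem false_of_normalizer_le (c : Cfg M K U Mst) (hG : IsMinSimpleOddOrder G)
    (h31 : H1431 G) (h38 : H1438 G) (h51 : H1351 G) (h52 : H1352 G) (h54 : H1354 G)
    (h55 : H1355 G) (h57 : H1357 G) (h68 : H1368 G) (h69 : H1369 G) (h78 : H1378 G)
    (hN : normalizer (U : Set G) ≤ M) : False := by
  -- choice of `r`, `R`, `H`
  have hc1 : Nat.card U ≠ 1 := fun h => c.hU1 ((Subgroup.card_eq_one).1 h)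
  obtain ⟨r, hr, hrd⟩ := Nat.exists_prime_and_dvd hc1
  obtain ⟨R, hR⟩ := exists_sylU (M := M) (K := K) hr hrd
  have hRtop : R ≠ ⊤ := ne_top_of_le_ne_top c.hM.1 (hR.le_U.trans c.hKU.compl.1)
  obtain ⟨H, hH, hNH⟩ := exists_coatom_ge (MS_normalizer_ne_top hG hR.ne_bot hRtop)
  have hUK : U ⊔ K ≤ H := (hR.UK_le_normalizer c.hKU c.hab).trans hNH
  have hncM := c.not_conj_M hG hR hNH
  have hncS := c.not_conj_Mst h31 h54 h68 hUK
  have hkσ := c.k_not_sigma h78 hH hncS
  have hκ := c.kappa_empty h69 hH hncM hncS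
  have hnil := sc_nil_of_kappa_empty hH h51 h52 h57 hκ
  have hne := sc_ne_bot' hG hH h55
  have hUH : U ≤ H := le_sup_left.trans hUK
  set U₁ := copPart U c.hab (Nat.card (sigmaCore H)) with hU₁def
  have hU₁U : U₁ ≤ U := copPart_le _ _ _
  have hdec : U ≤ U₁ ⊔ (U ⊓ sigmaCore H) :=
    le_copPart_sup c.hab hUH (sc_le H) (sc_norm H) (sc_cop hG hH)
  have hUsc : U ⊓ sigmaCore M = ⊥ := by
    rw [eq_bot_iff, ← c.hKU.compl.2.2.1]
    exact inf_le_inf_left _ le_sup_right
  -- L3 and L4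
  have hL : sigmaCore H ≤ centralizer (U₁ : Set G) ∧ H ≤ normalizer (U₁ : Set G) ∧
      sigmaCore M ⊓ H = ⊥ := by
    by_cases hU₁ : U₁ = ⊥
    · refine ⟨by
          rw [hU₁]
          intro x _
          rw [mem_centralizer_iff]
          intro h hh
          have : h = 1 := hh
          rw [this, one_mul, mul_one], by rw [hU₁]; intro x _; rw [mem_normalizer_iff]; simp, ?_⟩
      rw [hU₁, bot_sup_eq] at hdec
      have hUle : U ≤ sigmaCore H := hdec.trans inf_le_right
      have hdisj : sigmaCore H ⊓ sigmaCore M = ⊥ := by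
        apply disjoint_iff.1
        apply Subgroup.disjoint_of_coprime_natCard
        apply Nat.coprime_of_dvd
        intro p hp h1 h2
        obtain ⟨g, hg⟩ := h78.2 M H c.hM hH ⟨p, sc_primes M hp h2, sc_primes H hp h1⟩
        exact hncM g hg
      exact inf_eq_bot_of_normal (sc_norm H) hdisj (hR.le_U.trans hUle)
        (hR.le_U.trans c.hKU.compl.1) (hR.cent_eq_bot hG c.hM c.hKU)
    · have hc2 : Nat.card U₁ ≠ 1 := fun h => hU₁ ((Subgroup.card_eq_one).1 h)
      obtain ⟨s, hs, hsd⟩ := Nat.exists_prime_and_dvd hc2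
      obtain ⟨S, hS⟩ := exists_sylU (M := M) (K := K) hs (hsd.trans (Subgroup.card_dvd_of_le hU₁U))
      have hsn : ¬ s ∣ Nat.card (sigmaCore H) := by
        intro h
        have h1 := Nat.dvd_gcd hsd h
        rw [card_copPart_coprime] at h1
        exact hs.one_lt.ne' (Nat.dvd_one.1 h1)
      have hsσ : s ∉ sigma H := fun h => hsn (dvd_card_sc_of_sigma hG hH h)
      have hfree := c.K_free hG h78 hH hUK hκ hS hsσ
      have hcent := c.sc_le_centralizer_U1 hG hH hUK hkσ hfree hU₁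
      have hnorm := le_normalizer_of_centralizes hH h38 hne (hU₁U.trans hUH) hcent
        (card_copPart_coprime _ _ _)
      refine ⟨hcent, hnorm, ?_⟩
      have hSU₁ : S ≤ U₁ := by
        intro x hx
        refine ⟨hS.le_U hx, ?_⟩
        obtain ⟨j, hj⟩ := hS.syl.2.1 ⟨x, hx⟩
        have h1 : x ^ s ^ j = 1 := congrArg Subtype.val hj
        exact Nat.Coprime.coprime_dvd_left (orderOf_dvd_of_pow_eq_one h1)
          (Nat.Coprime.pow_left j ((Nat.Prime.coprime_iff_not_dvd hs).2 hsn))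
      have hdisj : U₁ ⊓ sigmaCore M = ⊥ := by
        rw [eq_bot_iff, ← hUsc]
        exact inf_le_inf_right _ hU₁U
      exact inf_eq_bot_of_normal hnorm hdisj hSU₁ (hS.le_U.trans c.hKU.compl.1)
        (hS.cent_eq_bot hG c.hM c.hKU)
  obtain ⟨hcent, hnorm, hD⟩ := hL
  -- `M ∩ H = UK`
  have hMH : U ⊔ K = M ⊓ H := by
    apply Subgroup.eq_of_le_of_card_ge (le_inf (sup_le c.hKU.compl.1 c.hKU.hall.1) hUK)
    have h1 : Nat.card ((M ⊓ H) ⊔ sigmaCore M : Subgroup G)
        = Nat.card (M ⊓ H : Subgroup G) * Nat.card (sigmaCore M) := by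
      apply Helper1.card_sup_of_disjoint (inf_le_left.trans (sc_norm M))
      rw [disjoint_iff, eq_bot_iff, ← hD]
      exact le_inf inf_le_right (inf_le_left.trans inf_le_right)
    have h2 : Nat.card ((M ⊓ H) ⊔ sigmaCore M : Subgroup G) ≤ Nat.card M :=
      Subgroup.card_le_of_le (sup_le inf_le_left (sc_le M))
    rw [h1, ← card_M c.hKU, ← mul_assoc] at h2
    rw [c.card_UK, mul_comm (Nat.card K)]
    exact Nat.le_of_mul_le_mul_right h2 Nat.card_pos
  -- `M ∩ H_σ ≤ U`
  have hMsc : M ⊓ sigmaCore H ≤ U := by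
    intro x hx
    have hx' : x ∈ U ⊔ K := by rw [hMH]; exact ⟨hx.1, sc_le H hx.2⟩
    apply mem_of_coprime_relIndex le_sup_left (sup_le le_normalizer c.hKU.normal) hx'
    have h1 : U.relIndex (U ⊔ K) = Nat.card K := by
      have h2 := Helper23.card_mul_relIndex (le_sup_left : U ≤ U ⊔ K)
      rw [c.card_UK, mul_comm (Nat.card K)] at h2
      exact Nat.eq_of_mul_eq_mul_left Nat.card_pos h2
    rw [h1]
    exact Nat.Coprime.coprime_dvd_right (BGTypes.orderOf_dvd_card_of_mem hx.2) (c.k_coprime hkσ)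
  have hUeq : U = U₁ ⊔ (U ⊓ sigmaCore H) := le_antisymm hdec (sup_le hU₁U inf_le_left)
  -- `U₂ = H_σ`
  have hU₂ : U ⊓ sigmaCore H = sigmaCore H := by
    by_contra hlt
    obtain ⟨x, hx, hxn, hxU⟩ := Helper24.exists_mem_normalizer_not_mem hnil
      (lt_of_le_of_ne inf_le_right hlt)
    apply hxU
    have hxU₁ : x ∈ normalizer (U₁ : Set G) := hnorm (sc_le H hx)
    have hxN : x ∈ normalizer (U : Set G) := by
      rw [hUeq]
      exact le_normalizer_sup (L := zpowers x) (zpowers_le.2 hxU₁) (zpowers_le.2 hxn)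
        (mem_zpowers x)
    exact ⟨hMsc ⟨hN hxN, hx⟩, hx⟩
  -- conclusion
  have hHN : H ≤ normalizer (U : Set G) := by
    rw [hUeq, hU₂]
    exact le_normalizer_sup hnorm (sc_norm H)
  have hHM : H = M := by
    by_contra hne'
    exact c.hM.1 (hH.2 M (lt_of_le_of_ne (hHN.trans hN) hne'))
  exact hR.normalizer_not_le hG c.hM c.hKU (hHM ▸ hNH)

end Cfg

/-- Row S1363 -/
theorem row1363 (hG : IsMinSimpleOddOrder G) (h30 : H1430 G)
    (h31 : H1431 G) (h38 : H1438 G) (h51 : H1351 G) (h52 : H1352 G) (h53 : H1353 G) (h54 : H1354 G)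
    (h55 : H1355 G) (h57 : H1357 G) (h66 : H1366 G) (h68 : H1368 G) (h69 : H1369 G)
    (h72 : H1372 G) (h78 : H1378 G) : H1363 G := by
  intro M hM K U hKU hK1
  have hab := U_comm hG hM hKU hK1 h30
  refine ⟨hab, fun hN => ?_⟩
  by_cases hU1 : U = ⊥
  · rw [hU1] at hN
    apply hM.1
    rw [eq_top_iff]
    refine le_trans ?_ hN
    intro x _
    rw [mem_normalizer_iff]
    simp
  · obtain ⟨Mst, ⟨hMst, hKst, hKstH⟩, -⟩ := h66 M hM K U hKU hK1
    have c : Cfg M K U Mst := ⟨hM, hKU, hK1, hU1, hMst, hKst, hKstH, hab,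
      (h72 M hM K U hKU hK1 hU1).1, h53 M hM K U hKU⟩
    exact c.false_of_normalizer_le hG h31 h38 h51 h52 h54 h55 h57 h68 h69 h78 hN

end Cfsg.Agent.Lib.Helper26.BG1363
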