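import Mathlib
import Cfsg.Prelude.Def_OddOrderChar
import Cfsg.Agent.Lib.Helper26.Glue
import Cfsg.Agent.S1517

set_option autoImplicit false
set_option linter.unusedSectionVars false

/-!
# Coherence systems: Bessel, Peterfalvi (5.5), (5.6)
-/

namespace Cfsg.Agent.Lib.Helper26

open Cfsg Cfsg.Agent.Lib.Helper3
open scoped ComplexConjugate

section bessel

variable {G : Type*} [Group G] [Fintype G]

theorem classInner_self_eq_ofReal (a : G → ℂ) :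
    classInner a a = (((Nat.card G : ℝ)⁻¹ * ∑ g : G, ‖a g‖ ^ 2 : ℝ) : ℂ) := by
  unfold classInner
  push_cast
  congr 1
  refine Finset.sum_congr rfl fun g _ => ?_
  rw [Complex.mul_conj, Complex.normSq_eq_norm_sq]
  push_cast; rfl

theorem classInner_self_re_nonneg (a : G → ℂ) : 0 ≤ (classInner a a).re := by
  rw [classInner_self_eq_ofReal, Complex.ofReal_re]
  positivity

/-- Bessel's identity for a finite orthogonal family. -/
theorem bessel_eq {ι : Type*} [DecidableEq ι] (s : Finset ι) (v : ι → G → ℂ) (r : ι → ℝ)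
    (hr : ∀ i ∈ s, r i ≠ 0)
    (horth : ∀ i ∈ s, ∀ j ∈ s, classInner (v i) (v j) = if i = j then (r i : ℂ) else 0)
    (B : G → ℂ) :
    classInner (B - ∑ i ∈ s, (classInner B (v i) / r i) • v i)
      (B - ∑ i ∈ s, (classInner B (v i) / r i) • v i) =
      classInner B B - ((∑ i ∈ s, ‖classInner B (v i)‖ ^ 2 / r i : ℝ) : ℂ) := by
  set P : G → ℂ := ∑ i ∈ s, (classInner B (v i) / r i) • v i with hP
  have hterm : ∀ i, conj (classInner B (v i) / r i) * classInner B (v i) =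
      ((‖classInner B (v i)‖ ^ 2 / r i : ℝ) : ℂ) := by
    intro i
    rw [map_div₀, Complex.conj_ofReal, div_mul_eq_mul_div, mul_comm, Complex.mul_conj,
      Complex.normSq_eq_norm_sq]
    push_cast; rfl
  have hBP : classInner B P = ((∑ i ∈ s, ‖classInner B (v i)‖ ^ 2 / r i : ℝ) : ℂ) := by
    rw [hP, classInner_sum_right, Complex.ofReal_sum]
    refine Finset.sum_congr rfl fun i _ => ?_
    rw [classInner_smul_right, hterm]
  have hPB : classInner P B = ((∑ i ∈ s, ‖classInner B (v i)‖ ^ 2 / r i : ℝ) : ℂ) := by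
    rw [← classInner_conj_symm, hBP, Complex.conj_ofReal]
  have hvP : ∀ i ∈ s, classInner (v i) P = conj (classInner B (v i)) := by
    intro i hi
    rw [hP, classInner_sum_right, Finset.sum_eq_single i]
    · rw [classInner_smul_right, horth i hi i hi, if_pos rfl, map_div₀, Complex.conj_ofReal]
      have : (r i : ℂ) ≠ 0 := by exact_mod_cast hr i hi
      field_simp
    · intro j hj hne
      rw [classInner_smul_right, horth i hi j hj, if_neg (Ne.symm hne), mul_zero]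
    · intro h; exact absurd hi h
  have hPP : classInner P P = ((∑ i ∈ s, ‖classInner B (v i)‖ ^ 2 / r i : ℝ) : ℂ) := by
    conv_lhs => lhs; rw [hP]
    rw [classInner_sum_left, Complex.ofReal_sum]
    refine Finset.sum_congr rfl fun i hi => ?_
    rw [classInner_smul_left, hvP i hi, ← hterm, map_div₀, Complex.conj_ofReal]
    ring
  rw [classInner_sub_left, classInner_sub_right, classInner_sub_right, hBP, hPB, hPP]
  ring

/-- Bessel's inequality. -/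
theorem bessel_le {ι : Type*} [DecidableEq ι] (s : Finset ι) (v : ι → G → ℂ) (r : ι → ℝ)
    (hr : ∀ i ∈ s, r i ≠ 0)
    (horth : ∀ i ∈ s, ∀ j ∈ s, classInner (v i) (v j) = if i = j then (r i : ℂ) else 0)
    (B : G → ℂ) :
    ∑ i ∈ s, ‖classInner B (v i)‖ ^ 2 / r i ≤ (classInner B B).re := by
  have h := classInner_self_re_nonneg (B - ∑ i ∈ s, (classInner B (v i) / r i) • v i)
  rw [bessel_eq s v r hr horth B, Complex.sub_re, Complex.ofReal_re] at h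
  linarith

/-- The equality case of Bessel's inequality. -/
theorem bessel_eq_case {ι : Type*} [DecidableEq ι] (s : Finset ι) (v : ι → G → ℂ) (r : ι → ℝ)
    (hr : ∀ i ∈ s, r i ≠ 0)
    (horth : ∀ i ∈ s, ∀ j ∈ s, classInner (v i) (v j) = if i = j then (r i : ℂ) else 0)
    (B : G → ℂ) (h : classInner B B = ((∑ i ∈ s, ‖classInner B (v i)‖ ^ 2 / r i : ℝ) : ℂ)) :
    B = ∑ i ∈ s, (classInner B (v i) / r i) • v i := by
  have h1 := bessel_eq s v r hr horth B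
  rw [h, sub_self] at h1
  exact sub_eq_zero.1 (classInner_self_eq_zero h1)

end bessel

section single

variable {L : Type*} [Group L] [Fintype L] {G : Type*} [Group G] [Fintype G]

theorem mem_zspan_singleton {χ θ : L → ℂ} : θ ∈ zspan ({χ} : Set (L → ℂ)) ↔ ∃ k : ℤ, θ = k • χ := by
  constructor
  · intro hθ
    obtain ⟨k, hk⟩ := Submodule.mem_span_singleton.1 hθ
    exact ⟨k, hk.symm⟩
  · rintro ⟨k, rfl⟩
    exact zspan_zsmul k (mem_zspan rfl)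

/-- A linear isometry on the multiples of one nonzero function. -/
theorem iso_single {χ : L → ℂ} {Y : G → ℂ} (hχ : χ ≠ 0) (hY : IsGeneralizedCharacter G Y)
    (hn : classInner Y Y = classInner χ χ) :
    ∃ σ : (L → ℂ) → (G → ℂ), IsLinearIsometryOn (zspan ({χ} : Set (L → ℂ))) σ ∧
      ∀ k : ℤ, σ (k • χ) = k • Y := by
  have hN : classInner χ χ ≠ 0 := fun h => hχ (classInner_self_eq_zero h)
  let σ : (L → ℂ) → (G → ℂ) := fun θ => (classInner θ χ / classInner χ χ) • Y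
  have hσk : ∀ k : ℤ, σ (k • χ) = k • Y := by
    intro k
    show (classInner (k • χ) χ / classInner χ χ) • Y = k • Y
    rw [classInner_zsmul_left, mul_div_assoc, div_self hN, mul_one, Int.cast_smul_eq_zsmul]
  refine ⟨σ, ⟨?_, ?_, ?_, ?_⟩, hσk⟩
  · intro θ _ θ' _
    show (classInner (θ + θ') χ / classInner χ χ) • Y = (classInner θ χ / classInner χ χ) • Y +
      (classInner θ' χ / classInner χ χ) • Y
    rw [classInner_add_left, add_div, add_smul]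
  · intro θ _ k
    show (classInner (k • θ) χ / classInner χ χ) • Y = k • ((classInner θ χ / classInner χ χ) • Y)
    rw [classInner_zsmul_left, mul_div_assoc, mul_smul, Int.cast_smul_eq_zsmul]
  · intro θ hθ θ' hθ'
    obtain ⟨k, rfl⟩ := mem_zspan_singleton.1 hθ
    obtain ⟨k', rfl⟩ := mem_zspan_singleton.1 hθ'
    rw [hσk, hσk]
    simp only [classInner_zsmul_left, classInner_zsmul_right, hn]
  · intro θ hθ
    obtain ⟨k, rfl⟩ := mem_zspan_singleton.1 hθ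
    rw [hσk]; exact gen_zsmul hY k

end single

section system

open Cfsg.Agent.S1517 (conj_conj inner_conj_conj R_ON S_gen R_orth char_one_ne_zero)

variable {L : Type*} [Group L] [Fintype L] {G : Type*} [Group G] [Fintype G]
variable {S : Set (L → ℂ)} {τ : (L → ℂ) → (G → ℂ)} {R : (L → ℂ) → Finset (G → ℂ)}

theorem sys_ne_zero (hS : IsCoherenceSystem S τ R) {χ : L → ℂ} (hχ : χ ∈ S) : χ ≠ 0 := by
  intro h0
  apply hS.conj_ne χ hχ
  rw [h0]; funext x; simp [conjFun]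

theorem sys_degree (hS : IsCoherenceSystem S τ R) {χ : L → ℂ} (hχ : χ ∈ S) :
    ∃ d : ℕ, 0 < d ∧ χ 1 = d := by
  obtain ⟨n, hn⟩ := IsCharacter.apply_one_eq_natCast (hS.isCharacter χ hχ)
  refine ⟨n, Nat.pos_of_ne_zero ?_, hn⟩
  rintro rfl
  exact char_one_ne_zero (hS.isCharacter χ hχ) (sys_ne_zero hS hχ) (by simpa using hn)

theorem sys_norm (hS : IsCoherenceSystem S τ R) {χ : L → ℂ} (hχ : χ ∈ S) :
    ∃ n : ℕ, 0 < n ∧ classInner χ χ = n := by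
  obtain ⟨n, hn⟩ := gen_norm_nat (S_gen hS χ hχ)
  refine ⟨n, Nat.pos_of_ne_zero ?_, hn⟩
  rintro rfl
  exact sys_ne_zero hS hχ (classInner_self_eq_zero (by simpa using hn))

theorem sys_conj_one (hS : IsCoherenceSystem S τ R) {χ : L → ℂ} (hχ : χ ∈ S) :
    conjFun χ 1 = χ 1 := by
  obtain ⟨d, _, hd⟩ := sys_degree hS hχ
  simp [conjFun, hd]

theorem sys_conj_norm (hS : IsCoherenceSystem S τ R) {χ : L → ℂ} (hχ : χ ∈ S) :
    classInner (conjFun χ) (conjFun χ) = classInner χ χ := by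
  obtain ⟨n, _, hn⟩ := sys_norm hS hχ
  rw [inner_conj_conj, hn, map_natCast]

theorem sys_inner_conj (hS : IsCoherenceSystem S τ R) {χ : L → ℂ} (hχ : χ ∈ S) :
    classInner χ (conjFun χ) = 0 :=
  hS.orthogonal χ hχ _ (hS.conj_mem χ hχ) (hS.conj_ne χ hχ).symm

theorem sys_conj_inner (hS : IsCoherenceSystem S τ R) {χ : L → ℂ} (hχ : χ ∈ S) :
    classInner (conjFun χ) χ = 0 :=
  hS.orthogonal _ (hS.conj_mem χ hχ) χ hχ (hS.conj_ne χ hχ)

theorem sys_sub_conj_mem (hS : IsCoherenceSystem S τ R) {χ : L → ℂ} (hχ : χ ∈ S) :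
    χ - conjFun χ ∈ zspanOn S {1}ᶜ :=
  mem_zspanOn_one.2 ⟨zspan_sub (mem_zspan hχ) (mem_zspan (hS.conj_mem χ hχ)), by
    simp [sys_conj_one hS hχ]⟩

theorem R_horth (hS : IsCoherenceSystem S τ R) {χ : L → ℂ} (hχ : χ ∈ S) [DecidableEq (G → ℂ)] :
    ∀ i ∈ R χ, ∀ j ∈ R χ, classInner (id i : G → ℂ) (id j) =
      if i = j then (((fun _ => 1 : (G → ℂ) → ℝ) i : ℝ) : ℂ) else 0 := by
  intro i hi j hj
  have := hS.orthonormal χ hχ i hi j hj
  simp only [id]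
  rw [this]
  by_cases h : i = j <;> simp [h]

/-- Peterfalvi (5.5): the image of `χ` under a coherent extension lies in the span of `R χ`. -/
theorem coh_proj (hS : IsCoherenceSystem S τ R) {χ : L → ℂ} (hχ : χ ∈ S) {E : Set (L → ℂ)}
    (hE : IsZMod E) {τ₁ : (L → ℂ) → (G → ℂ)} (hτ₁ : IsLinearIsometryOn E τ₁) (h1 : χ ∈ E)
    (h2 : conjFun χ ∈ E) (hag : τ₁ (χ - conjFun χ) = τ (χ - conjFun χ)) :
    τ₁ χ = ∑ α ∈ R χ, classInner (τ₁ χ) α • α := by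
  classical
  have hU := iso_gen hτ₁ h1
  obtain ⟨a, ha⟩ := Cfsg.Agent.S1517.exists_coeff (R_ON hS hχ) hU
  obtain ⟨N, _, hN⟩ := sys_norm hS hχ
  have hsum : ∑ α ∈ R χ, a α = (N : ℤ) := by
    have e1 : classInner (τ₁ χ) (∑ α ∈ R χ, α) = ((∑ α ∈ R χ, a α : ℤ) : ℂ) :=
      Cfsg.Agent.S1517.inner_sum ha
    rw [← hS.sum_eq χ hχ, ← hag, iso_inner hτ₁ h1 (hE.sub h1 h2), classInner_sub_right, hN,
      sys_inner_conj hS hχ] at e1
    have : ((N : ℤ) : ℂ) = ((∑ α ∈ R χ, a α : ℤ) : ℂ) := by rw [← e1]; simp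
    exact_mod_cast this.symm
  have hsq : ∑ α ∈ R χ, ‖classInner (τ₁ χ) (id α)‖ ^ 2 / (fun _ => 1 : (G → ℂ) → ℝ) α =
      ((∑ α ∈ R χ, a α ^ 2 : ℤ) : ℝ) := by
    push_cast
    apply Finset.sum_congr rfl
    intro α hα
    rw [id, ha α hα, Complex.norm_intCast, sq_abs, div_one]
  have hge : (N : ℤ) ≤ ∑ α ∈ R χ, a α ^ 2 := by
    rw [← hsum]; exact Finset.sum_le_sum fun α _ => Int.le_self_sq (a α)
  have hUU : classInner (τ₁ χ) (τ₁ χ) = N := by rw [iso_inner hτ₁ h1 h1, hN]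
  have hle := bessel_le (R χ) id (fun _ => 1) (fun _ _ => one_ne_zero) (R_horth hS hχ) (τ₁ χ)
  rw [hsq, hUU, Complex.natCast_re] at hle
  have hle' : ∑ α ∈ R χ, a α ^ 2 ≤ (N : ℤ) := by exact_mod_cast hle
  have heq : ∑ α ∈ R χ, a α ^ 2 = (N : ℤ) := le_antisymm hle' hge
  have := bessel_eq_case (R χ) id (fun _ => 1) (fun _ _ => one_ne_zero) (R_horth hS hχ) (τ₁ χ)
    (by rw [hsq, hUU, heq]; simp)
  simpa using this

/-- the image of `ξ` under a coherent extension is orthogonal to `R χ` for `χ ≠ ξ, conj ξ`. -/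
theorem coh_orth (hS : IsCoherenceSystem S τ R) {χ ξ : L → ℂ} (hχ : χ ∈ S) (hξ : ξ ∈ S)
    (hne1 : χ ≠ ξ) (hne2 : χ ≠ conjFun ξ) {E : Set (L → ℂ)}
    (hE : IsZMod E) {τ₁ : (L → ℂ) → (G → ℂ)} (hτ₁ : IsLinearIsometryOn E τ₁) (h1 : ξ ∈ E)
    (h2 : conjFun ξ ∈ E) (hag : τ₁ (ξ - conjFun ξ) = τ (ξ - conjFun ξ)) :
    ∀ α ∈ R χ, classInner (τ₁ ξ) α = 0 := by
  intro α hα
  rw [coh_proj hS hξ hE hτ₁ h1 h2 hag, classInner_sum_left]
  apply Finset.sum_eq_zero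
  intro β hβ
  rw [classInner_smul_left, R_orth hS hξ hχ hne1 hne2 β hβ α hα, mul_zero]

theorem coh_orth_sum (hS : IsCoherenceSystem S τ R) {χ ξ : L → ℂ} (hχ : χ ∈ S) (hξ : ξ ∈ S)
    (hne1 : χ ≠ ξ) (hne2 : χ ≠ conjFun ξ) {E : Set (L → ℂ)}
    (hE : IsZMod E) {τ₁ : (L → ℂ) → (G → ℂ)} (hτ₁ : IsLinearIsometryOn E τ₁) (h1 : ξ ∈ E)
    (h2 : conjFun ξ ∈ E) (hag : τ₁ (ξ - conjFun ξ) = τ (ξ - conjFun ξ)) :
    classInner (τ₁ ξ) (τ (χ - conjFun χ)) = 0 := by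
  rw [hS.sum_eq χ hχ, classInner_sum_right]
  exact Finset.sum_eq_zero fun α hα => coh_orth hS hχ hξ hne1 hne2 hE hτ₁ h1 h2 hag α hα

/-- Peterfalvi (5.6): extending a coherent isometry by one conjugate pair. -/
theorem extend_with (hS : IsCoherenceSystem S τ R) {S₁ : Set (L → ℂ)} (hS₁ : S₁ ⊆ S)
    (hS₁c : ∀ φ ∈ S₁, conjFun φ ∈ S₁) {τ₀ : (L → ℂ) → (G → ℂ)}
    (hτ₀ : IsLinearIsometryOn (zspan S₁) τ₀) (hag : ∀ α ∈ zspanOn S₁ {1}ᶜ, τ₀ α = τ α)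
    {χ φ : L → ℂ} (hχ : χ ∈ S) (hχ₁ : χ ∉ S₁) (hφ : φ ∈ S₁) {a : ℤ} (ha : χ 1 = a * φ 1)
    {X : G → ℂ} (hX : IsGeneralizedCharacter G X) (hXX : classInner X X = classInner χ χ)
    (hXφ : classInner X (τ₀ φ) = 0) (hτX : τ (χ - a • φ) = X - a • τ₀ φ) :
    ∃ τ₂ : (L → ℂ) → (G → ℂ), IsLinearIsometryOn (zspan (S₁ ∪ {χ, conjFun χ})) τ₂ ∧
      (∀ α ∈ zspanOn (S₁ ∪ {χ, conjFun χ}) {1}ᶜ, τ₂ α = τ α) ∧ τ₂ χ = X ∧
      τ₂ (conjFun χ) = X - τ (χ - conjFun χ) ∧ ∀ α ∈ zspan S₁, τ₂ α = τ₀ α := by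
  classical
  have hτ := hS.isometry
  have hZ := isZMod_zspanOn S ({1}ᶜ : Set L)
  have hZ₁ := isZMod_zspan S₁
  have hχc := hS.conj_mem χ hχ
  have hχc₁ : conjFun χ ∉ S₁ := fun h => hχ₁ (by simpa [conj_conj] using hS₁c _ h)
  have hgenS := S_gen hS
  have hgenS₁ : ∀ ξ ∈ S₁, IsGeneralizedCharacter L ξ := fun ξ h => hgenS ξ (hS₁ h)
  obtain ⟨N, hN0, hN⟩ := sys_norm hS hχ
  have hne1 : ∀ ξ ∈ S₁, χ ≠ ξ := fun ξ h e => hχ₁ (e ▸ h)
  have hne2 : ∀ ξ ∈ S₁, χ ≠ conjFun ξ := fun ξ h e => hχ₁ (e ▸ hS₁c ξ h)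
  have hne3 : ∀ ξ ∈ S₁, conjFun χ ≠ ξ := fun ξ h e => hχc₁ (e ▸ h)
  have hχξ : ∀ ξ ∈ S₁, classInner χ ξ = 0 := fun ξ h => hS.orthogonal χ hχ ξ (hS₁ h) (hne1 ξ h)
  have hχcξ : ∀ ξ ∈ S₁, classInner (conjFun χ) ξ = 0 :=
    fun ξ h => hS.orthogonal _ hχc ξ (hS₁ h) (hne3 ξ h)
  have hξχ : ∀ ξ ∈ S₁, classInner ξ χ = 0 :=
    fun ξ h => hS.orthogonal ξ (hS₁ h) χ hχ (hne1 ξ h).symm
  have hξχc : ∀ ξ ∈ S₁, classInner ξ (conjFun χ) = 0 :=
    fun ξ h => hS.orthogonal ξ (hS₁ h) _ hχc (hne3 ξ h).symm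
  have hm : ∀ ξ ∈ S₁, ξ ∈ zspan S₁ := fun ξ h => mem_zspan h
  have hβ : χ - a • φ ∈ zspanOn S {1}ᶜ :=
    mem_zspanOn_one.2 ⟨zspan_sub (mem_zspan hχ) (zspan_zsmul _ (mem_zspan (hS₁ hφ))), by
      simp [ha]⟩
  have hδ := sys_sub_conj_mem hS hχ
  have hXeq : X = τ (χ - a • φ) + a • τ₀ φ := by rw [hτX]; abel
  have hagc : ∀ ξ ∈ S₁, τ₀ (ξ - conjFun ξ) = τ (ξ - conjFun ξ) := by
    intro ξ hξ
    apply hag
    exact mem_zspanOn_one.2 ⟨zspan_sub (hm ξ hξ) (hm _ (hS₁c ξ hξ)), by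
      simp [sys_conj_one hS (hS₁ hξ)]⟩
  -- (ii)
  have hξD : ∀ ξ ∈ S₁, classInner (τ₀ ξ) (τ (χ - conjFun χ)) = 0 := fun ξ hξ =>
    coh_orth_sum hS hχ (hS₁ hξ) (hne1 ξ hξ) (hne2 ξ hξ) hZ₁ hτ₀ (hm ξ hξ) (hm _ (hS₁c ξ hξ))
      (hagc ξ hξ)
  have hDgen : IsGeneralizedCharacter G (τ (χ - conjFun χ)) := iso_gen hτ hδ
  have hτ₀gen : ∀ ξ ∈ S₁, IsGeneralizedCharacter G (τ₀ ξ) := fun ξ h => iso_gen hτ₀ (hm ξ h)
  -- (i)
  obtain ⟨dφ, hdφ0, hdφ⟩ := sys_degree hS (hS₁ hφ)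
  have hXξ : ∀ ξ ∈ S₁, classInner X (τ₀ ξ) = 0 := by
    intro ξ hξ
    obtain ⟨dξ, _, hdξ⟩ := sys_degree hS (hS₁ hξ)
    have hγ1 : ((dφ : ℤ) • ξ) ∈ zspan S₁ := zspan_zsmul _ (hm ξ hξ)
    have hγ2 : ((dξ : ℤ) • φ) ∈ zspan S₁ := zspan_zsmul _ (hm φ hφ)
    have hγ : ((dφ : ℤ) • ξ - (dξ : ℤ) • φ) ∈ zspanOn S₁ {1}ᶜ :=
      mem_zspanOn_one.2 ⟨zspan_sub hγ1 hγ2, by simp [hdφ, hdξ, mul_comm]⟩
    have e1 : classInner X (τ₀ ((dφ : ℤ) • ξ - (dξ : ℤ) • φ)) = 0 := by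
      conv_lhs => lhs; rw [hXeq]
      rw [classInner_add_left, classInner_zsmul_left, iso_inner hτ₀ (hm φ hφ) hγ.1, hag _ hγ,
        iso_inner hτ hβ (zspanOn_mono _ hS₁ hγ)]
      simp only [classInner_sub_left, classInner_sub_right, classInner_zsmul_left,
        classInner_zsmul_right, hχξ ξ hξ, hχξ φ hφ]
      ring
    rw [iso_sub hτ₀ hZ₁ hγ1 hγ2, iso_zsmul hτ₀ _ (hm ξ hξ), iso_zsmul hτ₀ _ (hm φ hφ),
      classInner_sub_right, classInner_zsmul_right, classInner_zsmul_right, hXφ, mul_zero,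
      sub_zero] at e1
    have : ((dφ : ℤ) : ℂ) ≠ 0 := by exact_mod_cast hdφ0.ne'
    exact (mul_eq_zero.1 e1).resolve_left this
  -- (iii)
  have hXD : classInner X (τ (χ - conjFun χ)) = N := by
    conv_lhs => lhs; rw [hXeq]
    rw [classInner_add_left, classInner_zsmul_left, hξD φ hφ, iso_inner hτ hβ hδ]
    simp only [classInner_sub_left, classInner_sub_right, classInner_zsmul_left, hN,
      sys_inner_conj hS hχ, hξχ φ hφ, hξχc φ hφ]
    ring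
  have hDX : classInner (τ (χ - conjFun χ)) X = N := by rw [gen_inner_comm hDgen hX, hXD]
  have hDD : classInner (τ (χ - conjFun χ)) (τ (χ - conjFun χ)) = 2 * N := by
    rw [iso_inner hτ hδ hδ]
    simp only [classInner_sub_left, classInner_sub_right, hN, sys_inner_conj hS hχ,
      sys_conj_inner hS hχ, sys_conj_norm hS hχ]
    ring
  set X' : G → ℂ := X - τ (χ - conjFun χ) with hX'
  have hX'gen : IsGeneralizedCharacter G X' := gen_sub hX hDgen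
  have hX'X' : classInner X' X' = classInner (conjFun χ) (conjFun χ) := by
    rw [sys_conj_norm hS hχ, hX']
    simp only [classInner_sub_left, classInner_sub_right, hXX, hXD, hDX, hDD, hN]
    ring
  have hXX' : classInner X X' = 0 := by
    rw [hX', classInner_sub_right, hXX, hXD, hN, sub_self]
  have hX'ξ : ∀ ξ ∈ S₁, classInner X' (τ₀ ξ) = 0 := by
    intro ξ hξ
    rw [hX', classInner_sub_left, hXξ ξ hξ, gen_inner_comm hDgen (hτ₀gen ξ hξ), hξD ξ hξ, sub_zero]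
  -- (iv)
  obtain ⟨σ₁, hσ₁, hσ₁k⟩ := iso_single (sys_ne_zero hS hχ) hX hXX
  obtain ⟨σ₂, hσ₂, hσ₂k⟩ := iso_single (sys_ne_zero hS hχc) hX'gen hX'X'
  have hσ₁1 : σ₁ χ = X := by simpa using hσ₁k 1
  have hσ₂1 : σ₂ (conjFun χ) = X' := by simpa using hσ₂k 1
  obtain ⟨σ, hσ, hσkey⟩ := glue (X := ({χ} : Set (L → ℂ))) (Y := {conjFun χ})
    (fun η hη => by rw [Set.mem_singleton_iff.1 hη]; exact hgenS χ hχ)
    (fun η hη => by rw [Set.mem_singleton_iff.1 hη]; exact hgenS _ hχc)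
    (fun ξ hξ η hη => by
      rw [Set.mem_singleton_iff.1 hξ, Set.mem_singleton_iff.1 hη]; exact sys_inner_conj hS hχ)
    hσ₁ hσ₂
    (fun ξ hξ η hη => by
      rw [Set.mem_singleton_iff.1 hξ, Set.mem_singleton_iff.1 hη, hσ₁1, hσ₂1]; exact hXX')
  have hσkl : ∀ k l : ℤ, σ (k • χ + l • conjFun χ) = k • X + l • X' := by
    intro k l
    rw [hσkey _ (mem_zspan_singleton.2 ⟨k, rfl⟩) _ (mem_zspan_singleton.2 ⟨l, rfl⟩), hσ₁k, hσ₂k]
  have hpair : ({χ, conjFun χ} : Set (L → ℂ)) = {χ} ∪ {conjFun χ} := rfl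
  rw [← hpair] at hσ
  have hσχ : σ χ = X := by simpa using hσkl 1 0
  have hσχc : σ (conjFun χ) = X' := by simpa using hσkl 0 1
  obtain ⟨τ₂, hτ₂, key⟩ := glue (X := S₁) (Y := {χ, conjFun χ}) hgenS₁
    (fun η hη => by
      rcases hη with rfl | hη
      · exact hgenS _ hχ
      · rw [Set.mem_singleton_iff.1 hη]; exact hgenS _ hχc)
    (fun ξ hξ η hη => by
      rcases hη with rfl | hη
      · exact hξχ ξ hξ
      · rw [Set.mem_singleton_iff.1 hη]; exact hξχc ξ hξ) hτ₀ hσ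
    (fun ξ hξ η hη => by
      rcases hη with rfl | hη
      · rw [hσχ, gen_inner_comm (hτ₀gen ξ hξ) hX]; exact hXξ ξ hξ
      · rw [Set.mem_singleton_iff.1 hη, hσχc, gen_inner_comm (hτ₀gen ξ hξ) hX'gen]
        exact hX'ξ ξ hξ)
  have hZp := isZMod_zspan ({χ, conjFun χ} : Set (L → ℂ))
  have hmemp : ∀ b ∈ zspan ({χ, conjFun χ} : Set (L → ℂ)), ∃ k l : ℤ,
      b = k • χ + l • conjFun χ := by
    intro b hb
    rw [hpair] at hb
    obtain ⟨b1, hb1, b2, hb2, rfl⟩ := mem_zspan_union.1 hb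
    obtain ⟨k, rfl⟩ := mem_zspan_singleton.1 hb1
    obtain ⟨l, rfl⟩ := mem_zspan_singleton.1 hb2
    exact ⟨k, l, rfl⟩
  refine ⟨τ₂, hτ₂, ?_, ?_, ?_, ?_⟩
  · intro θ hθ
    obtain ⟨hθs, hθ1⟩ := mem_zspanOn_one.1 hθ
    obtain ⟨θ₀, hθ₀, b, hb, rfl⟩ := mem_zspan_union.1 hθs
    obtain ⟨k, l, rfl⟩ := hmemp b hb
    rw [key θ₀ hθ₀ _ hb, hσkl]
    have hφz : (((k + l) * a) • φ) ∈ zspan S₁ := zspan_zsmul _ (hm φ hφ)
    have hpiece : (θ₀ + ((k + l) * a) • φ) ∈ zspanOn S₁ {1}ᶜ :=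
      mem_zspanOn_one.2 ⟨zspan_add hθ₀ hφz, by
        have : θ₀ 1 + ((k : ℂ) * χ 1 + (l : ℂ) * χ 1) = 0 := by
          simpa [sys_conj_one hS hχ] using hθ1
        rw [ha] at this
        rw [Pi.add_apply, Pi.smul_apply, zsmul_eq_mul]
        push_cast
        linear_combination this⟩
    have hsplit : θ₀ + (k • χ + l • conjFun χ) =
        (θ₀ + ((k + l) * a) • φ) + ((k + l) • (χ - a • φ) + (-l) • (χ - conjFun χ)) := by module
    rw [hsplit, iso_add hτ (zspanOn_mono _ hS₁ hpiece) (hZ.add (hZ.zsmul _ hβ) (hZ.zsmul _ hδ)),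
      iso_add hτ (hZ.zsmul _ hβ) (hZ.zsmul _ hδ), iso_zsmul hτ _ hβ, iso_zsmul hτ _ hδ,
      ← hag _ hpiece, iso_add hτ₀ hθ₀ hφz, iso_zsmul hτ₀ _ (hm φ hφ), hτX, hX']
    module
  · have := key 0 hZ₁.zero χ (mem_zspan (by simp))
    rw [zero_add, iso_zero hτ₀ hZ₁, zero_add, hσχ] at this
    exact this
  · have := key 0 hZ₁.zero (conjFun χ) (mem_zspan (by simp))
    rw [zero_add, iso_zero hτ₀ hZ₁, zero_add, hσχc] at this
    exact this
  · intro α hα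
    have := key α hα 0 hZp.zero
    rw [add_zero, iso_zero hσ hZp, add_zero] at this
    exact this

end system

end Cfsg.Agent.Lib.Helper26
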