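import Cfsg.Agent.Lib.Helper20.BG144d
import Cfsg.Agent.Lib.Helper34.BG16e
import Cfsg.Agent.Lib.Helper34.BGRows
import Cfsg.Agent.Lib.Helper23.TypeP

/-!
# BG section 16: translation between the standard factorisation and the five types (general tools)
-/

set_option autoImplicit false

namespace Cfsg.Agent.Lib.Helper26.BGTypes

open Subgroup Cfsg
open Cfsg.Agent.Lib
open Cfsg.Agent.Lib.Helper24 Cfsg.Agent.Lib.Helper34 Cfsg.Agent.Lib.Helper31.BG11
open Cfsg.Agent.Lib.Helper34.BG13 Cfsg.Agent.Lib.Helper34.BG16 Cfsg.Agent.Lib.Helper10.BG124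

universe u

variable {G : Type u} [Group G]

/-! ### small general lemmas -/

theorem comm_of {A : Subgroup G} (h : IsMulCommutative A) : ∀ a ∈ A, ∀ b ∈ A, a * b = b * a := by
  intro a ha b hb
  have := h.is_comm.comm (⟨a, ha⟩ : A) ⟨b, hb⟩
  exact congrArg Subtype.val this

theorem isMulComm_of {A : Subgroup G} (h : ∀ a ∈ A, ∀ b ∈ A, a * b = b * a) : IsMulCommutative A :=
  ⟨⟨fun a b => Subtype.ext (h a a.2 b b.2)⟩⟩

theorem isCyclic_le {A B : Subgroup G} (h : A ≤ B) (hB : IsCyclic B) : IsCyclic A :=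
  isCyclic_of_injective (Subgroup.inclusion h) (Subgroup.inclusion_injective h)

theorem le_normalizer_of_conj_mem {L F : Subgroup G} (h : ∀ l ∈ L, ∀ x ∈ F, l * x * l⁻¹ ∈ F) :
    L ≤ normalizer (F : Set G) := by
  intro l hl
  rw [mem_normalizer_iff]
  intro x
  refine ⟨h l hl x, fun hx => ?_⟩
  have := h l⁻¹ (L.inv_mem hl) _ hx
  have e : l⁻¹ * (l * x * l⁻¹) * l⁻¹⁻¹ = x := by group
  rwa [e] at this

theorem conj_mem_of_le_normalizer {L F : Subgroup G} (h : L ≤ normalizer (F : Set G)) {l x : G}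
    (hl : l ∈ L) (hx : x ∈ F) : l * x * l⁻¹ ∈ F :=
  (mem_normalizer_iff.1 (h hl) x).1 hx

theorem mem_of_coprime_relIndex {H L : Subgroup G} (hHL : H ≤ L)
    (hn : L ≤ normalizer (H : Set G)) {y : G} (hy : y ∈ L)
    (hc : (H.relIndex L).Coprime (orderOf y)) : y ∈ H := by
  haveI : (H.subgroupOf L).Normal := (normal_subgroupOf_iff_le_normalizer hHL).mpr hn
  have h1 := Subgroup.pow_index_mem (H.subgroupOf L) ⟨y, hy⟩
  rw [Subgroup.mem_subgroupOf] at h1
  have h3 : y ^ H.relIndex L ∈ H := by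
    have h4 : y ^ (H.subgroupOf L).index ∈ H := by simpa using h1
    exact h4
  obtain ⟨m, hm⟩ := exists_pow_eq_self_of_coprime hc
  rw [← hm]; exact H.pow_mem h3 m

theorem orderOf_dvd_card_of_mem [Finite G] {A : Subgroup G} {x : G} (hx : x ∈ A) :
    orderOf x ∣ Nat.card A := by
  have := orderOf_dvd_natCard (⟨x, hx⟩ : A)
  rwa [Subgroup.orderOf_mk] at this

theorem orderOf_conj' (l x : G) : orderOf (l * x * l⁻¹) = orderOf x := by
  have := (MulAut.conj l).orderOf_eq x
  simpa using this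

/-! ### `M_F` -/

variable [Finite G]

theorem fittingHall_nil (X : Type*) [Group X] [Finite X] : Group.IsNilpotent (fittingHall X) :=
  isNilpotent_of_le (F := Cfsg.fittingSubgroup X)
    (sSup_le_sSup (fun N hN => ⟨hN.1, hN.2.1⟩)) Helper1.fittingSubgroup_isNilpotent

theorem fh_le (L : Subgroup G) : fittingHallOf L ≤ L := Helper23.fittingHallOf_le L

theorem fh_subgroupOf (L : Subgroup G) : (fittingHallOf L).subgroupOf L = fittingHall L :=
  Subgroup.comap_map_eq_self_of_injective L.subtype_injective _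

theorem fh_norm (L : Subgroup G) : L ≤ normalizer (fittingHallOf L : Set G) := by
  have h : ((fittingHallOf L).subgroupOf L).Normal := by
    rw [fh_subgroupOf]; infer_instance
  exact (normal_subgroupOf_iff_le_normalizer (fh_le L)).1 h

theorem fh_nil (L : Subgroup G) : Group.IsNilpotent (fittingHallOf L) :=
  (Group.isNilpotent_congr ((fittingHall L).equivMapOfInjective _ L.subtype_injective)).mp
    (fittingHall_nil L)

theorem fh_cop (L : Subgroup G) :
    (Nat.card (fittingHallOf L)).Coprime ((fittingHallOf L).relIndex L) := by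
  have h := Helper23.fittingHall_coprime L
  rw [← Helper23.card_fittingHallOf, ← relIndex_map_subtype L (fittingHall L)] at h
  exact h

theorem le_fh {L N : Subgroup G} (hNL : N ≤ L) (hn : L ≤ normalizer (N : Set G))
    (hnil : Group.IsNilpotent N) (hcop : (Nat.card N).Coprime (N.relIndex L)) :
    N ≤ fittingHallOf L := by
  have h1 : N = (N.subgroupOf L).map L.subtype := by
    rw [Subgroup.subgroupOf_map_subtype, inf_eq_left.2 hNL]
  rw [h1]
  apply Subgroup.map_mono
  apply le_sSup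
  refine ⟨(normal_subgroupOf_iff_le_normalizer hNL).mpr hn, ?_, ?_⟩
  · exact (Group.isNilpotent_congr (Subgroup.subgroupOfEquivOfLe hNL)).mpr hnil
  · rw [Nat.card_congr (Subgroup.subgroupOfEquivOfLe hNL).toEquiv]
    exact hcop

/-- `(L')_F = L_F` if `L'` is a normal Hall subgroup of `L` containing `L_F` -/
theorem fh_of_normal {L L' : Subgroup G} (hL' : L' ≤ L) (hn : L ≤ normalizer (L' : Set G))
    (hcop : (Nat.card L').Coprime (L'.relIndex L)) (hle : fittingHallOf L ≤ L') :
    fittingHallOf L' = fittingHallOf L := by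
  apply le_antisymm
  · apply le_fh ((fh_le L').trans hL') _ (fh_nil L')
    · rw [← relIndex_mul_relIndex _ _ _ (fh_le L') hL']
      exact Nat.Coprime.mul_right (fh_cop L')
        (Nat.Coprime.coprime_dvd_left (Subgroup.card_dvd_of_le (fh_le L')) hcop)
    · apply le_normalizer_of_conj_mem
      intro l hl x hx
      apply mem_of_coprime_relIndex (fh_le L') (fh_norm L')
        (conj_mem_of_le_normalizer hn hl (fh_le L' hx))
      rw [orderOf_conj']
      exact (Nat.Coprime.coprime_dvd_left (orderOf_dvd_card_of_mem hx) (fh_cop L')).symm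
  · apply le_fh hle (hL'.trans (fh_norm L)) (fh_nil L)
    have h1 := relIndex_mul_relIndex _ _ _ hle hL'
    exact Nat.Coprime.coprime_dvd_right (Dvd.intro _ h1) (fh_cop L)

/-- constructor for `IsOfTypeF ↥L` from subgroups of `G` -/
theorem isOfTypeF_of {L U U₁ U₀ : Subgroup G} (hsol : Group.IsSolvable L) (hodd : Odd (Nat.card L))
    (hH1 : fittingHallOf L ≠ ⊥) (hU1 : U ≠ ⊥) (hc : IsComplIn (fittingHallOf L) U L)
    (hU₁ : U₁ ≤ U) (hn : U ≤ normalizer (U₁ : Set G)) (hab : IsMulCommutative U₁)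
    (hcent : ∀ x ∈ fittingHallOf L, x ≠ 1 → U ⊓ centralizer ({x} : Set G) ≤ U₁)
    (hU₀ : U₀ ≤ U) (hexp : Monoid.exponent U₀ = Monoid.exponent U)
    (hfree : ∀ u ∈ U₀, u ≠ 1 → ∀ x ∈ fittingHallOf L, u * x = x * u → x = 1) : IsOfTypeF L := by
  have hmem : ∀ x : L, x ∈ fittingHall L ↔ (x : G) ∈ fittingHallOf L := by
    intro x
    rw [← fh_subgroupOf, mem_subgroupOf]
  refine ⟨hsol, hodd, ?_, ?_, U.subgroupOf L, ?_, ?_, ?_, ?_⟩
  · intro h0
    apply hH1
    unfold fittingHallOf
    rw [h0, Subgroup.map_bot]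
  · intro h0
    apply hU1
    rw [eq_bot_iff, ← hc.2.2.1]
    intro x hx
    refine ⟨?_, hx⟩
    have : (⟨x, hc.2.1 hx⟩ : L) ∈ fittingHall L := by rw [h0]; exact mem_top _
    exact (hmem _).1 this
  · intro h0
    apply hU1
    rw [eq_bot_iff]
    intro x hx
    have : (⟨x, hc.2.1 hx⟩ : L) ∈ U.subgroupOf L := hx
    rw [h0, mem_bot] at this
    rw [mem_bot]
    exact congrArg Subtype.val this
  · apply Subgroup.isComplement'_of_disjoint_and_mul_eq_univ
    · rw [disjoint_iff, eq_bot_iff]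
      intro x hx
      have h1 : (x : G) ∈ fittingHallOf L ⊓ U := ⟨(hmem x).1 hx.1, hx.2⟩
      rw [hc.2.2.1, mem_bot] at h1
      rw [mem_bot]
      exact Subtype.ext h1
    · rw [Set.eq_univ_iff_forall]
      intro m
      obtain ⟨a, ha, b, hb, hab⟩ := hc.2.2.2 m m.2
      refine Set.mem_mul.2 ⟨⟨a, hc.1 ha⟩, (hmem _).2 ha, ⟨b, hc.2.1 hb⟩, hb, ?_⟩
      exact Subtype.ext hab.symm
  · refine ⟨U₁.subgroupOf L, fun x hx => hU₁ hx, ?_, ?_, ?_⟩
    · intro x hx
      rw [mem_normalizer_iff]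
      intro y
      exact mem_normalizer_iff.1 (hn hx) (y : G)
    · exact ⟨⟨fun a b => Subtype.ext (Subtype.ext (comm_of hab _ a.2 _ b.2))⟩⟩
    · intro x hx hx1 y hy
      apply hcent x ((hmem x).1 hx) (fun h => hx1 (Subtype.ext h))
      refine ⟨hy.1, ?_⟩
      have h2 := mem_centralizer_singleton_iff.1 hy.2
      exact mem_centralizer_singleton_iff.2 (congrArg Subtype.val h2)
  · refine ⟨U₀.subgroupOf L, fun x hx => hU₀ hx, ?_, ?_⟩
    · rw [Monoid.exponent_eq_of_mulEquiv (Subgroup.subgroupOfEquivOfLe (hU₀.trans hc.2.1)),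
        Monoid.exponent_eq_of_mulEquiv (Subgroup.subgroupOfEquivOfLe hc.2.1), hexp]
    · intro u hu hu1 x hx hux
      have := hfree u hu (fun h => hu1 (Subtype.ext h)) x ((hmem x).1 hx) (congrArg Subtype.val hux)
      exact Subtype.ext this

end Cfsg.Agent.Lib.Helper26.BGTypes
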