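import Cfsg.Agent.Lib.Helper26.BGTypesB

/-!
# BG section 16: Type I (one direction), Type V, and the sets `M_s`, `A(M)`
-/

set_option autoImplicit false

namespace Cfsg.Agent.Lib.Helper26.BGTypes

open Subgroup Cfsg
open Cfsg.Agent.Lib
open Cfsg.Agent.Lib.Helper24 Cfsg.Agent.Lib.Helper34 Cfsg.Agent.Lib.Helper31.BG11
open Cfsg.Agent.Lib.Helper34.BG13 Cfsg.Agent.Lib.Helper34.BG16 Cfsg.Agent.Lib.Helper10.BG124
open Cfsg.Agent.Lib.Helper34.BGRows
open scoped Pointwise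

universe u

variable {G : Type u} [Group G] [Finite G] {M K U : Subgroup G}

/-! ### Type I forces `K = 1` -/

theorem U_ne_bot_of_K (hM : IsCoatom M) (hKU : IsSigmaDecomposition M K U) (h55 : H1355 G)
    (hK : K = ⊥) : U ≠ ⊥ := by
  intro hU
  obtain ⟨-, -, hsM', hM'M, -⟩ := h55 M hM
  have h1 := card_M hKU
  rw [hK, hU, Subgroup.card_bot, one_mul, one_mul] at h1
  have h2 : sigmaCore M = M := Subgroup.eq_of_le_of_card_ge (sc_le M) h1.ge
  rw [h2] at hsM'
  exact absurd hM'M (not_lt_of_ge hsM')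

theorem K_eq_bot_of_typeF (hM : IsCoatom M) (hKU : IsSigmaDecomposition M K U)
    (h55 : H1355 G) (h64 : H1364 G) (hF : IsOfTypeF M) : K = ⊥ := by
  by_contra hK1
  obtain ⟨-, hHs, -, -, -⟩ := h55 M hM
  obtain ⟨-, hKs1, hKsH, -⟩ := h64 M hM K U hKU hK1
  obtain ⟨-, -, -, -, UF, -, hcompl, -, U₀, hU₀, hexp, hfree⟩ := hF
  have h1 : Nat.card K ≠ 1 := fun h => hK1 ((Subgroup.card_eq_one).1 h)
  obtain ⟨p, hp, hd⟩ := Nat.exists_prime_and_dvd h1
  haveI : Fact p.Prime := ⟨hp⟩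
  have hpH : ¬ p ∣ Nat.card (fittingHall M) := by
    intro h
    rw [← Helper23.card_fittingHallOf] at h
    have h2 := Nat.dvd_gcd hd (h.trans (Subgroup.card_dvd_of_le hHs))
    rw [K_cop_sc hKU] at h2
    exact hp.one_lt.ne' (Nat.dvd_one.1 h2)
  have hpUF : p ∣ Nat.card UF := by
    have h2 := hcompl.card_mul
    have h3 : p ∣ Nat.card (fittingHall M) * Nat.card UF := by
      rw [h2]; exact hd.trans (Subgroup.card_dvd_of_le hKU.hall.1)
    exact (hp.dvd_mul.1 h3).resolve_left hpH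
  obtain ⟨v, hv⟩ := exists_prime_orderOf_dvd_card' (G := UF) p hpUF
  have hpe : p ∣ Monoid.exponent U₀ := by
    rw [hexp, ← hv]; exact Monoid.order_dvd_exponent v
  have hpU₀ : p ∣ Nat.card U₀ := hpe.trans Group.exponent_dvd_nat_card
  obtain ⟨u, hu⟩ := exists_prime_orderOf_dvd_card' (G := U₀) p hpU₀
  have huo : orderOf ((u : M) : G) = p := by
    rw [Subgroup.orderOf_coe, Subgroup.orderOf_coe, hu]
  obtain ⟨S, hS, -⟩ := exists_isSylowIn_ge (bot_le : (⊥ : Subgroup G) ≤ K) (IsPGroup.of_bot (p := p))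
  have hSM := isSylowIn_of_hall hp hKU.hall.1 (K_hall_cop hKU) hd hS
  obtain ⟨n, hn, hle⟩ := hSM.exists_conj_le (R := zpowers ((u : M) : G))
    (zpowers_le.2 (u : M).2) (isPGroup_zpowers_of_orderOf hp huo)
  have hk : n * ((u : M) : G) * n⁻¹ ∈ K := hS.1 (hle (conj_mem_map_conj (mem_zpowers _)))
  obtain ⟨y, hy, hy1⟩ := exists_ne_one_of_ne_bot hKs1
  have hcomm : n * ((u : M) : G) * n⁻¹ * y = y * (n * ((u : M) : G) * n⁻¹) :=
    mem_centralizer_iff.1 hy.2 _ hk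
  have hyH : n⁻¹ * y * n ∈ fittingHallOf M := by
    have := conj_mem_of_le_normalizer (fh_norm M) (M.inv_mem hn) (hKsH hy)
    rwa [inv_inv] at this
  have hx : (⟨n⁻¹ * y * n, fh_le M hyH⟩ : M) ∈ fittingHall M := by
    rw [← fh_subgroupOf, mem_subgroupOf]; exact hyH
  have hu1 : (u : M) ≠ 1 := by
    intro h
    rw [h] at huo
    simp at huo
    exact hp.one_lt.ne huo
  have h5 := hfree (u : M) u.2 hu1 _ hx (by
    apply Subtype.ext
    show ((u : M) : G) * (n⁻¹ * y * n) = n⁻¹ * y * n * ((u : M) : G)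
    have e1 : ((u : M) : G) * (n⁻¹ * y * n) = n⁻¹ * (n * ((u : M) : G) * n⁻¹ * y) * n := by group
    rw [e1, hcomm]
    group)
  have h6 : n⁻¹ * y * n = 1 := congrArg Subtype.val h5
  apply hy1
  have e2 : y = n * (n⁻¹ * y * n) * n⁻¹ := by group
  rw [e2, h6]
  group

theorem typeI_imp (hM : IsCoatom M) (hKU : IsSigmaDecomposition M K U)
    (h55 : H1355 G) (h64 : H1364 G) (hI : IsOfTypeI M) : K = ⊥ ∧ U ≠ ⊥ := by
  have hK := K_eq_bot_of_typeF hM hKU h55 h64 hI.1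
  exact ⟨hK, U_ne_bot_of_K hM hKU h55 hK⟩

/-! ### Type V -/

/-- the trichotomy of BG Theorem 15.7 (third conjunct of row S1440) -/
def NonTI (G : Type u) [Group G] [Finite G] : Prop :=
  ∀ (M : Subgroup G) (_ : IsCoatom M) (K U : Subgroup G) (_ : IsSigmaDecomposition M K U) (g : G)
    (_ : g ∉ M) (_ : fittingOf M ⊓ (fittingOf M).map (MulAut.conj g).toMonoidHom ≠ ⊥),
      ((K = ⊥ ∧ IsMulCommutative (fittingHallOf M) ∧ RankLE 2 (fittingHallOf M) ∧
          ¬ RankLE 1 (fittingHallOf M)) ∨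
       (∃ p : ℕ, p.Prime ∧
          Nat.card ↥(fittingOf M ⊓ (fittingOf M).map (MulAut.conj g).toMonoidHom) = p ∧
          p ∈ sigma M ∧ p ∉ beta M ∧
          ¬ IsMulCommutative (pCore p ↥(fittingHallOf M)) ∧
          IsCyclic (pPrimeCore p ↥(fittingHallOf M)) ∧
          ∀ q : ℕ, q.Prime → q ∣ Nat.card (fittingHallOf M) →
            Monoid.exponent (↥M ⧸ fittingHall ↥M) ∣ q - 1) ∨
       (∃ p : ℕ, p.Prime ∧
          Nat.card ↥(fittingOf M ⊓ (fittingOf M).map (MulAut.conj g).toMonoidHom) = p ∧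
          p ∈ sigma M ∧ p ∉ beta M ∧
          IsCyclic (pPrimeCore p ↥(fittingHallOf M)) ∧
          Nat.card (pCore p ↥(fittingHallOf M)) = p ^ 3 ∧
          ¬ IsMulCommutative (pCore p ↥(fittingHallOf M)) ∧ K ≠ ⊥ ∧ U = ⊥ ∧
          (fittingHallOf M).relIndex M ∣ p + 1))

theorem typeV_imp (hG : IsMinSimpleOddOrder G) (hM : IsCoatom M)
    (hKU : IsSigmaDecomposition M K U) (h55 : H1355 G) (h65 : H1365 G)
    {W₁ U' W₂ : Subgroup G} (hP : IsTypePWith M W₁ U' W₂) (hU' : U' = ⊥) :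
    K ≠ ⊥ ∧ U = ⊥ ∧ fittingHallOf M = sigmaCore M := by
  have hK1 := K_ne_bot_of_typeP hG hM h55 hKU hP
  obtain ⟨hM', -⟩ := h65 M hM K U hKU hK1
  obtain ⟨-, hHs, -, -, -⟩ := h55 M hM
  have hc := hP.U_compl
  have hM'H : ⁅M, M⁆ ≤ fittingHallOf M := by
    intro m hm
    obtain ⟨a, ha, b, hb, rfl⟩ := hc.2.2.2 m hm
    rw [hU', mem_bot] at hb
    rw [hb, mul_one]
    exact ha
  refine ⟨hK1, ?_, le_antisymm hHs ?_⟩
  · rw [eq_bot_iff, ← hKU.compl.2.2.1]
    refine le_inf le_rfl ?_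
    refine le_trans ?_ (le_sup_right (a := K))
    refine le_trans ?_ (hM'H.trans hHs)
    rw [hM']
    exact le_sup_left
  · refine le_trans ?_ hM'H
    rw [hM']
    exact le_sup_right

theorem dvd_card_sc_of_sigma (hG : IsMinSimpleOddOrder G) (hM : IsCoatom M) {p : ℕ}
    (hp : p ∈ sigma M) : p ∣ Nat.card (sigmaCore M) := by
  have h1 := (sc_hall hG (hU_of hG) hM).2.2 p hp.1 hp
  have h2 := Helper23.card_mul_relIndex (sc_le M)
  have h3 : p ∣ Nat.card (sigmaCore M) * (sigmaCore M).relIndex M := by rw [h2]; exact hp.2.1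
  exact (hp.1.dvd_mul.1 h3).resolve_right h1

/-- the order of a cyclic subgroup meeting `M_F` trivially divides the exponent of `M / M_F` -/
theorem card_dvd_exponent_quot {C : Subgroup G} (hCM : C ≤ M) (hcyc : IsCyclic C)
    (hd : C ⊓ fittingHallOf M = ⊥) : Nat.card C ∣ Monoid.exponent (↥M ⧸ fittingHall ↥M) := by
  obtain ⟨c, hc⟩ := hcyc.exists_generator
  let f : C →* M ⧸ fittingHall M := (QuotientGroup.mk' (fittingHall M)).comp (Subgroup.inclusion hCM)
  have hinj : Function.Injective f := by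
    rw [injective_iff_map_eq_one]
    intro x hx
    have h2 : Subgroup.inclusion hCM x ∈ fittingHall M := by
      rw [← QuotientGroup.eq_one_iff]; exact hx
    have h3 : (x : G) ∈ C ⊓ fittingHallOf M := by
      refine ⟨x.2, ?_⟩
      rw [← fh_subgroupOf, mem_subgroupOf] at h2
      exact h2
    rw [hd, mem_bot] at h3
    exact Subtype.ext h3
  have h1 : orderOf c = Nat.card C := orderOf_eq_card_of_forall_mem_zpowers hc
  rw [← h1, ← orderOf_injective f hinj c]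
  exact Monoid.order_dvd_exponent _

theorem typeV_of (hG : IsMinSimpleOddOrder G) (hM : IsCoatom M)
    (hKU : IsSigmaDecomposition M K U)
    (h54 : H1354 G) (h56 : H1356 G)
    (h64 : H1364 G) (h65 : H1365 G) (h66 : H1366 G) (h68 : H1368 G) (h70 : H1370 G)
    (hnt : NonTI G)
    (hK1 : K ≠ ⊥) (hU : U = ⊥) (hH : fittingHallOf M = sigmaCore M) : IsOfTypeV M := by
  obtain ⟨hM', -⟩ := h65 M hM K U hKU hK1
  rw [hU, bot_sup_eq] at hM'
  have hc : IsComplIn (fittingHallOf M) ⊥ ⁅M, M⁆ := by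
    rw [hM', hH]
    exact ⟨le_rfl, bot_le, inf_bot_eq _, fun m hm => ⟨m, hm, 1, one_mem _, (mul_one m).symm⟩⟩
  have hnil : Group.IsNilpotent (⊥ : Subgroup G) := inferInstance
  have hP := typeP_of hG hM hKU hK1 h54 h56 h64 h65 h66 h68 h70 hnil
    (by rw [Subgroup.coe_bot]; intro k _; rw [mem_set_normalizer_iff]; intro h; simp) hc
  refine ⟨K, ⊥, _, hP, rfl, ?_⟩
  by_cases hTI : IsTISubset (fittingHallOf M : Set G)
  · exact Or.inl hTI
  right
  unfold IsTISubset at hTI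
  push Not at hTI
  obtain ⟨g, hg, x, hx, hgx, hx1⟩ := hTI
  have hgM : g ∉ M := fun h => hg (fh_norm M h)
  have hHF : fittingHallOf M ≤ fittingOf M := by
    rw [(h56 M hM).2.1]; exact le_sup_right
  have hX : fittingOf M ⊓ (fittingOf M).map (MulAut.conj g).toMonoidHom ≠ ⊥ := by
    intro h0
    have h1 : g * x * g⁻¹ ∈ fittingOf M ⊓ (fittingOf M).map (MulAut.conj g).toMonoidHom :=
      ⟨hHF hgx, conj_mem_map_conj (hHF hx)⟩
    rw [h0, mem_bot] at h1
    apply hx1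
    have e : x = g⁻¹ * (g * x * g⁻¹) * g := by group
    rw [e, h1]; group
  have hrel : (fittingHallOf M).relIndex M = Nat.card K := by
    have h1 := card_M hKU
    rw [hU, Subgroup.card_bot, one_mul, ← hH] at h1
    have h2 := Helper23.card_mul_relIndex (fh_le M)
    rw [← h1, mul_comm (Nat.card K)] at h2
    exact Nat.eq_of_mul_eq_mul_left Nat.card_pos h2
  rcases hnt M hM K U hKU g hgM hX with h | ⟨p, hp, -, hps, -, -, hcyc, hexp⟩ |
      ⟨p, hp, -, hps, -, hcyc, hcard, -, -, -, hdvd⟩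
  · exact absurd h.1 hK1
  · left
    have hpH : p ∣ Nat.card (fittingHallOf M) := by rw [hH]; exact dvd_card_sc_of_sigma hG hM hps
    refine ⟨p, hp, hpH, ?_, hcyc⟩
    refine (card_dvd_exponent_quot hKU.hall.1 hKU.cyclic ?_).trans (hexp p hp hpH)
    rw [hH]; exact K_inf_sc hKU
  · right
    have hpH : p ∣ Nat.card (fittingHallOf M) := by rw [hH]; exact dvd_card_sc_of_sigma hG hM hps
    exact ⟨p, hp, hpH, hcard, hrel ▸ hdvd, hcyc⟩

theorem typeV_iff (hG : IsMinSimpleOddOrder G) (hM : IsCoatom M)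
    (hKU : IsSigmaDecomposition M K U)
    (h54 : H1354 G) (h55 : H1355 G) (h56 : H1356 G)
    (h64 : H1364 G) (h65 : H1365 G) (h66 : H1366 G) (h68 : H1368 G) (h70 : H1370 G)
    (hnt : NonTI G) :
    IsOfTypeV M ↔ (K ≠ ⊥ ∧ U = ⊥ ∧ fittingHallOf M = sigmaCore M) := by
  constructor
  · rintro ⟨W₁, U', W₂, hP, hU', -⟩
    exact typeV_imp hG hM hKU h55 h65 hP hU'
  · rintro ⟨hK1, hU, hH⟩
    exact typeV_of hG hM hKU h54 h56 h64 h65 h66 h68 h70 hnt hK1 hU hH

/-! ### `M_s` (row S1389) -/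

theorem hall_sc_facts (hM : IsCoatom M) {T : Subgroup G}
    (hT : T ≤ sigmaCore M) (hcop : (Nat.card T).Coprime (T.relIndex M)) :
    (∀ (p : ℕ), p.Prime → ∀ (P : Sylow p ↥T), (P : Subgroup ↥T) ≠ ⊥ →
        normalizer ((((P : Subgroup ↥T).map T.subtype : Subgroup G)) : Set G) ≤ M) ∧
      (Nat.card T).Coprime T.index := by
  constructor
  · intro p hp P hP1
    haveI : Fact p.Prime := ⟨hp⟩
    have hd : p ∣ Nat.card T := by
      obtain ⟨n, hn⟩ := (IsPGroup.iff_card).1 P.2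
      rcases Nat.eq_zero_or_pos n with rfl | hn0
      · rw [pow_zero] at hn
        exact absurd ((Subgroup.card_eq_one).1 hn) hP1
      · have h1 : p ∣ Nat.card (P : Subgroup T) := by rw [hn]; exact dvd_pow_self p hn0.ne'
        exact h1.trans (Subgroup.card_subgroup_dvd_card _)
    have hS := isSylowIn_of_hall hp (hT.trans (sc_le M)) hcop hd (Sylow.isSylowIn_map P)
    exact sigma_normalizer_le (sc_primes M hp (hd.trans (Subgroup.card_dvd_of_le hT))) hS
  · rw [← Subgroup.relIndex_mul_index (hT.trans (sc_le M))]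
    apply Nat.Coprime.mul_right hcop
    apply Nat.coprime_of_dvd
    intro r hr h1 h2
    haveI : Fact r.Prime := ⟨hr⟩
    exact sigma_not_dvd_index (sc_primes M hr (h1.trans (Subgroup.card_dvd_of_le hT))) h2

theorem sc_cop (hG : IsMinSimpleOddOrder G) (hM : IsCoatom M) :
    (Nat.card (sigmaCore M)).Coprime ((sigmaCore M).relIndex M) := by
  have hhall := sc_hall hG (hU_of hG) hM
  exact Nat.coprime_of_dvd fun k hk h1 h2 => hhall.2.2 k hk (hhall.2.1 k hk h1) h2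

theorem exists_decomp (hM : IsCoatom M) (h51 : H1351 G) (h52 : H1352 G) :
    ∃ K U : Subgroup G, IsSigmaDecomposition M K U := by
  obtain ⟨⟨K, hK⟩, hcyc⟩ := h51 M hM
  obtain ⟨⟨U, hU⟩, -⟩ := h52 M hM K (hcyc K hK) hK
  exact ⟨K, U, hU⟩

theorem typeIII_IV_imp' (hG : IsMinSimpleOddOrder G) (hM : IsCoatom M)
    (hKU : IsSigmaDecomposition M K U) (h55 : H1355 G) (h57 : H1357 G) (h63 : H1363 G)
    (h65 : H1365 G) (h : IsOfTypeIII M ∨ IsOfTypeIV M) :
    K ≠ ⊥ ∧ U = ⊥ ∧ fittingHallOf M ≠ sigmaCore M := by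
  rcases h with (⟨W₁, U', W₂, hP, hU'1, -, -, -, hN⟩ | ⟨W₁, U', W₂, hP, hU'1, -, -, -, hN⟩)
  · exact typeIII_IV_imp hG hM hKU h55 h57 h63 h65 hP hU'1 hN
  · exact typeIII_IV_imp hG hM hKU h55 h57 h63 h65 hP hU'1 hN

theorem typeCore_facts (hG : IsMinSimpleOddOrder G) (hM : IsCoatom M) (h51 : H1351 G)
    (h52 : H1352 G) (h55 : H1355 G) (h57 : H1357 G) (h63 : H1363 G) (h65 : H1365 G) :
    typeCore M ≤ sigmaCore M ∧ (Nat.card (typeCore M)).Coprime ((typeCore M).relIndex M) := by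
  unfold typeCore
  split_ifs with h
  · obtain ⟨K, U, hKU⟩ := exists_decomp hM h51 h52
    obtain ⟨hK1, hU, -⟩ := typeIII_IV_imp' hG hM hKU h55 h57 h63 h65 h
    obtain ⟨hM', -⟩ := h65 M hM K U hKU hK1
    rw [hU, bot_sup_eq] at hM'
    rw [hM']
    exact ⟨le_rfl, sc_cop hG hM⟩
  · exact ⟨(h55 M hM).2.1, fh_cop M⟩

theorem row1389 (hG : IsMinSimpleOddOrder G) (hM : IsCoatom M) (h51 : H1351 G)
    (h52 : H1352 G) (h55 : H1355 G) (h57 : H1357 G) (h63 : H1363 G) (h65 : H1365 G) :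
    (∀ (p : ℕ), p.Prime → ∀ (P : Sylow p ↥(typeCore M)), (P : Subgroup ↥(typeCore M)) ≠ ⊥ →
        normalizer ((((P : Subgroup ↥(typeCore M)).map (typeCore M).subtype : Subgroup G)) : Set G)
          ≤ M) ∧
      (Nat.card (fittingHallOf M)).Coprime (fittingHallOf M).index ∧
      (Nat.card (typeCore M)).Coprime (typeCore M).index := by
  obtain ⟨h1, h2⟩ := typeCore_facts hG hM h51 h52 h55 h57 h63 h65
  obtain ⟨h3, h4⟩ := hall_sc_facts hM h1 h2
  exact ⟨h3, (hall_sc_facts hM (h55 M hM).2.1 (fh_cop M)).2, h4⟩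

/-! ### complements in Types I and II (row S1390) -/

omit [Finite G] in
theorem complIn_swap {A B L : Subgroup G} (h : IsComplIn A B L) : IsComplIn B A L := by
  refine ⟨h.2.1, h.1, by rw [inf_comm]; exact h.2.2.1, fun m hm => ?_⟩
  obtain ⟨a, ha, b, hb, hab⟩ := h.2.2.2 m⁻¹ (L.inv_mem hm)
  exact ⟨b⁻¹, B.inv_mem hb, a⁻¹, A.inv_mem ha, by rw [← mul_inv_rev, ← hab, inv_inv]⟩

theorem relIndex_cj_of_mem {A L : Subgroup G} (hAL : A ≤ L) {m : G} (hm : m ∈ L) :
    cj m A ≤ L ∧ (cj m A).relIndex L = A.relIndex L := by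
  have h1 : cj m A ≤ L := by
    have h0 := cj_mono m hAL
    have e : cj m L = L := map_conj_eq_self_of_mem hm
    rwa [e] at h0
  refine ⟨h1, ?_⟩
  have h2 := Helper23.card_mul_relIndex h1
  rw [← Helper23.card_mul_relIndex hAL, card_map_conj] at h2
  exact Nat.eq_of_mul_eq_mul_left Nat.card_pos h2

theorem decomp_conj (hG : IsMinSimpleOddOrder G) (hM : IsCoatom M)
    (hKU : IsSigmaDecomposition M K U) {m : G} (hm : m ∈ M) :
    IsSigmaDecomposition M (cj m K) (cj m U) := by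
  obtain ⟨hK1, hK2⟩ := relIndex_cj_of_mem hKU.hall.1 hm
  obtain ⟨hU1, -⟩ := relIndex_cj_of_mem hKU.compl.1 hm
  have hcop : (Nat.card (cj m K)).Coprime (Nat.card (sigmaCore M)) := by
    rw [card_map_conj]; exact K_cop_sc hKU
  have hcard : Nat.card (cj m K ⊔ sigmaCore M : Subgroup G)
      = Nat.card K * Nat.card (sigmaCore M) := by
    rw [Helper1.card_sup_of_disjoint (hK1.trans (sc_norm M))
      (Subgroup.disjoint_of_coprime_natCard hcop), card_map_conj]
  refine ⟨?_, ⟨hK1, ?_, ?_⟩, ?_, ?_⟩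
  · have := hKU.cyclic
    exact isCyclic_of_surjective (K.equivMapOfInjective _ (MulAut.conj m).injective)
      (K.equivMapOfInjective _ (MulAut.conj m).injective).surjective
  · intro p hp hd
    rw [card_map_conj] at hd
    exact hKU.hall.2.1 p hp hd
  · intro p hp hpk
    rw [hK2]
    exact hKU.hall.2.2 p hp hpk
  · apply isComplIn_of_card hU1 (sup_le hK1 (sc_le M))
    · rw [hcard, card_map_conj]
      refine Nat.Coprime.mul_right ?_ (U_cop_sc hG hM hKU)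
      exact (Nat.Coprime.coprime_dvd_right (Subgroup.card_dvd_of_le le_sup_left)
        (K_cop_Usup hKU)).symm
    · rw [hcard, card_map_conj]
      exact card_M hKU
  · rw [normalizer_map_conj]
    exact cj_mono m hKU.normal

theorem typeII_imp (hG : IsMinSimpleOddOrder G) (hM : IsCoatom M)
    (hKU : IsSigmaDecomposition M K U) (h55 : H1355 G) (h65 : H1365 G) (h : IsOfTypeII M) :
    K ≠ ⊥ ∧ U ≠ ⊥ := by
  obtain ⟨W₁, U', W₂, hP, hU'1, -, -, -, hN, -, -⟩ := h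
  have hK1 := K_ne_bot_of_typeP hG hM h55 hKU hP
  refine ⟨hK1, fun hU => hN ?_⟩
  obtain ⟨hM', -⟩ := h65 M hM K U hKU hK1
  rw [hU, bot_sup_eq] at hM'
  exact normalizer_le_of_hall_sc hG hM (hM' ▸ hP.U_compl.2.1) hU'1 hP.U_nilpotent (typeP_U_hall hP)

/-- In Types I and II every complement `U` as in Peterfalvi's definition is part of a standard
factorisation. -/
theorem exists_decomp_with (hG : IsMinSimpleOddOrder G) (hM : IsCoatom M) (h51 : H1351 G)
    (h52 : H1352 G) (h55 : H1355 G) (h57 : H1357 G) (h63 : H1363 G) (h64 : H1364 G)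
    (h65 : H1365 G)
    (hU : (IsOfTypeI M ∧ IsComplIn (fittingHallOf M) U M) ∨
      (IsOfTypeII M ∧ IsComplIn (fittingHallOf M) U ⁅M, M⁆)) :
    ∃ K, IsSigmaDecomposition M K U ∧ fittingHallOf M = sigmaCore M ∧
      ¬ (IsOfTypeIII M ∨ IsOfTypeIV M) ∧
      ((IsOfTypeI M ∧ M = U ⊔ sigmaCore M) ∨ (¬ IsOfTypeI M ∧ ⁅M, M⁆ = U ⊔ sigmaCore M)) := by
  obtain ⟨K₀, U₀, hKU₀⟩ := exists_decomp hM h51 h52
  rcases hU with ⟨hI, hc⟩ | ⟨hII, hc⟩
  · obtain ⟨hK₀, -⟩ := typeI_imp hM hKU₀ h55 h64 hI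
    subst hK₀
    have hH : fittingHallOf M = sigmaCore M := by
      by_contra hne
      have := (h57 M hM ⊥ U₀ hKU₀ hne).2.2
      rw [Subgroup.card_bot] at this
      exact Nat.not_prime_one this
    have hKU : IsSigmaDecomposition M ⊥ U := by
      refine ⟨hKU₀.cyclic, hKU₀.hall, ?_, bot_le⟩
      rw [bot_sup_eq, ← hH]
      exact complIn_swap hc
    refine ⟨⊥, hKU, hH, fun h => (typeIII_IV_imp' hG hM hKU h55 h57 h63 h65 h).1 rfl,
      Or.inl ⟨hI, ?_⟩⟩
    apply le_antisymm _ (decomp_sup_le hKU)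
    intro m hm
    obtain ⟨a, ha, b, hb, rfl⟩ := hc.2.2.2 m hm
    exact mul_mem (le_sup_right (a := U) (hH ▸ ha)) (le_sup_left (b := sigmaCore M) hb)
  · obtain ⟨hK₀, hU₀⟩ := typeII_imp hG hM hKU₀ h55 h65 hII
    have hH : fittingHallOf M = sigmaCore M := by
      by_contra hne
      exact hU₀ (h57 M hM K₀ U₀ hKU₀ hne).1
    obtain ⟨hM', -⟩ := h65 M hM K₀ U₀ hKU₀ hK₀
    have hM'M : ⁅M, M⁆ ≤ M := (h55 M hM).2.2.2.1.le
    have hcU₀ : IsComplIn (fittingHallOf M) U₀ ⁅M, M⁆ := by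
      rw [hH, hM']; exact compl_U hG hM hKU₀
    have hcard : Nat.card U = Nat.card U₀ := by
      have h1 := Helper23.complIn_card_mul hc
      rw [← Helper23.complIn_card_mul hcU₀] at h1
      exact Nat.eq_of_mul_eq_mul_left Nat.card_pos h1
    obtain ⟨l, hl, hlU⟩ := Helper1.hall_conj_rel ⁅M, M⁆
      (MS_solvable hG (ne_top_of_le_ne_top hM.1 hM'M)) U₀ U hcU₀.2.1 hc.2.1
      (by rw [Helper23.complIn_relIndex_right hcU₀]; exact compl_fh_cop hM'M hcU₀) hcard
    have hKU := decomp_conj hG hM hKU₀ (hM'M hl)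
    have hlU' : cj l U₀ = U := hlU
    rw [hlU'] at hKU
    obtain ⟨hK1, hU1⟩ := typeII_imp hG hM hKU h55 h65 hII
    exact ⟨_, hKU, hH, fun h => hU1 (typeIII_IV_imp' hG hM hKU h55 h57 h63 h65 h).2.1,
      Or.inr ⟨fun hI => hK1 (typeI_imp hM hKU h55 h64 hI).1, (h65 M hM _ U hKU hK1).1⟩⟩

omit [Finite G] in
theorem setEq_aux {D H' : Subgroup G} (hD : D = U ⊔ sigmaCore M) (hDM : D ≤ M)
    (hH' : H' = sigmaCore M) :
    {a | a ∈ D ∧ a ≠ 1 ∧ ∃ x ∈ H', x ≠ 1 ∧ a * x = x * a} \ ((H' : Set G) \ {1})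
      = sigmaA M U \ (sigmaCore M : Set G) := by
  subst hH'
  ext a
  constructor
  · rintro ⟨⟨haD, ha1, x, hx, hx1, hax⟩, hna⟩
    refine ⟨⟨⟨hDM haD, x, hx, hx1, hax⟩, hD ▸ haD⟩, fun h => hna ⟨h, ha1⟩⟩
  · rintro ⟨⟨⟨-, x, hx, hx1, hax⟩, haU⟩, hna⟩
    refine ⟨⟨hD ▸ haU, fun h => hna (h ▸ (sigmaCore M).one_mem), x, hx, hx1, hax⟩, fun h => hna h.1⟩

theorem row1390 (hG : IsMinSimpleOddOrder G) (hM : IsCoatom M) (h51 : H1351 G)
    (h52 : H1352 G) (h55 : H1355 G) (h57 : H1357 G) (h63 : H1363 G) (h64 : H1364 G)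
    (h65 : H1365 G)
    (h58 : ∀ K U : Subgroup G, IsSigmaDecomposition M K U → ∀ (p : ℕ), p.Prime →
      ∀ P : Sylow p U, IsMulCommutative (P : Subgroup U) ∧ PRankLE p 2 (P : Subgroup U))
    (h61 : ∀ K U : Subgroup G, IsSigmaDecomposition M K U → ∀ X : Subgroup G, X ≤ U → X ≠ ⊥ →
      sigmaCore M ⊓ centralizer (X : Set G) ≠ ⊥ → centralizer (X : Set G) ≤ M ∧
        ∀ L : Subgroup G, IsCoatom L → centralizer (X : Set G) ≤ L → L = M)
    (h62 : ∀ K U : Subgroup G, IsSigmaDecomposition M K U →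
      IsTISubset (sigmaA M U \ (sigmaCore M : Set G)))
    (hU : (IsOfTypeI M ∧ IsComplIn (fittingHallOf M) U M) ∨
      (IsOfTypeII M ∧ IsComplIn (fittingHallOf M) U ⁅M, M⁆)) :
    (∀ (p : ℕ), p.Prime → ∀ P : Sylow p U,
        IsMulCommutative (P : Subgroup U) ∧ PRankLE p 2 (P : Subgroup U)) ∧
      (∀ X : Set G, X ⊆ (U : Set G) \ {1} → X.Nonempty →
        fittingHallOf M ⊓ centralizer X ≠ ⊥ →
        centralizer X ≤ M ∧ ∀ L : Subgroup G, IsCoatom L → centralizer X ≤ L → L = M) ∧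
      IsTISubset (typeA M \ typeA1 M) := by
  obtain ⟨K, hKU, hH, hn34, hcase⟩ := exists_decomp_with hG hM h51 h52 h55 h57 h63 h64 h65 hU
  refine ⟨h58 K U hKU, ?_, ?_⟩
  · intro X hXU hXne hHX
    have h1 := h61 K U hKU (closure X) ((closure_le U).2 (fun x hx => (hXU hx).1)) (by
      obtain ⟨x, hx⟩ := hXne
      intro h0
      have h2 : x ∈ closure X := subset_closure hx
      rw [h0, mem_bot] at h2
      exact (hXU hx).2 h2) (by rw [centralizer_closure, ← hH]; exact hHX)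
    rwa [centralizer_closure] at h1
  · have hcore : typeCore M = fittingHallOf M := by
      unfold typeCore
      rw [if_neg hn34]
    have key : typeA M \ typeA1 M = sigmaA M U \ (sigmaCore M : Set G) := by
      rcases hcase with ⟨hI, hD⟩ | ⟨hI, hD⟩
      · unfold typeA typeA1
        rw [if_pos hI, hcore]
        exact setEq_aux hD le_rfl hH
      · unfold typeA typeA1
        rw [if_neg hI, hcore]
        exact setEq_aux hD (h55 M hM).2.2.2.1.le hH
    rw [key]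
    exact h62 K U hKU

end Cfsg.Agent.Lib.Helper26.BGTypes
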