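import Cfsg.Agent.Lib.Helper26.BGTypesC
import Cfsg.Agent.Lib.Helper24.BG13BC
import Cfsg.Agent.Lib.Helper65.BG147c
import Cfsg.Agent.S1420
import Cfsg.Agent.S1429
import Cfsg.Agent.S1545

/-!
# Row S1363 (BG Theorem C): `U` is abelian and `N_G(U) ≰ M` when `K ≠ 1` -- preparations
-/

set_option autoImplicit false

namespace Cfsg.Agent.Lib.Helper26.BG1363

open Subgroup Cfsg
open Cfsg.Agent.Lib
open Cfsg.Agent.Lib.Helper24 Cfsg.Agent.Lib.Helper34 Cfsg.Agent.Lib.Helper31.BG11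
open Cfsg.Agent.Lib.Helper34.BG13 Cfsg.Agent.Lib.Helper34.BG16 Cfsg.Agent.Lib.Helper10.BG124
open Cfsg.Agent.Lib.Helper34.BGRows
open Cfsg.Agent.Lib.Helper26.BGTypes
open scoped Pointwise

universe u

variable {G : Type u} [Group G] [Finite G] {M K U : Subgroup G}

/-! ### Hall subgroups -/

theorem piHall_card_dvd {π : Set ℕ} {A B L : Subgroup G} (hA : IsPiHallOf π A L)
    (hB : IsPiHallOf π B L) : Nat.card A ∣ Nat.card B := by
  have h1 := Helper23.card_mul_relIndex hA.1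
  have h2 := Helper23.card_mul_relIndex hB.1
  have hcop : (Nat.card A).Coprime (B.relIndex L) :=
    Nat.coprime_of_dvd fun k hk h3 h4 => hB.2.2 k hk (hA.2.1 k hk h3) h4
  apply hcop.dvd_of_dvd_mul_right
  rw [h2, ← h1]
  exact Dvd.intro _ rfl

theorem piHall_card_eq {π : Set ℕ} {A B L : Subgroup G} (hA : IsPiHallOf π A L)
    (hB : IsPiHallOf π B L) : Nat.card A = Nat.card B :=
  Nat.dvd_antisymm (piHall_card_dvd hA hB) (piHall_card_dvd hB hA)

theorem piHall_cop {π : Set ℕ} {A L : Subgroup G} (hA : IsPiHallOf π A L) :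
    (Nat.card A).Coprime (A.relIndex L) :=
  Nat.coprime_of_dvd fun k hk h3 h4 => hA.2.2 k hk (hA.2.1 k hk h3) h4

theorem U_hall (hG : IsMinSimpleOddOrder G) (hM : IsCoatom M) (hKU : IsSigmaDecomposition M K U) :
    IsPiHallOf {q | q.Prime ∧ q ∉ kappa M ∧ q ∉ sigma M} U M := by
  refine ⟨hKU.compl.1, fun p hp hd => ⟨hp, fun hk => ?_, decomp_U_sigma' hG (hU_of hG) hM hKU p hp hd⟩,
    fun p hp hπ hd => ?_⟩
  · exact kappa_not_dvd_card hKU hk (hd.trans (Subgroup.card_dvd_of_le le_sup_left))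
  · rw [Helper23.complIn_relIndex_left hKU.compl, card_K_sup hKU] at hd
    rcases hp.dvd_mul.1 hd with h | h
    · exact hπ.2.1 (hKU.hall.2.1 p hp h)
    · exact hπ.2.2 (sc_primes M hp h)

theorem U_comm (hG : IsMinSimpleOddOrder G) (hM : IsCoatom M) (hKU : IsSigmaDecomposition M K U)
    (hK1 : K ≠ ⊥) (h30 : H1430 G) : IsMulCommutative U := by
  obtain ⟨-, ⟨U₀, hab, hhall, -, -⟩, -⟩ := h30 M hM K hKU.hall hK1
  have hU := U_hall hG hM hKU
  obtain ⟨l, -, hl⟩ := Helper1.hall_conj_rel M (MS_solvable hG hM.1) U₀ U hhall.1 hU.1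
    (piHall_cop hhall) (piHall_card_eq hU hhall)
  have h1 : cj l U₀ = U := hl
  rw [← h1]
  infer_instance

/-! ### the Sylow subgroups of `U` -/

/-- data: `R` is a nontrivial Sylow `s`-subgroup of `U` -/
structure SylU (M K U : Subgroup G) (s : ℕ) (R : Subgroup G) : Prop where
  prime : s.Prime
  dvd : s ∣ Nat.card U
  syl : IsSylowIn s R U

theorem exists_sylU {s : ℕ} (hs : s.Prime) (hd : s ∣ Nat.card U) : ∃ R, SylU M K U s R := by
  haveI : Fact s.Prime := ⟨hs⟩
  obtain ⟨R, hR, -⟩ := exists_isSylowIn_ge (bot_le : (⊥ : Subgroup G) ≤ U) (IsPGroup.of_bot (p := s))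
  exact ⟨R, hs, hd, hR⟩

namespace SylU

variable {s : ℕ} {R : Subgroup G}

theorem le_U (h : SylU M K U s R) : R ≤ U := h.syl.1

theorem ne_bot (h : SylU M K U s R) : R ≠ ⊥ := by
  intro h0
  have h1 := h.syl.2.2
  rw [h0, Subgroup.relIndex_bot_left] at h1
  exact h1 h.dvd

theorem sylM (h : SylU M K U s R) (hG : IsMinSimpleOddOrder G) (hM : IsCoatom M)
    (hKU : IsSigmaDecomposition M K U) : IsSylowIn s R M :=
  isSylowIn_of_hall h.prime hKU.compl.1 (piHall_cop (U_hall hG hM hKU)) h.dvd h.syl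

theorem not_sigma (h : SylU M K U s R) (hG : IsMinSimpleOddOrder G) (hM : IsCoatom M)
    (hKU : IsSigmaDecomposition M K U) : s ∉ sigma M :=
  decomp_U_sigma' hG (hU_of hG) hM hKU s h.prime h.dvd

theorem not_kappa (h : SylU M K U s R) (hKU : IsSigmaDecomposition M K U) : s ∉ kappa M :=
  fun hk => kappa_not_dvd_card hKU hk (h.dvd.trans (Subgroup.card_dvd_of_le le_sup_left))

theorem normalizer_not_le (h : SylU M K U s R) (hG : IsMinSimpleOddOrder G) (hM : IsCoatom M)
    (hKU : IsSigmaDecomposition M K U) : ¬ normalizer (R : Set G) ≤ M := by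
  haveI : Fact s.Prime := ⟨h.prime⟩
  intro hN
  exact h.not_sigma hG hM hKU (mem_sigma_iff.2
    ⟨h.dvd.trans (Subgroup.card_dvd_of_le hKU.compl.1), R, h.sylM hG hM hKU, hN⟩)

theorem cent_eq_bot (h : SylU M K U s R) (hG : IsMinSimpleOddOrder G) (hM : IsCoatom M)
    (hKU : IsSigmaDecomposition M K U) : sigmaCore M ⊓ centralizer (R : Set G) = ⊥ := by
  haveI : Fact s.Prime := ⟨h.prime⟩
  have hsM : s ∣ Nat.card M := h.dvd.trans (Subgroup.card_dvd_of_le hKU.compl.1)
  have hRM := h.sylM hG hM hKU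
  have h29 := (Cfsg.Agent.S1429.result hG M hM
    (fun hall => h.not_kappa hKU (hall s h.prime hsM (h.not_sigma hG hM hKU))) s hsM
    (fun hh => hh.elim (h.not_sigma hG hM hKU) (h.not_kappa hKU)) hRM.toSylow).2.1
  rw [eq_bot_iff, ← h29]
  refine inf_le_inf_left _ (centralizer_le ?_)
  have h1 : closure {x : G | x ∈ ((hRM.toSylow : Sylow s M) : Subgroup M).map M.subtype ∧ x ^ s = 1}
      ≤ R := by
    rw [closure_le]
    rintro x ⟨⟨y, hy, rfl⟩, -⟩
    exact hy
  exact h1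

theorem sup_le_normalizer (h : SylU M K U s R) (hKU : IsSigmaDecomposition M K U)
    (hab : IsMulCommutative U) : normalizer (U : Set G) ≤ normalizer (R : Set G) := by
  haveI : Fact s.Prime := ⟨h.prime⟩
  exact le_normalizer_of_sylow_nilpotent le_rfl (isNilpotent_of_comm hab) h.syl

theorem UK_le_normalizer (h : SylU M K U s R) (hKU : IsSigmaDecomposition M K U)
    (hab : IsMulCommutative U) : U ⊔ K ≤ normalizer (R : Set G) :=
  (sup_le le_normalizer hKU.normal).trans (h.sup_le_normalizer hKU hab)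

end SylU

end Cfsg.Agent.Lib.Helper26.BG1363
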