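import Cfsg.Agent.Lib.Helper26.BG1363a

/-!
# Row S1363: a maximal subgroup `H` over `N_G(R)`, `R` a Sylow subgroup of `U`
-/

set_option autoImplicit false

namespace Cfsg.Agent.Lib.Helper26.BG1363

open Subgroup Cfsg
open Cfsg.Agent.Lib
open Cfsg.Agent.Lib.Helper24 Cfsg.Agent.Lib.Helper34 Cfsg.Agent.Lib.Helper31.BG11
open Cfsg.Agent.Lib.Helper34.BG13 Cfsg.Agent.Lib.Helper34.BG16 Cfsg.Agent.Lib.Helper10.BG124
open Cfsg.Agent.Lib.Helper34.BGRows
open Cfsg.Agent.Lib.Helper26.BGTypes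
open scoped Pointwise commutatorElement

universe u

variable {G : Type u} [Group G] [Finite G] {M K U Mst H : Subgroup G}

/-- the configuration `K ≠ 1`, `U ≠ 1` with the partner `M*` -/
structure Cfg (M K U Mst : Subgroup G) : Prop where
  hM : IsCoatom M
  hKU : IsSigmaDecomposition M K U
  hK1 : K ≠ ⊥
  hU1 : U ≠ ⊥
  hMst : IsCoatom Mst
  hKst : K = sigmaCore Mst ⊓ centralizer ((sigmaCore M ⊓ centralizer (K : Set G)) : Set G)
  hKstH : IsPiHallOf (kappa Mst) (sigmaCore M ⊓ centralizer (K : Set G)) Mst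
  hab : IsMulCommutative U
  hkp : (Nat.card K).Prime
  free : ∀ k ∈ K, k ≠ 1 → U ⊓ centralizer ({k} : Set G) = ⊥

namespace Cfg

theorem not_conj_M (c : Cfg M K U Mst) (hG : IsMinSimpleOddOrder G) {s : ℕ} {R : Subgroup G}
    (hR : SylU M K U s R) (hN : normalizer (R : Set G) ≤ H) : ∀ g, H ≠ cj g M := by
  haveI : Fact s.Prime := ⟨hR.prime⟩
  intro g hg
  have hRM := hR.sylM hG c.hM c.hKU
  have hRH : R ≤ H := le_normalizer.trans hN
  have hcard : Nat.card H = Nat.card M := by rw [hg, card_map_conj]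
  have hrel : R.relIndex H = R.relIndex M := by
    have h1 := Helper23.card_mul_relIndex hRH
    rw [hcard, ← Helper23.card_mul_relIndex hRM.1] at h1
    exact Nat.eq_of_mul_eq_mul_left Nat.card_pos h1
  have hs : s ∈ sigma H := mem_sigma_iff.2
    ⟨by rw [hcard]; exact hR.dvd.trans (Subgroup.card_dvd_of_le c.hKU.compl.1), R,
      ⟨hRH, hRM.2.1, by rw [hrel]; exact hRM.2.2⟩, hN⟩
  rw [hg, sigma_cj_iff] at hs
  exact hR.not_sigma hG c.hM c.hKU hs

theorem not_conj_Mst (c : Cfg M K U Mst) (h31 : H1431 G) (h54 : H1354 G) (h68 : H1368 G)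
    (hUK : U ⊔ K ≤ H) : ∀ g, H ≠ cj g Mst := by
  intro g hg
  have hKs1 := (h54 M c.hM K c.hKU.cyclic c.hKU.hall).1
  have h1 := (h31 Mst c.hMst _ c.hKstH hKs1).1 g
  have hKst' : K = sigmaCore Mst ⊓
      centralizer ((sigmaCore M ⊓ centralizer (K : Set G) : Subgroup G) : Set G) := c.hKst
  rw [← hKst'] at h1
  have hgM : g ∈ Mst := by
    by_contra hgn
    have h2 := h1 hgn
    apply c.hK1
    rw [eq_bot_iff, ← h2]
    have h5 : K ≤ cj g Mst := hg ▸ (le_sup_right.trans hUK)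
    exact le_inf le_rfl h5
  have hH : H = Mst := by rw [hg]; exact map_conj_eq_self_of_mem hgM
  have h3 := (h68 M c.hM K U c.hKU c.hK1 Mst c.hMst c.hKst c.hKstH).1
  apply c.hU1
  rw [eq_bot_iff, ← c.hKU.compl.2.2.1]
  refine le_inf le_rfl ?_
  have h4 : U ≤ M ⊓ Mst := le_inf c.hKU.compl.1 (hH ▸ (le_sup_left.trans hUK))
  rw [h3] at h4
  exact h4.trans (sup_le_sup_left inf_le_left K)

theorem k_mem_sigma_Mst (c : Cfg M K U Mst) : Nat.card K ∈ sigma Mst :=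
  sc_primes Mst c.hkp (Subgroup.card_dvd_of_le (c.hKst.le.trans inf_le_left))

theorem k_not_sigma (c : Cfg M K U Mst) (h78 : H1378 G) (hH : IsCoatom H)
    (hnc : ∀ g, H ≠ cj g Mst) : Nat.card K ∉ sigma H := by
  intro hk
  obtain ⟨g, hg⟩ := h78.2 Mst H c.hMst hH ⟨_, c.k_mem_sigma_Mst, hk⟩
  exact hnc g hg

theorem kappa_empty (c : Cfg M K U Mst) (h69 : H1369 G) (hH : IsCoatom H)
    (hncM : ∀ g, H ≠ cj g M) (hnc : ∀ g, H ≠ cj g Mst) : ¬ (kappa H).Nonempty := by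
  intro hne
  obtain ⟨g, hg | hg⟩ := (h69 M c.hM K U c.hKU c.hK1 Mst c.hMst c.hKst c.hKstH).2 H hH hne
  · exact hncM g hg
  · exact hnc g hg

end Cfg

theorem sc_nil_of_kappa_empty (hH : IsCoatom H) (h51 : H1351 G) (h52 : H1352 G) (h57 : H1357 G)
    (hk : ¬ (kappa H).Nonempty) : Group.IsNilpotent (sigmaCore H) := by
  by_cases hne : fittingHallOf H = sigmaCore H
  · rw [← hne]; exact fh_nil H
  · exfalso
    obtain ⟨K', U', hKU'⟩ := exists_decomp hH h51 h52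
    have hp := (h57 H hH K' U' hKU' hne).2.2
    apply hk
    apply kappa_nonempty hKU'
    intro h0
    rw [h0, Subgroup.card_bot] at hp
    exact Nat.not_prime_one hp

namespace Cfg

/-- `K` acts freely on `H_σ` as soon as some prime of `U` is outside `σ(H)` -/
theorem K_free (c : Cfg M K U Mst) (hG : IsMinSimpleOddOrder G) (h78 : H1378 G) (hH : IsCoatom H)
    (hUK : U ⊔ K ≤ H) (hk : ¬ (kappa H).Nonempty) {s : ℕ} {R : Subgroup G}
    (hR : SylU M K U s R) (hs : s ∉ sigma H) : sigmaCore H ⊓ centralizer (K : Set G) = ⊥ := by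
  have : Fact s.Prime := ⟨hR.prime⟩
  have : Fact (Nat.card K).Prime := ⟨c.hkp⟩
  obtain ⟨L, hL, hsL⟩ := h78.1 s hR.prime (hR.dvd.trans (Subgroup.card_subgroup_dvd_card U))
  have hnc : ∀ g, L ≠ cj g H := by
    intro g hg
    rw [hg, sigma_cj_iff] at hsL
    exact hs hsL
  have hks : Nat.card K ≠ s := by
    intro h
    have h1 : s ∣ Nat.card K := by rw [h]
    exact hR.not_kappa c.hKU (c.hKU.hall.2.1 s hR.prime h1)
  have hact : ⁅R, K⁆ ≠ ⊥ := by
    intro h0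
    obtain ⟨x, hx, hx1⟩ := exists_ne_one_of_ne_bot hR.ne_bot
    obtain ⟨k, hk', hk1⟩ := exists_ne_one_of_ne_bot c.hK1
    have h1 : ⁅x, k⁆ ∈ ⁅R, K⁆ := commutator_mem_commutator hx hk'
    rw [h0, mem_bot, commutatorElement_eq_one_iff_mul_comm] at h1
    have h2 : x ∈ U ⊓ centralizer ({k} : Set G) :=
      ⟨hR.le_U hx, mem_centralizer_singleton_iff.2 h1⟩
    rw [c.free k hk' hk1, mem_bot] at h2
    exact hx1 h2
  obtain ⟨hkσ, -, hrk⟩ := Helper24.BG13BC.star_cor hG hH hL hnc hsL hks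
    (hR.le_U.trans (le_sup_left.trans hUK)) hR.syl.2.1 (le_sup_right.trans hUK) rfl
    (le_sup_right.trans (hR.UK_le_normalizer c.hKU c.hab)) hact
  by_contra hne
  obtain ⟨y, hy, hy1⟩ := exists_ne_one_of_ne_bot hne
  obtain ⟨w, hw, hwo⟩ := exists_orderOf_eq c.hkp (dvd_refl (Nat.card K))
  exact hk ⟨_, mem_kappa_of hG hH c.hkp hkσ hrk (hUK (le_sup_right (a := U) hw)) hwo hy.1 hy1
    (mem_centralizer_iff.1 hy.2 w hw)⟩

end Cfg

end Cfsg.Agent.Lib.Helper26.BG1363
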