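import Cfsg.Agent.Lib.Helper26.CohGrow
import Cfsg.Agent.Lib.Helper81.Compl

/-!
# Tools for Sibley's coherence theorem (Peterfalvi 6.8)
-/

set_option autoImplicit false
set_option linter.unusedSectionVars false

namespace Cfsg.Agent.Lib.Helper26.Sibley

open Cfsg Cfsg.Agent.Lib.Helper3 Cfsg.Agent.Lib.Helper26
open scoped ComplexConjugate
open Cfsg.Agent.S1517 (conj_conj inner_conj_conj R_ON S_gen R_orth char_one_ne_zero)

variable {L : Type*} [Group L] [Fintype L] {G : Type*} [Group G] [Fintype G]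
variable {S : Set (L → ℂ)} {τ : (L → ℂ) → (G → ℂ)} {R : (L → ℂ) → Finset (G → ℂ)}

/-- iterate `extend_with` over a finite conjugation closed set -/
theorem grow_with (hS : IsCoherenceSystem S τ R) (S₀ : Set (L → ℂ)) (T : Finset (L → ℂ))
    (hS₀ : S₀ ⊆ S) (hT : ↑T ⊆ S) (hS₀c : ∀ φ ∈ S₀, conjFun φ ∈ S₀)
    (hTc : ∀ φ ∈ T, conjFun φ ∈ T)
    {τ₀ : (L → ℂ) → (G → ℂ)} (hτ₀ : IsLinearIsometryOn (zspan S₀) τ₀)
    (hag : ∀ α ∈ zspanOn S₀ {1}ᶜ, τ₀ α = τ α) {φ : L → ℂ} (hφ : φ ∈ S₀)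
    (hX : ∀ ψ ∈ T, ψ ∉ S₀ → ∃ (a : ℤ) (X : G → ℂ), ψ 1 = a * φ 1 ∧ IsGeneralizedCharacter G X ∧
      classInner X X = classInner ψ ψ ∧ classInner X (τ₀ φ) = 0 ∧
      τ (ψ - a • φ) = X - a • τ₀ φ) :
    ∃ τ₂ : (L → ℂ) → (G → ℂ), IsLinearIsometryOn (zspan (S₀ ∪ ↑T)) τ₂ ∧
      (∀ α ∈ zspanOn (S₀ ∪ ↑T) {1}ᶜ, τ₂ α = τ α) := by
  classical
  have key : ∀ k : ℕ, ∀ S₁ : Set (L → ℂ), S₀ ⊆ S₁ → S₁ ⊆ S → (∀ φ ∈ S₁, conjFun φ ∈ S₁) →
      ∀ τ₁ : (L → ℂ) → (G → ℂ), IsLinearIsometryOn (zspan S₁) τ₁ →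
      (∀ α ∈ zspanOn S₁ {1}ᶜ, τ₁ α = τ α) → τ₁ φ = τ₀ φ →
      ((↑T : Set (L → ℂ)) \ S₁).ncard ≤ k →
      ∃ τ₂ : (L → ℂ) → (G → ℂ), IsLinearIsometryOn (zspan (S₁ ∪ ↑T)) τ₂ ∧
        (∀ α ∈ zspanOn (S₁ ∪ ↑T) {1}ᶜ, τ₂ α = τ α) := by
    intro k
    induction k with
    | zero =>
      intro S₁ _ _ _ τ₁ h1 h2 _ hk
      have hsub : (↑T : Set (L → ℂ)) ⊆ S₁ := by
        rw [Nat.le_zero, Set.ncard_eq_zero (T.finite_toSet.subset Set.sdiff_subset)] at hk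
        intro ψ hψ
        by_contra hn
        have hm : ψ ∈ (↑T : Set (L → ℂ)) \ S₁ := ⟨hψ, hn⟩
        rw [hk] at hm
        exact hm
      rw [Set.union_eq_left.2 hsub]
      exact ⟨τ₁, h1, h2⟩
    | succ k ih =>
      intro S₁ h01 h1S h1c τ₁ h1 h2 h3 hk
      by_cases hsub : (↑T : Set (L → ℂ)) ⊆ S₁
      · rw [Set.union_eq_left.2 hsub]
        exact ⟨τ₁, h1, h2⟩
      · obtain ⟨ψ, hψT, hψ1⟩ := Set.not_subset.1 hsub
        obtain ⟨a, X, ha, hXg, hXX, hXφ, hτX⟩ := hX ψ hψT (fun h => hψ1 (h01 h))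
        obtain ⟨τ₂, ht1, ht2, -, -, ht5⟩ := extend_with hS h1S h1c h1 h2 (hT hψT) hψ1 (h01 hφ) ha
          hXg hXX (by rw [h3]; exact hXφ) (by rw [h3]; exact hτX)
        have hψcT : conjFun ψ ∈ T := hTc ψ hψT
        have hres := ih (S₁ ∪ {ψ, conjFun ψ}) (h01.trans Set.subset_union_left)
          (by
            rintro x (hx | hx | hx)
            · exact h1S hx
            · rw [hx]; exact hT hψT
            · rw [Set.mem_singleton_iff.1 hx]; exact hT hψcT)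
          (by
            rintro x (hx | hx | hx)
            · exact Or.inl (h1c x hx)
            · rw [hx]; exact Or.inr (Or.inr rfl)
            · rw [Set.mem_singleton_iff.1 hx, conj_conj]; exact Or.inr (Or.inl rfl))
          τ₂ ht1 ht2 (by rw [ht5 φ (mem_zspan (h01 hφ)), h3])
          (by
            refine Nat.le_of_lt_succ (lt_of_lt_of_le ?_ hk)
            apply Set.ncard_lt_ncard _ (T.finite_toSet.subset Set.sdiff_subset)
            rw [Set.ssubset_iff_of_subset]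
            · exact ⟨ψ, ⟨hψT, hψ1⟩, fun h => h.2 (Or.inr (Or.inl rfl))⟩
            · intro ξ hξ
              exact ⟨hξ.1, fun h => hξ.2 (Or.inl h)⟩)
        have heq : S₁ ∪ {ψ, conjFun ψ} ∪ ↑T = S₁ ∪ ↑T := by
          rw [Set.union_assoc]
          congr 1
          apply Set.union_eq_right.2
          rintro x (hx | hx)
          · rw [hx]; exact hψT
          · rw [Set.mem_singleton_iff.1 hx]; exact hψcT
        rw [heq] at hres
        exact hres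
  exact key _ S₀ le_rfl hS₀ hS₀c τ₀ hτ₀ hag rfl le_rfl

/-- the second coherent extension of a conjugate pair -/
theorem swap (hS : IsCoherenceSystem S τ R) {φ : L → ℂ} (hφ : φ ∈ S)
    {τ₀ : (L → ℂ) → (G → ℂ)}
    (hτ₀ : IsLinearIsometryOn (zspan ({φ, conjFun φ} : Set (L → ℂ))) τ₀)
    (hag : ∀ α ∈ zspanOn ({φ, conjFun φ} : Set (L → ℂ)) {1}ᶜ, τ₀ α = τ α) :
    ∃ τ₁ : (L → ℂ) → (G → ℂ), IsLinearIsometryOn (zspan ({φ, conjFun φ} : Set (L → ℂ))) τ₁ ∧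
      (∀ α ∈ zspanOn ({φ, conjFun φ} : Set (L → ℂ)) {1}ᶜ, τ₁ α = τ α) ∧
      τ₁ φ = - τ₀ (conjFun φ) := by
  classical
  have hφc := hS.conj_mem φ hφ
  have hgenS := S_gen hS
  have m1 : φ ∈ zspan ({φ, conjFun φ} : Set (L → ℂ)) := mem_zspan (Or.inl rfl)
  have m2 : conjFun φ ∈ zspan ({φ, conjFun φ} : Set (L → ℂ)) := mem_zspan (Or.inr rfl)
  have g1 := iso_gen hτ₀ m1
  have g2 := iso_gen hτ₀ m2
  obtain ⟨σ₁, hσ₁, hσ₁k⟩ := iso_single (Y := - τ₀ (conjFun φ)) (sys_ne_zero hS hφ) (gen_neg g2)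
    (by rw [classInner_neg_left, classInner_neg_right, neg_neg, iso_inner hτ₀ m2 m2,
      sys_conj_norm hS hφ])
  obtain ⟨σ₂, hσ₂, hσ₂k⟩ := iso_single (Y := - τ₀ φ) (sys_ne_zero hS hφc) (gen_neg g1)
    (by rw [classInner_neg_left, classInner_neg_right, neg_neg, iso_inner hτ₀ m1 m1,
      sys_conj_norm hS hφ])
  have hσ₁1 : σ₁ φ = - τ₀ (conjFun φ) := by simpa using hσ₁k 1
  have hσ₂1 : σ₂ (conjFun φ) = - τ₀ φ := by simpa using hσ₂k 1
  obtain ⟨σ, hσ, hσkey⟩ := glue (X := ({φ} : Set (L → ℂ))) (Y := {conjFun φ})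
    (fun η hη => by rw [Set.mem_singleton_iff.1 hη]; exact hgenS φ hφ)
    (fun η hη => by rw [Set.mem_singleton_iff.1 hη]; exact hgenS _ hφc)
    (fun ξ hξ η hη => by
      rw [Set.mem_singleton_iff.1 hξ, Set.mem_singleton_iff.1 hη]; exact sys_inner_conj hS hφ)
    hσ₁ hσ₂
    (fun ξ hξ η hη => by
      rw [Set.mem_singleton_iff.1 hξ, Set.mem_singleton_iff.1 hη, hσ₁1, hσ₂1,
        classInner_neg_left, classInner_neg_right, neg_neg, iso_inner hτ₀ m2 m1]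
      exact sys_conj_inner hS hφ)
  have hσkl : ∀ k l : ℤ, σ (k • φ + l • conjFun φ) = k • (- τ₀ (conjFun φ)) + l • (- τ₀ φ) := by
    intro k l
    rw [hσkey _ (mem_zspan_singleton.2 ⟨k, rfl⟩) _ (mem_zspan_singleton.2 ⟨l, rfl⟩), hσ₁k, hσ₂k]
  have hpair : ({φ, conjFun φ} : Set (L → ℂ)) = {φ} ∪ {conjFun φ} := rfl
  rw [← hpair] at hσ
  refine ⟨σ, hσ, ?_, by simpa using hσkl 1 0⟩
  intro θ hθ
  obtain ⟨hθs, hθ1⟩ := mem_zspanOn_one.1 hθ
  rw [hpair] at hθs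
  obtain ⟨b1, hb1, b2, hb2, rfl⟩ := mem_zspan_union.1 hθs
  obtain ⟨k, rfl⟩ := mem_zspan_singleton.1 hb1
  obtain ⟨l, rfl⟩ := mem_zspan_singleton.1 hb2
  obtain ⟨d, hd0, hd⟩ := sys_degree hS hφ
  have hkl : l = -k := by
    have h1 : (k : ℂ) * d + (l : ℂ) * d = 0 := by
      simpa [sys_conj_one hS hφ, hd] using hθ1
    have h2 : ((k + l : ℤ) : ℂ) * (d : ℂ) = 0 := by push_cast; linear_combination h1
    have h3 : ((k + l : ℤ) : ℂ) = 0 :=
      (mul_eq_zero.1 h2).resolve_right (by exact_mod_cast hd0.ne')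
    have h4 : k + l = 0 := by exact_mod_cast h3
    omega
  rw [← hag _ hθ, hσkl, iso_add hτ₀ (zspan_zsmul k m1) (zspan_zsmul l m2), iso_zsmul hτ₀ k m1,
    iso_zsmul hτ₀ l m2, hkl]
  module

/-- Bessel's inequality for two orthonormal vectors and integral coefficients -/
theorem bessel_pair (β u v : G → ℂ) (huu : classInner u u = 1) (hvv : classInner v v = 1)
    (huv : classInner u v = 0) {x y N : ℤ} (hx : classInner β u = x) (hy : classInner β v = y)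
    (hN : classInner β β = N) : x ^ 2 + y ^ 2 ≤ N := by
  have h := classInner_self_re_nonneg (β - x • u - y • v)
  have hx' : classInner u β = x := by rw [← classInner_conj_symm, hx, map_intCast]
  have hy' : classInner v β = y := by rw [← classInner_conj_symm, hy, map_intCast]
  have hvu : classInner v u = 0 := by rw [← classInner_conj_symm, huv, map_zero]
  have e : classInner (β - x • u - y • v) (β - x • u - y • v) = ((N - (x ^ 2 + y ^ 2) : ℤ) : ℂ) := by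
    simp only [classInner_sub_left, classInner_sub_right, classInner_zsmul_left,
      classInner_zsmul_right, hx, hy, hx', hy', huu, hvv, huv, hvu, hN]
    push_cast
    ring
  rw [e, Complex.intCast_re] at h
  have h' : (0 : ℤ) ≤ N - (x ^ 2 + y ^ 2) := by exact_mod_cast h
  omega

/-- the arithmetic heart of the gluing step -/
theorem analysis (hS : IsCoherenceSystem S τ R) {S₁ : Set (L → ℂ)} (hS₁ : S₁ ⊆ S)
    (hS₁c : ∀ φ ∈ S₁, conjFun φ ∈ S₁) {τ₀ : (L → ℂ) → (G → ℂ)}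
    (hτ₀ : IsLinearIsometryOn (zspan S₁) τ₀) (hag : ∀ α ∈ zspanOn S₁ {1}ᶜ, τ₀ α = τ α)
    {φ ψ : L → ℂ} (hφ : φ ∈ S₁) (hdeg : ∀ ξ ∈ S₁, ξ 1 = φ 1)
    (hnorm : ∀ ξ ∈ S₁, classInner ξ ξ = 1)
    (hψ : ψ ∈ S) (hψ₁ : ψ ∉ S₁) (hψn : classInner ψ ψ = 1) {q : ℤ} (hq : 2 ≤ q)
    (hψq : ψ 1 = q * φ 1)
    (hdvd : ∃ j : ℤ, classInner (τ (ψ - q • φ)) (τ₀ (conjFun φ)) = ((j * q : ℤ) : ℂ)) :
    classInner (τ (ψ - q • φ)) (τ₀ φ) = ((-q : ℤ) : ℂ) ∨
      (S₁ ⊆ {φ, conjFun φ} ∧ classInner (τ (ψ - q • φ)) (τ₀ (conjFun φ)) = ((q : ℤ) : ℂ)) := by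
  have hτ := hS.isometry
  have hZ₁ := isZMod_zspan S₁
  set β := τ (ψ - q • φ) with hβdef
  have hβm : ψ - q • φ ∈ zspanOn S {1}ᶜ :=
    mem_zspanOn_one.2 ⟨zspan_sub (mem_zspan hψ) (zspan_zsmul _ (mem_zspan (hS₁ hφ))), by
      simp [hψq]⟩
  have hm : ∀ ξ ∈ S₁, ξ ∈ zspan S₁ := fun ξ h => mem_zspan h
  have hψξ : ∀ ξ ∈ S₁, classInner ψ ξ = 0 :=
    fun ξ h => hS.orthogonal ψ hψ ξ (hS₁ h) (fun e => hψ₁ (e ▸ h))
  have hξψ : ∀ ξ ∈ S₁, classInner ξ ψ = 0 :=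
    fun ξ h => hS.orthogonal ξ (hS₁ h) ψ hψ (fun e => hψ₁ (e ▸ h))
  have hββ : classInner β β = ((1 + q ^ 2 : ℤ) : ℂ) := by
    rw [hβdef, iso_inner hτ hβm hβm]
    simp only [classInner_sub_left, classInner_sub_right, classInner_zsmul_left,
      classInner_zsmul_right, hψn, hψξ φ hφ, hξψ φ hφ, hnorm φ hφ]
    push_cast
    ring
  have hdiff : ∀ ξ ∈ S₁, ξ ≠ φ → classInner β (τ₀ ξ) = classInner β (τ₀ φ) + q := by
    intro ξ hξ hne
    have hγ : ξ - φ ∈ zspanOn S₁ {1}ᶜ :=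
      mem_zspanOn_one.2 ⟨zspan_sub (hm ξ hξ) (hm φ hφ), by simp [hdeg ξ hξ]⟩
    have e1 : classInner β (τ₀ (ξ - φ)) = q := by
      rw [hag _ hγ, hβdef, iso_inner hτ hβm (zspanOn_mono _ hS₁ hγ)]
      simp only [classInner_sub_left, classInner_sub_right, classInner_zsmul_left, hψξ ξ hξ,
        hψξ φ hφ, hnorm φ hφ, hS.orthogonal φ (hS₁ hφ) ξ (hS₁ hξ) hne.symm]
      ring
    rw [iso_sub hτ₀ hZ₁ (hm ξ hξ) (hm φ hφ), classInner_sub_right] at e1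
    linear_combination e1
  have hON : ∀ ξ ∈ S₁, ∀ η ∈ S₁, classInner (τ₀ ξ) (τ₀ η) = classInner ξ η :=
    fun ξ hξ η hη => iso_inner hτ₀ (hm ξ hξ) (hm η hη)
  obtain ⟨j, hj⟩ := hdvd
  have hφc := hS₁c φ hφ
  have hcne : conjFun φ ≠ φ := hS.conj_ne φ (hS₁ hφ)
  have hφval : classInner β (τ₀ φ) = (((j - 1) * q : ℤ) : ℂ) := by
    have := hdiff _ hφc hcne
    rw [hj] at this
    push_cast at this ⊢
    linear_combination -this
  have hb := bessel_pair β (τ₀ φ) (τ₀ (conjFun φ)) (by rw [hON _ hφ _ hφ, hnorm φ hφ])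
    (by rw [hON _ hφc _ hφc, hnorm _ hφc])
    (by rw [hON _ hφ _ hφc]; exact sys_inner_conj hS (hS₁ hφ)) hφval hj hββ
  have hq2 : 4 ≤ q ^ 2 := by nlinarith
  have hj01 : j = 0 ∨ j = 1 := by
    by_contra hcon
    push Not at hcon
    have h2 : 2 ≤ (j - 1) ^ 2 + j ^ 2 := by
      rcases lt_or_gt_of_ne hcon.1 with h | h
      · nlinarith
      · have : 2 ≤ j := by omega
        nlinarith
    have h3 : ((j - 1) * q) ^ 2 + (j * q) ^ 2 = ((j - 1) ^ 2 + j ^ 2) * q ^ 2 := by ring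
    rw [h3] at hb
    nlinarith
  rcases hj01 with rfl | rfl
  · left
    rw [hφval]
    push_cast
    ring
  · right
    refine ⟨?_, by rw [hj]; push_cast; ring⟩
    intro ξ hξ
    by_contra hne
    have h1 : ξ ≠ φ := fun h => hne (Or.inl h)
    have h2 : ξ ≠ conjFun φ := fun h => hne (Or.inr h)
    have hξval : classInner β (τ₀ ξ) = ((q : ℤ) : ℂ) := by
      rw [hdiff ξ hξ h1, hφval]
      push_cast
      ring
    have hb2 := bessel_pair β (τ₀ (conjFun φ)) (τ₀ ξ) (by rw [hON _ hφc _ hφc, hnorm _ hφc])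
      (by rw [hON _ hξ _ hξ, hnorm ξ hξ])
      (by rw [hON _ hφc _ hξ]; exact hS.orthogonal _ (hS₁ hφc) ξ (hS₁ hξ) h2.symm) hj hξval hββ
    nlinarith

/-- if the multiplicities in `χ|_L` of the irreducible characters of `L` not containing `Z` in
their kernel are proportional to the degrees, then `χ(1) - χ(z)` is known on `Z^#` -/
theorem key_identity {G : Type*} [Group G] (L : Subgroup G) [Fintype L] (Z : Subgroup L)
    (χ : G → ℂ) (hχ : IsClassFunction G χ)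
    (hprop : ∀ ψ ψ' : L → ℂ, IsIrrCharacter L ψ → IsIrrCharacter L ψ' →
      (∃ z ∈ Z, ψ z ≠ ψ 1) → (∃ z ∈ Z, ψ' z ≠ ψ' 1) →
      ψ' 1 * classInner (fun x : L => χ x) ψ = ψ 1 * classInner (fun x : L => χ x) ψ')
    (ψ₀ : L → ℂ) (hψ₀ : IsIrrCharacter L ψ₀) (hψ₀Z : ∃ z ∈ Z, ψ₀ z ≠ ψ₀ 1) (z : L) (hz : z ∈ Z)
    (hz1 : z ≠ 1) :
    ψ₀ 1 * (χ 1 - χ z) = classInner (fun x : L => χ x) ψ₀ * Nat.card L := by
  classical
  set r : L → ℂ := fun x => χ x with hr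
  have hrcf : IsClassFunction L r := fun g h => by
    have := hχ g h
    simpa [hr] using this
  have e1 := Cfsg.Agent.Lib.Helper81.class_expansion_apply r hrcf 1
  have e2 := Cfsg.Agent.Lib.Helper81.class_expansion_apply r hrcf z
  have hr1 : r 1 = χ 1 := by simp [hr]
  have hrz : r z = χ z := rfl
  have hconj : ∀ lam : IrrCharacter L, conj ((lam : L → ℂ) 1) = (lam : L → ℂ) 1 := by
    intro lam
    obtain ⟨n, _, hn⟩ := irr_degree lam.2
    rw [hn, Complex.conj_natCast]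
  have o1 := Cfsg.Agent.Lib.Helper81.second_orth (1 : L) 1
  have o2 := Cfsg.Agent.Lib.Helper81.second_orth z 1
  have c1 : Nat.card {u : L // u * 1 * u⁻¹ = 1} = Nat.card L := by
    apply Nat.card_congr
    exact Equiv.subtypeUnivEquiv (fun u => by simp)
  have c2 : Nat.card {u : L // u * z * u⁻¹ = 1} = 0 := by
    have : IsEmpty {u : L // u * z * u⁻¹ = 1} := ⟨fun u => hz1 (conj_eq_one_iff.1 u.2)⟩
    exact Nat.card_of_isEmpty
  rw [c1] at o1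
  rw [c2] at o2
  simp only [hconj] at o1 o2
  rw [← hr1, ← hrz, e1, e2, ← Finset.sum_sub_distrib, Finset.mul_sum, ← o1, Finset.mul_sum]
  have o2' : classInner r ψ₀ * ∑ lam : IrrCharacter L, (lam : L → ℂ) z * (lam : L → ℂ) 1 = 0 := by
    rw [o2]; simp
  rw [← sub_zero (∑ lam : IrrCharacter L, classInner r ψ₀ * ((lam : L → ℂ) 1 * (lam : L → ℂ) 1)),
    ← o2', Finset.mul_sum, ← Finset.sum_sub_distrib]
  refine Finset.sum_congr rfl fun lam _ => ?_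
  by_cases hl : ∃ z ∈ Z, (lam : L → ℂ) z ≠ (lam : L → ℂ) 1
  · have := hprop lam ψ₀ lam.2 hψ₀ hl hψ₀Z
    linear_combination ((lam : L → ℂ) 1 - (lam : L → ℂ) z) * this
  · push Not at hl
    rw [hl z hz]
    ring

end Cfsg.Agent.Lib.Helper26.Sibley
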