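import Cfsg.Agent.Lib.Helper26.Sibley

/-!
# Tools for Sibley's coherence theorem (Peterfalvi 6.8), part 2
-/

set_option autoImplicit false
set_option linter.unusedSectionVars false

namespace Cfsg.Agent.Lib.Helper26.Sibley

open Cfsg Cfsg.Agent.Lib.Helper3 Cfsg.Agent.Lib.Helper26
open scoped ComplexConjugate
open Cfsg.Agent.S1517 (conj_conj inner_conj_conj R_ON S_gen R_orth char_one_ne_zero)

section general

variable {L : Type*} [Group L] [Fintype L] {G : Type*} [Group G] [Fintype G]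
variable {S : Set (L → ℂ)} {τ : (L → ℂ) → (G → ℂ)} {R : (L → ℂ) → Finset (G → ℂ)}

/-- images under coherent extensions of different conjugate pairs are orthogonal -/
theorem orth12 (hS : IsCoherenceSystem S τ R) {S₁ S₂ : Set (L → ℂ)}
    {τ₁ τ₂ : (L → ℂ) → (G → ℂ)} (hτ₁ : IsLinearIsometryOn (zspan S₁) τ₁)
    (hag₁ : ∀ α ∈ zspanOn S₁ {1}ᶜ, τ₁ α = τ α) (hτ₂ : IsLinearIsometryOn (zspan S₂) τ₂)
    (hag₂ : ∀ α ∈ zspanOn S₂ {1}ᶜ, τ₂ α = τ α) {ξ ψ : L → ℂ} (hξS : ξ ∈ S) (hψS : ψ ∈ S)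
    (hξ : ξ ∈ S₁) (hξc : conjFun ξ ∈ S₁) (hψ : ψ ∈ S₂) (hψc : conjFun ψ ∈ S₂) (hne1 : ψ ≠ ξ)
    (hne2 : ψ ≠ conjFun ξ) : classInner (τ₁ ξ) (τ₂ ψ) = 0 := by
  have a1 : τ₁ (ξ - conjFun ξ) = τ (ξ - conjFun ξ) := hag₁ _ (mem_zspanOn_one.2
    ⟨zspan_sub (mem_zspan hξ) (mem_zspan hξc), by simp [sys_conj_one hS hξS]⟩)
  have a2 : τ₂ (ψ - conjFun ψ) = τ (ψ - conjFun ψ) := hag₂ _ (mem_zspanOn_one.2
    ⟨zspan_sub (mem_zspan hψ) (mem_zspan hψc), by simp [sys_conj_one hS hψS]⟩)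
  have g1 := iso_gen hτ₁ (mem_zspan hξ)
  have g2 := iso_gen hτ₂ (mem_zspan hψ)
  rw [gen_inner_comm g1 g2,
    coh_proj hS hψS (isZMod_zspan S₂) hτ₂ (mem_zspan hψ) (mem_zspan hψc) a2, classInner_sum_left]
  apply Finset.sum_eq_zero
  intro α hα
  rw [classInner_smul_left, gen_inner_comm (hS.virtual ψ hψS α hα) g1,
    coh_orth hS hψS hξS hne1 hne2 (isZMod_zspan S₁) hτ₁ (mem_zspan hξ) (mem_zspan hξc) a1 α hα,
    mul_zero]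

end general

section subgroup

variable {G : Type*} [Group G] [Fintype G] (L : Subgroup G) [Fintype L]

/-- restriction of a generalized character -/
theorem gen_restrict {χ : G → ℂ} (h : IsGeneralizedCharacter G χ) :
    IsGeneralizedCharacter L (fun x : L => χ x) := by
  obtain ⟨a, b, ha, hb, rfl⟩ := h
  exact ⟨fun x : L => a x, fun x : L => b x, IsCharacter.restrict ha L, IsCharacter.restrict hb L,
    rfl⟩

/-- proportionality of multiplicities -/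
theorem prop_of_orth {S₂ : Set (L → ℂ)} {τ₂ : (L → ℂ) → (G → ℂ)}
    (hτ₂ : IsLinearIsometryOn (zspan S₂) τ₂)
    (hag₂ : ∀ α ∈ zspanOn S₂ {1}ᶜ, τ₂ α = indFun L α)
    (hdeg : ∀ ψ ∈ S₂, ∃ d : ℕ, ψ 1 = d)
    {χ : G → ℂ} (hχ : IsClassFunction G χ) (horth : ∀ ψ ∈ S₂, classInner χ (τ₂ ψ) = 0)
    {ψ ψ' : L → ℂ} (hψ : ψ ∈ S₂) (hψ' : ψ' ∈ S₂) :
    ψ' 1 * classInner (fun x : L => χ x) ψ = ψ 1 * classInner (fun x : L => χ x) ψ' := by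
  obtain ⟨d, hd⟩ := hdeg ψ hψ
  obtain ⟨d', hd'⟩ := hdeg ψ' hψ'
  have m1 : ((d' : ℤ) • ψ) ∈ zspan S₂ := zspan_zsmul _ (mem_zspan hψ)
  have m2 : ((d : ℤ) • ψ') ∈ zspan S₂ := zspan_zsmul _ (mem_zspan hψ')
  have hγ : ((d' : ℤ) • ψ - (d : ℤ) • ψ') ∈ zspanOn S₂ {1}ᶜ :=
    mem_zspanOn_one.2 ⟨zspan_sub m1 m2, by simp [hd, hd', mul_comm]⟩
  have e1 : classInner χ (τ₂ ((d' : ℤ) • ψ - (d : ℤ) • ψ')) = 0 := by
    rw [iso_sub hτ₂ (isZMod_zspan S₂) m1 m2, iso_zsmul hτ₂ _ (mem_zspan hψ),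
      iso_zsmul hτ₂ _ (mem_zspan hψ'), classInner_sub_right, classInner_zsmul_right,
      classInner_zsmul_right, horth ψ hψ, horth ψ' hψ']
    simp
  rw [hag₂ _ hγ, Cfsg.Agent.Lib.Helper15.classInner_indFun_right L _ χ hχ, classInner_sub_right,
    classInner_zsmul_right, classInner_zsmul_right] at e1
  rw [hd, hd']
  push_cast at e1
  linear_combination e1

/-- the divisibility of the multiplicity given by Peterfalvi (6.7) -/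
theorem mult_dvd (Z : Subgroup L) (hZ1 : Z ≠ ⊥) (χ : G → ℂ) (hχ : IsIrrCharacter G χ)
    (hprop : ∀ ψ ψ' : L → ℂ, IsIrrCharacter L ψ → IsIrrCharacter L ψ' →
      (∃ z ∈ Z, ψ z ≠ ψ 1) → (∃ z ∈ Z, ψ' z ≠ ψ' 1) →
      ψ' 1 * classInner (fun x : L => χ x) ψ = ψ 1 * classInner (fun x : L => χ x) ψ')
    (k e q : ℕ) (hk : 0 < k) (he : 0 < e) (hq : 0 < q) (hcard : Nat.card L = k * e)
    (h67 : (∀ z ∈ Z, ∀ z' ∈ Z, z ≠ 1 → z' ≠ 1 → χ z = χ z') → ∀ z ∈ Z, z ≠ 1 →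
      ∃ n d : ℤ, χ z = n ∧ χ 1 = d ∧ (k : ℤ) ∣ d - n)
    (ψ₀ : L → ℂ) (hψ₀ : IsIrrCharacter L ψ₀) (hψ₀Z : ∃ z ∈ Z, ψ₀ z ≠ ψ₀ 1)
    (hψ₀1 : ψ₀ 1 = (e : ℂ) * q) :
    ∃ t : ℤ, classInner (fun x : L => χ x) ψ₀ = ((t * q : ℤ) : ℂ) := by
  have hcf : IsClassFunction G χ := IsCharacter.isClassFunction (IsIrrCharacter.isCharacter hχ)
  have key := key_identity L Z χ hcf hprop ψ₀ hψ₀ hψ₀Z
  have hψ₀ne : ψ₀ 1 ≠ 0 := IsIrrCharacter.apply_one_ne_zero hψ₀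
  have hconst : ∀ z ∈ Z, ∀ z' ∈ Z, z ≠ 1 → z' ≠ 1 → χ z = χ z' := by
    intro z hz z' hz' h1 h1'
    have e1 := key z hz h1
    have e2 := key z' hz' h1'
    have e3 : ψ₀ 1 * (χ z - χ z') = 0 := by linear_combination e2 - e1
    exact sub_eq_zero.1 ((mul_eq_zero.1 e3).resolve_left hψ₀ne)
  obtain ⟨z, hz, hz1⟩ : ∃ z : L, z ∈ Z ∧ z ≠ 1 := by
    obtain ⟨z, hz⟩ := Subgroup.ne_bot_iff_exists_ne_one.1 hZ1
    exact ⟨z, z.2, fun h => hz (Subtype.ext h)⟩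
  obtain ⟨n, d, hn, hd, t, ht⟩ := h67 hconst z hz hz1
  refine ⟨t, ?_⟩
  have e1 := key z hz hz1
  rw [hn, hd, hψ₀1, hcard] at e1
  have hdn : ((d : ℂ) - n) = (k : ℂ) * t := by exact_mod_cast congrArg (Int.cast : ℤ → ℂ) ht
  rw [hdn] at e1
  have hk' : (k : ℂ) ≠ 0 := by exact_mod_cast hk.ne'
  have he' : (e : ℂ) ≠ 0 := by exact_mod_cast he.ne'
  push_cast at e1 ⊢
  have e2 : (k : ℂ) * e * (classInner (fun x : L => χ x) ψ₀ - t * q) = 0 := by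
    linear_combination -e1
  exact sub_eq_zero.1 ((mul_eq_zero.1 e2).resolve_left (mul_ne_zero hk' he'))

end subgroup

end Cfsg.Agent.Lib.Helper26.Sibley
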